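import Cfsg.Agent.Lib.Spor.U52Type.CentZ
import Cfsg.Agent.Lib.Spor.JTwoType.Classes
import Cfsg.Agent.Lib.Spor.JTwoType.Tools
import Cfsg.Agent.Lib.Grp.CoprimeAbelian

/-!
# Balance at the conjugates of the central involution

The centralizer of the central involution has a 2-subgroup which is normal and self-centralizing modulo the odd
core; so an odd subgroup normalised by the centralizer of an involution there lies in the core.
-/

set_option autoImplicit false
set_option linter.unusedSectionVars false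
set_option linter.style.haveILetI false
set_option maxRecDepth 100000

namespace Cfsg.Agent.Spor.U52Type

open Subgroup
open Cfsg.Agent.Spor.JTwoType (θ θ_le θ_odd θ_conj θ_normal)

universe u

variable {G : Type u} [Group G] [Finite G]

namespace Setting

variable {d : Setting G}

theorem subQ_le_C (d : Setting G) : d.subQ ≤ centralizer ({d.z} : Set G) := fun _ hx =>
  mem_centralizer_singleton_iff.2 (d.comm_z (d.subQ_le_S hx))

/-- An odd subgroup of the centralizer normalised by the centralizer of an involution lies in the core. -/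
theorem Fused.odd_le (hd : d.Fused) {U : Subgroup G} {a : G} (ha : a ∈ centralizer ({d.z} : Set G)) (ha2 : a * a = 1)
    (hU : U ≤ centralizer ({d.z} : Set G)) (hUo : Odd (Nat.card ↥U)) (hUa : ∀ x ∈ U, x * a = a * x)
    (hn : ∀ c ∈ centralizer ({d.z} : Set G), c * a = a * c → ∀ x ∈ U, c * x * c⁻¹ ∈ U) : U ≤ θ d.z := by
  classical
  haveI : Fact (Nat.Prime 2) := ⟨Nat.prime_two⟩
  set C := centralizer ({d.z} : Set G) with hCdef
  haveI hOn : (Cfsg.pPrimeCore 2 ↥C).Normal := Grp.pPrimeCore_isNormal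
  set q := QuotientGroup.mk' (Cfsg.pPrimeCore 2 ↥C) with hq
  have hθ : ∀ x : ↥C, (x : G) ∈ θ d.z ↔ q x = 1 := fun x => by
    rw [hq, QuotientGroup.mk'_apply, QuotientGroup.eq_one_iff]
    exact ⟨fun ⟨y, hy, e⟩ => by rwa [← Subtype.ext e], fun hx => ⟨x, hx, rfl⟩⟩
  set R := (d.subQ.subgroupOf C).map q with hR
  set Q := (U.subgroupOf C).map q with hQ
  set P := (zpowers (⟨a, ha⟩ : ↥C)).map q with hP
  have hR2 : IsPGroup 2 ↥R := ((d.S.isPGroup'.to_le d.subQ_le_S).comap_of_injective _ C.subtype_injective).map _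
  have hQc : (Nat.card ↥Q).Coprime 2 := by
    refine Nat.Coprime.coprime_dvd_left (card_map_dvd _ q) ?_
    rw [Nat.card_congr (subgroupOfEquivOfLe hU).toEquiv]
    exact Nat.coprime_two_right.2 hUo
  have hP2 : IsPGroup 2 ↥P := by
    refine IsPGroup.map ?_ q
    obtain ⟨i, -, hi⟩ := (Nat.dvd_prime_pow Nat.prime_two).1 (orderOf_dvd_of_pow_eq_one
      (show (⟨a, ha⟩ : ↥C) ^ 2 ^ 1 = 1 by rw [pow_one, pow_two]; exact Subtype.ext ha2))
    exact IsPGroup.of_card (n := i) (by rw [Nat.card_zpowers, hi])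
  -- the normality of `R`
  have hRO : ∀ x : ↥C, (x : G) ∈ d.subQ ⊔ θ d.z → q x ∈ R := by
    intro x hx
    have hn' : d.subQ ≤ normalizer (θ d.z : Set G) := fun r hr =>
      JTwoType.mem_normalizer_of_cI (by
        rintro _ ⟨y, hy, rfl⟩
        exact θ_normal (mem_centralizer_singleton_iff.1 (d.subQ_le_C hr)) hy)
    rw [← SetLike.mem_coe, Subgroup.coe_mul_of_left_le_normalizer_right _ _ hn'] at hx
    obtain ⟨r, hr, o, ho, e⟩ := hx
    rw [show x = ⟨r, d.subQ_le_C hr⟩ * ⟨o, θ_le _ ho⟩ from Subtype.ext e.symm, map_mul,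
      (hθ ⟨o, θ_le _ ho⟩).1 ho, mul_one]
    exact mem_map_of_mem q (show (⟨r, d.subQ_le_C hr⟩ : ↥C) ∈ d.subQ.subgroupOf C from hr)
  haveI hRn : R.Normal := ⟨fun r hr g => by
    obtain ⟨x, hx, rfl⟩ := hr
    obtain ⟨c, rfl⟩ := QuotientGroup.mk'_surjective _ g
    rw [← map_inv, ← map_mul, ← map_mul]
    exact hRO _ (hd.conj_Q c.2 hx)⟩
  have hnR : ∀ K : Subgroup (↥C ⧸ Cfsg.pPrimeCore 2 ↥C), K ≤ normalizer (R : Set (↥C ⧸ Cfsg.pPrimeCore 2 ↥C)) :=
    fun K => normalizer_eq_top_iff.2 hRn ▸ le_top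
  have hPQ : P ≤ centralizer (Q : Set (↥C ⧸ Cfsg.pPrimeCore 2 ↥C)) := by
    rw [hP, MonoidHom.map_zpowers, zpowers_le, mem_centralizer_iff]
    rintro _ ⟨x, hx, rfl⟩
    rw [← map_mul, ← map_mul]
    exact congrArg q (Subtype.ext (hUa x hx))
  -- the fixed points in `R` centralise the image of `U`
  have hfix : R ⊓ centralizer (P : Set (↥C ⧸ Cfsg.pPrimeCore 2 ↥C)) ≤ centralizer (Q : Set (↥C ⧸ Cfsg.pPrimeCore 2 ↥C)) := by
    rintro _ ⟨⟨r, hr, rfl⟩, hrP⟩
    have hra : q r * q ⟨a, ha⟩ = q ⟨a, ha⟩ * q r :=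
      (mem_centralizer_iff.1 hrP _ (mem_map_of_mem q (mem_zpowers _))).symm
    set A : ↥C := ⟨a, ha⟩ with hA
    have hAA : A * A = 1 := Subtype.ext ha2
    set o := r⁻¹ * A * r * A with ho
    have hoq : q o = 1 := by
      simp only [ho, map_mul, map_inv]
      rw [mul_assoc (q r)⁻¹, ← hra, inv_mul_cancel_left, ← map_mul, hAA, map_one]
    have hflip : A * o * A = o⁻¹ := by
      have hAi : A⁻¹ = A := inv_eq_of_mul_eq_one_right hAA
      rw [ho]
      simp only [mul_inv_rev, inv_inv, hAi, mul_assoc, hAA, mul_one]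
    have hodd : Odd (orderOf o) := by
      have h1 := orderOf_dvd_natCard (⟨o, (QuotientGroup.eq_one_iff o).1 hoq⟩ : ↥(Cfsg.pPrimeCore 2 ↥C))
      rw [Subgroup.orderOf_mk] at h1
      exact (Nat.Coprime.odd_of_right Grp.pPrimeCore_coprime).of_dvd_nat h1
    obtain ⟨k, hk⟩ := hodd
    set e := o ^ (k + 1) with he
    have hee : e * e = o := by
      rw [he, ← pow_add, show k + 1 + (k + 1) = orderOf o + 1 by omega, pow_succ, pow_orderOf_eq_one, one_mul]
    have hAe : A * e * A = e⁻¹ := by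
      have hAi : A⁻¹ = A := inv_eq_of_mul_eq_one_right hAA
      have h1 := (MulAut.conj A).toMonoidHom.map_pow o (k + 1)
      simp only [MulEquiv.coe_toMonoidHom, MulAut.conj_apply, hAi] at h1
      rw [he, h1, hflip, inv_pow]
    have hc : A * (r * e) = r * e * A := by
      have h1 : A * r = r * o * A := by
        rw [ho]; simp only [← mul_assoc, mul_inv_cancel, one_mul]
        simp only [mul_assoc, hAA, mul_one]
      have h2 : A * e = e⁻¹ * A := by rw [← hAe, mul_assoc (A * e), hAA, mul_one]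
      calc A * (r * e) = r * o * (A * e) := by rw [← mul_assoc, h1, mul_assoc]
        _ = r * (e * e) * (e⁻¹ * A) := by rw [h2, hee]
        _ = r * e * A := by group
    have hqc : q (r * e) = q r := by rw [map_mul, he, map_pow, hoq, one_pow, mul_one]
    rw [← hqc, mem_centralizer_iff]
    rintro _ ⟨x, hx, rfl⟩
    -- the commutator lies in both images
    have hx' : q (r * e) * q x * (q (r * e))⁻¹ ∈ Q := by
      rw [← map_inv, ← map_mul, ← map_mul]
      exact mem_map_of_mem q (show (r * e) * x * (r * e)⁻¹ ∈ U.subgroupOf C from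
        hn _ (r * e).2 (congrArg Subtype.val hc).symm x hx)
    have hcR : q (r * e) * q x * (q (r * e))⁻¹ * (q x)⁻¹ ∈ R := by
      have hrR : q (r * e) ∈ R := hqc ▸ mem_map_of_mem q hr
      have := mul_mem hrR (hRn.conj_mem _ (inv_mem hrR) (q x))
      simpa [mul_assoc] using this
    have hcQ : q (r * e) * q x * (q (r * e))⁻¹ * (q x)⁻¹ ∈ Q := mul_mem hx' (inv_mem (mem_map_of_mem q hx))
    obtain ⟨i, hi⟩ := IsPGroup.iff_card.1 hR2
    have hbot : R ⊓ Q = ⊥ := inf_eq_bot_of_coprime (hi ▸ (hQc.pow_right i).symm)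
    have := Subgroup.mem_bot.1 (hbot.le (Subgroup.mem_inf.2 ⟨hcR, hcQ⟩))
    rw [mul_inv_eq_one, mul_inv_eq_iff_eq_mul] at this
    exact this.symm
  have hQR := Grp.thompson_PQ P Q hP2 hQc hPQ R hR2 (hnR P) (hnR Q) hfix
  intro x hx
  set y : ↥C := ⟨x, hU hx⟩
  have hy : q y ∈ Q := mem_map_of_mem q (show y ∈ U.subgroupOf C from hx)
  have hyc : q y ∈ R := by
    refine hRO y (hd.self_Q (hU hx) fun r hr => Or.inl ?_)
    have h2 := mem_centralizer_iff.1 (hQR hy) _ (mem_map_of_mem q (show (⟨r, d.subQ_le_C hr⟩ : ↥C) ∈ d.subQ.subgroupOf C from hr))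
    refine (hθ (y * ⟨r, d.subQ_le_C hr⟩ * y⁻¹ * ⟨r, d.subQ_le_C hr⟩⁻¹)).2 ?_
    simp only [map_mul, map_inv, ← h2, mul_inv_cancel_right, mul_inv_cancel]
  obtain ⟨i, hi⟩ := IsPGroup.iff_card.1 hR2
  have hbot : R ⊓ Q = ⊥ := inf_eq_bot_of_coprime (hi ▸ (hQc.pow_right i).symm)
  exact (hθ y).2 (Subgroup.mem_bot.1 (hbot.le (Subgroup.mem_inf.2 ⟨hyc, hy⟩)))

/-- Balance at commuting conjugates of the central involution. -/
theorem Fused.balance (hd : d.Fused) {a b : G} (ha2 : a * a = 1) (hb : IsConj d.z b) (hab : a * b = b * a) :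
    θ a ⊓ centralizer ({b} : Set G) ≤ θ b := by
  obtain ⟨g, rfl⟩ := _root_.isConj_iff.1 hb
  set a' := g⁻¹ * a * g with ha'
  have ha'C : a' ∈ centralizer ({d.z} : Set G) := mem_centralizer_singleton_iff.2 (by
    calc a' * d.z = g⁻¹ * (a * (g * d.z * g⁻¹)) * g := by rw [ha']; group
      _ = g⁻¹ * (g * d.z * g⁻¹ * a) * g := by rw [hab]
      _ = _ := by rw [ha']; group)
  have hsq : a' * a' = 1 := by
    rw [ha', show g⁻¹ * a * g * (g⁻¹ * a * g) = g⁻¹ * (a * a) * g by group, ha2]; group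
  have key : θ a' ⊓ centralizer ({d.z} : Set G) ≤ θ d.z :=
    hd.odd_le ha'C hsq inf_le_right ((θ_odd a').of_dvd_nat (card_dvd_of_le inf_le_left))
      (fun x hx => mem_centralizer_singleton_iff.1 (θ_le a' hx.1))
      fun c hc hca x hx => mem_inf.2 ⟨θ_normal hca (mem_inf.1 hx).1,
        mul_mem (mul_mem hc (mem_inf.1 hx).2) (inv_mem hc)⟩
  intro x hx
  have h1 : g⁻¹ * x * g ∈ θ a' := by
    have := θ_conj (g := g⁻¹) hx.1
    rwa [inv_inv] at this
  have h2 : g⁻¹ * x * g ∈ centralizer ({d.z} : Set G) := mem_centralizer_singleton_iff.2 (by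
    calc g⁻¹ * x * g * d.z = g⁻¹ * (x * (g * d.z * g⁻¹)) * g := by group
      _ = g⁻¹ * (g * d.z * g⁻¹ * x) * g := by rw [mem_centralizer_singleton_iff.1 hx.2]
      _ = _ := by group)
  have := θ_conj (g := g) (key ⟨h1, h2⟩)
  simpa [mul_assoc] using this

end Setting

end Cfsg.Agent.Spor.U52Type
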