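import Cfsg.Agent.Lib.Spor.U52Type.Balance
import Cfsg.Agent.S0215

/-!
# Centralisers of the central involution with a point and of a product of two points

Both normalise the elementary subgroup of order sixteen, up to the odd cores.
-/

set_option autoImplicit false
set_option linter.unusedSectionVars false
set_option linter.style.haveILetI false
set_option maxRecDepth 100000
set_option maxHeartbeats 1000000

namespace Cfsg.Agent.Spor.U52Type

open Subgroup
open Cfsg.Agent.Spor.JTwoType (θ θ_le θ_odd θ_conj θ_normal cI mem_cI align conj_into)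

universe u

variable {G : Type u} [Group G] [Finite G]

/-- An element moving a 2-subgroup into its product with an odd one can be corrected to normalise it. -/
theorem exists_mul_normalizer {E O : Subgroup G} (hE : IsPGroup 2 ↥E) (hO : Odd (Nat.card ↥O))
    (hEO : E ≤ normalizer (O : Set G)) {g : G} (h : ∀ e ∈ E, g * e * g⁻¹ ∈ E ⊔ O) :
    ∃ o ∈ O, o * g ∈ normalizer (E : Set G) := by
  haveI : Fact (Nat.Prime 2) := ⟨Nat.prime_two⟩
  have hmem : ∀ x ∈ E ⊔ O, ∃ e ∈ E, ∃ o ∈ O, e * o = x := fun x hx => by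
    rw [← SetLike.mem_coe, Subgroup.coe_mul_of_left_le_normalizer_right _ _ hEO] at hx
    exact Set.mem_mul.1 hx
  have hB : cI g E ≤ E ⊔ O := by
    rintro _ ⟨e, he, rfl⟩
    exact h e he
  obtain ⟨k, hk, P, hP, hPM, hEP, hkP⟩ := align (E ⊔ O) (cI g E) E (hE.map _) hB hE le_sup_left
  have hPE : P ≤ E := fun x hx => by
    obtain ⟨e, he, o, ho, rfl⟩ := hmem x (hPM hx)
    have : o ∈ P := by simpa using mul_mem (inv_mem (hEP he)) hx
    rw [JTwoType.two_odd_eq_one hP hO this ho, mul_one]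
    exact he
  obtain ⟨e, he, o, ho, rfl⟩ := hmem k hk
  refine ⟨o, ho, mem_normalizer_fintype fun x hx => ?_⟩
  have h1 : e * o * (g * x * g⁻¹) * (e * o)⁻¹ ∈ E := hPE (hkP (mem_cI (mem_cI hx)))
  have h2 := mul_mem (mul_mem (inv_mem he) h1) he
  show o * g * x * (o * g)⁻¹ ∈ E
  rwa [show o * g * x * (o * g)⁻¹ = e⁻¹ * (e * o * (g * x * g⁻¹) * (e * o)⁻¹) * e by group]

namespace Setting

variable {d : Setting G}

theorem subE_two (d : Setting G) : IsPGroup 2 ↥d.subE := d.S.isPGroup'.to_le d.subE_le_S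

theorem subE_comm_pt {e a : G} (he : e ∈ d.subE) (ha : d.Pt a) : e * a = a * e := d.comm_E he ha.mem_E

/-- An element sending the points into their products with a subgroup it normalises sends all of `E` there. -/
theorem conj_E_le {O : Subgroup G} (hEO : d.subE ≤ normalizer (O : Set G)) {g : G}
    (h : ∀ b, d.Pt b → g * b * g⁻¹ ∈ d.subE ⊔ O) : ∀ e ∈ d.subE, g * e * g⁻¹ ∈ d.subE ⊔ O := by
  intro e he
  rcases d.E_cases he with rfl | hp | ⟨a, b, ha, hb, -, rfl⟩
  · simp
  · exact h e hp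
  · rw [show g * (a * b) * g⁻¹ = g * a * g⁻¹ * (g * b * g⁻¹) by group]
    exact mul_mem (h a ha) (h b hb)

/-- A conjugate of the central involution in a 2-group containing `E` is a point. -/
theorem Fused.pt_of_two_group (hd : d.Fused) {P : Subgroup G} (hP : IsPGroup 2 ↥P) (hEP : d.subE ≤ P) {x : G}
    (hx : x ∈ P) (h : IsConj d.z x) : d.Pt x := by
  classical
  obtain ⟨g, hg⟩ := conj_into d.S hP
  have hmove : ∀ y ∈ P, IsConj d.z y → d.Pt (g * y * g⁻¹) := fun y hy hy' =>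
    hd.pt_of_conj (hg (mem_cI hy)) (hy'.trans (isConj_iff.2 ⟨g, rfl⟩))
  let f : {y : G // d.Pt y} → {y : G // d.Pt y} := fun y =>
    ⟨g * y.1 * g⁻¹, hmove _ (hEP y.2.mem_E) (hd.conj_of_pt y.2)⟩
  have hf : Function.Injective f := fun a b e =>
    Subtype.ext (mul_left_cancel (mul_right_cancel (congrArg Subtype.val e)))
  obtain ⟨y, hy⟩ := (Finite.injective_iff_surjective.1 hf) ⟨_, hmove x hx h⟩
  have e : g * y.1 * g⁻¹ = g * x * g⁻¹ := congrArg Subtype.val hy
  rw [← mul_left_cancel (mul_right_cancel e)]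
  exact y.2

theorem E_le_normalizer_θ {a : G} (ha : a ∈ d.subE) : d.subE ≤ normalizer (θ a : Set G) := fun _ he =>
  mem_normalizer_fintype fun _ hy => θ_normal (d.comm_E he ha) hy

/-- The centraliser of the centre and a point normalises `E`, up to the core of the centraliser of the centre. -/
theorem Fused.split_za (hd : d.Fused) {a g : G} (ha : d.Pt a) (haz : a ≠ d.z) (hgz : g * d.z = d.z * g)
    (hga : g * a = a * g) : ∃ o ∈ θ d.z, o * a = a * o ∧ o * g ∈ normalizer (d.subE : Set G) := by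
  have hEO := d.E_le_normalizer_θ d.z_mem_E
  obtain ⟨o, ho, hn⟩ := exists_mul_normalizer d.subE_two (θ_odd d.z) hEO (g := g)
    (conj_E_le hEO fun b hb => by
      obtain ⟨p, hp, hp'⟩ := hd.pt_image (d.mem_C.2 hgz) ha haz hga hb
      have := mul_mem (mem_sup_left hp.mem_E : p ∈ d.subE ⊔ θ d.z) (mem_sup_right hp' : _ ∈ d.subE ⊔ θ d.z)
      rwa [mul_inv_cancel_left] at this)
  refine ⟨o, ho, ?_, hn⟩
  have h1 : o * a * o⁻¹ ∈ d.subE := by
    have := (mem_normalizer_iff.1 hn _).1 ha.mem_E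
    rwa [mul_inv_rev, show o * g * a * (g⁻¹ * o⁻¹) = o * (g * a * g⁻¹) * o⁻¹ by group, hga, mul_inv_cancel_right]
      at this
  have h2 : o * a * o⁻¹ * a⁻¹ ∈ θ d.z := by
    have := mul_mem ho (θ_normal (d.comm_E ha.mem_E d.z_mem_E) (inv_mem ho) : a * o⁻¹ * a⁻¹ ∈ θ d.z)
    rwa [show o * (a * o⁻¹ * a⁻¹) = o * a * o⁻¹ * a⁻¹ by group] at this
  have h3 := JTwoType.two_odd_eq_one d.subE_two (θ_odd d.z) (mul_mem h1 (inv_mem ha.mem_E)) h2
  exact mul_inv_eq_iff_eq_mul.1 (mul_inv_eq_one.1 h3)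

/-- The common centraliser of two points normalises `E`, up to the core at the first. -/
theorem Fused.split_ab (hd : d.Fused) {a b g : G} (ha : d.Pt a) (hb : d.Pt b) (hne : a ≠ b)
    (hga : g * a = a * g) (hgb : g * b = b * g) :
    ∃ o ∈ θ a, o * b = b * o ∧ o * g ∈ normalizer (d.subE : Set G) := by
  obtain ⟨i, hi, rfl⟩ := ha
  obtain ⟨j, hj, rfl⟩ := hb
  obtain ⟨h, hh, h1, h2⟩ := hd.two i j 512 256 hi hj (isPt_iff.2 (by simp [ptL])) (isPt_iff.2 (by simp [ptL]))
    (fun e => hne (congrArg d.s.φ e)) (by decide)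
  have h1' : h * d.s.φ i * h⁻¹ = d.z := h1
  have hc : ∀ x : G, g * x = x * g → h * g * h⁻¹ * (h * x * h⁻¹) = h * x * h⁻¹ * (h * g * h⁻¹) := fun x hx => by
    rw [show h * g * h⁻¹ * (h * x * h⁻¹) = h * (g * x) * h⁻¹ by group, hx]; group
  obtain ⟨o, ho, hoc, hn⟩ := hd.split_za (a := d.s.φ 256) (g := h * g * h⁻¹)
    ⟨256, isPt_iff.2 (by simp [ptL]), rfl⟩ (fun e => absurd (d.s.inj e) (by decide))
    (h1' ▸ hc _ hga) (h2 ▸ hc _ hgb)
  refine ⟨h⁻¹ * o * h, ?_, ?_, ?_⟩
  · have := θ_conj (g := h⁻¹) ho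
    rwa [inv_inv, show h⁻¹ * d.z * h = d.s.φ i by rw [← h1']; group] at this
  · rw [show d.s.φ j = h⁻¹ * d.s.φ 256 * h by rw [← h2]; group,
      show h⁻¹ * o * h * (h⁻¹ * d.s.φ 256 * h) = h⁻¹ * (o * d.s.φ 256) * h by group, hoc]
    group
  · rw [show h⁻¹ * o * h * g = h⁻¹ * (o * (h * g * h⁻¹)) * h by group]
    exact mul_mem (mul_mem (inv_mem hh) hn) hh

/-- The swap of two points in the normaliser of `E`. -/
theorem Fused.exists_swap (hd : d.Fused) {a b : G} (ha : d.Pt a) (hb : d.Pt b) (hne : a ≠ b) :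
    ∃ t ∈ normalizer (d.subE : Set G), t * a * t⁻¹ = b ∧ t * b * t⁻¹ = a ∧ t * (a * b) = a * b * t := by
  obtain ⟨i, hi, rfl⟩ := ha
  obtain ⟨j, hj, rfl⟩ := hb
  have hij : i ≠ j := fun e => hne (congrArg d.s.φ e)
  obtain ⟨t, ht, h1, h2⟩ := hd.two i j j i hi hj hj hi hij hij.symm
  refine ⟨t, ht, h1, h2, mul_inv_eq_iff_eq_mul.1 ?_⟩
  rw [show t * (d.s.φ i * d.s.φ j) * t⁻¹ = t * d.s.φ i * t⁻¹ * (t * d.s.φ j * t⁻¹) by group, h1, h2]
  exact d.comm_E (d.s.mem_sub.2 (isPt_spec hj).1) (d.s.mem_sub.2 (isPt_spec hi).1)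

variable {a b : G}

/-- The image of the first point is central modulo the core and the product. -/
theorem Fused.central_mod (hd : d.Fused) (ha : d.Pt a) (hb : d.Pt b) (hne : a ≠ b) {g : G}
    (hg : g * (a * b) = a * b * g) :
    g * a * g⁻¹ * a⁻¹ ∈ θ (a * b) ∨ g * a * g⁻¹ * b⁻¹ ∈ θ (a * b) := by
  haveI : Fact (Nat.Prime 2) := ⟨Nat.prime_two⟩
  set H := centralizer ({a * b} : Set G)
  set O := Cfsg.oddCore ↥H
  haveI : O.Normal := Grp.pPrimeCore_isNormal
  have hcab := d.comm_E ha.mem_E hb.mem_E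
  have hb2 : b * b = 1 := by rw [← pow_two, ← hb.orderOf, pow_orderOf_eq_one]
  have ha2 : a * a = 1 := by rw [← pow_two, ← ha.orderOf, pow_orderOf_eq_one]
  have hab2 := (hd.pair_not_conj ha hb hne).1
  have hEH : d.subE ≤ H := fun e he => mem_centralizer_singleton_iff.2 (d.comm_E he (d.pair_mem_E ha hb))
  obtain ⟨P, hP⟩ := (d.subE_two.comap_of_injective H.subtype H.subtype_injective).exists_le_sylow
  set q := QuotientGroup.mk' O
  set aH : ↥H := ⟨a, hEH ha.mem_E⟩
  set cH : ↥H := ⟨a * b, hEH (d.pair_mem_E ha hb)⟩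
  have hinjP : ∀ x ∈ (P : Subgroup ↥H), q x = 1 → x = 1 := fun x hx hx1 =>
    JTwoType.two_odd_eq_one P.isPGroup' (Nat.Coprime.odd_of_right Grp.pPrimeCore_coprime) hx
      ((QuotientGroup.eq_one_iff x).1 hx1)
  have hθ : ∀ x : ↥H, q x = 1 → (x : G) ∈ θ (a * b) := fun x hx =>
    mem_map_of_mem H.subtype ((QuotientGroup.eq_one_iff x).1 hx)
  set K := zpowers (q cH)
  have hKc : K ≤ center (↥H ⧸ O) := zpowers_le.2 (mem_center_iff.2 fun y => by
    obtain ⟨y, rfl⟩ := QuotientGroup.mk'_surjective O y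
    rw [← map_mul, ← map_mul]
    exact congrArg q (Subtype.ext (mem_centralizer_singleton_iff.1 y.2)))
  haveI : K.Normal := ⟨fun k hk y => by rwa [mem_center_iff.1 (hKc hk) y, mul_inv_cancel_right]⟩
  have hcP : cH ∈ (P : Subgroup ↥H) := hP (d.pair_mem_E ha hb)
  have haP : aH ∈ (P : Subgroup ↥H) := hP ha.mem_E
  have hK2 : IsPGroup 2 ↥K := (P.mapSurjective (QuotientGroup.mk'_surjective O)).isPGroup'.to_le
    (zpowers_le.2 (by rw [Sylow.coe_mapSurjective]; exact mem_map_of_mem q hcP))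
  have hcore := JTwoType.oddCore_quotient (G := ↥H ⧸ O) Grp.pPrimeCore_quotient_eq_bot K hKc hK2
  set r := (QuotientGroup.mk' K).comp q
  have hr : Function.Surjective r :=
    (QuotientGroup.mk'_surjective K).comp (QuotientGroup.mk'_surjective O)
  have hr_eq : ∀ {x y : ↥H}, r x = r y → q x = q y ∨ q x = q y * q cH := by
    intro x y e
    have h1 : (q y)⁻¹ * q x ∈ K := QuotientGroup.eq.1 e.symm
    obtain ⟨n, hn⟩ := h1
    have hn' : q cH ^ n = (q y)⁻¹ * q x := hn
    have h2 : q cH ^ (2 : ℤ) = 1 := by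
      rw [zpow_two, ← map_mul, show cH * cH = 1 from Subtype.ext (by
        show a * b * (a * b) = 1
        rw [← pow_two, ← hab2, pow_orderOf_eq_one]), map_one]
    rcases Int.even_or_odd' n with ⟨k, rfl | rfl⟩
    · rw [zpow_mul, h2, one_zpow] at hn'
      exact Or.inl (inv_mul_eq_one.1 hn'.symm).symm
    · rw [zpow_add, zpow_mul, h2, one_zpow, one_mul, zpow_one] at hn'
      exact Or.inr (by rw [hn', mul_inv_cancel_left])
  set T := P.mapSurjective hr
  have hT : (T : Subgroup _) = (P : Subgroup ↥H).map r := Sylow.coe_mapSurjective _ _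
  have hra : orderOf (r aH) = 2 := by
    refine orderOf_eq_prime (by rw [← map_pow, show aH ^ 2 = 1 from Subtype.ext (by
      rw [Subgroup.coe_pow, pow_two]; exact ha2), map_one]) fun h => ?_
    rcases hr_eq (h.trans (map_one r).symm) with h' | h'
    · have := congrArg Subtype.val (hinjP _ haP h')
      exact absurd ha.orderOf (by rw [show a = 1 from this, orderOf_one]; norm_num)
    · rw [map_one, one_mul] at h'
      have := congrArg Subtype.val (hinjP _ (mul_mem haP (inv_mem hcP)) (by rw [map_mul, map_inv, h', mul_inv_cancel]))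
      have e : a * (a * b)⁻¹ = 1 := this
      rw [mul_inv_eq_one] at e
      exact absurd hb.orderOf (by rw [left_eq_mul.1 e, orderOf_one]; norm_num)
  have hiso : ∀ y, y * r aH * y⁻¹ ∈ T → y * r aH * y⁻¹ = r aH := by
    intro y hy
    obtain ⟨x, rfl⟩ := hr y
    rw [← map_inv, ← map_mul, ← map_mul] at hy ⊢
    rw [show ((r (x * aH * x⁻¹) ∈ T) = (r (x * aH * x⁻¹) ∈ (T : Subgroup _))) from rfl, hT] at hy
    obtain ⟨p₀, hp₀, e₀⟩ := hy
    obtain ⟨p, hp, hpx⟩ : ∃ p ∈ (P : Subgroup ↥H), q p = q (x * aH * x⁻¹) := by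
      rcases hr_eq e₀.symm with h | h
      · exact ⟨p₀, hp₀, h.symm⟩
      · exact ⟨p₀ * cH, mul_mem hp₀ hcP, by rw [map_mul, h]⟩
    set u := x * aH * x⁻¹
    set v := u * cH
    have hconj : ∀ w w' : ↥H, w' ∈ (P : Subgroup ↥H) → q w' = q w → IsConj d.z (w : G) →
        d.Pt (w' : G) := by
      intro w w' hw' e hw
      have how : orderOf (w : G) = 2 := by
        obtain ⟨g, hg⟩ := isConj_iff.1 hw
        rw [← hg, show g * d.z * g⁻¹ = MulAut.conj g d.z from rfl, MulEquiv.orderOf_eq, d.orderOf_z]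
      have hw2 : w * w = 1 := Subtype.ext (by
        show (w : G) * w = 1
        rw [← pow_two, ← how, pow_orderOf_eq_one])
      have how' : orderOf (w' : G) = 2 := by
        refine orderOf_eq_prime ?_ fun h1 => ?_
        · rw [pow_two]
          exact congrArg Subtype.val (hinjP _ (mul_mem hw' hw') (by rw [map_mul, e, ← map_mul, hw2, map_one]))
        · have h1' : w' = 1 := Subtype.ext h1
          rw [h1', map_one] at e
          have h2 := Subgroup.orderOf_dvd_natCard _ (hθ w e.symm)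
          rw [how] at h2
          exact Nat.not_even_iff_odd.2 (θ_odd (a * b)) (even_iff_two_dvd.2 h2)
      have hodd : Odd (orderOf ((w : G) * w')) :=
        (θ_odd (a * b)).of_dvd_nat (Subgroup.orderOf_dvd_natCard _
          (hθ (w * w') (by rw [map_mul, e, ← map_mul, hw2, map_one]) : ((w : G) * w') ∈ θ (a * b)))
      exact hd.pt_of_two_group (P.isPGroup'.map H.subtype)
        (fun e he => ⟨⟨e, hEH he⟩, hP (mem_subgroupOf.2 he), rfl⟩) ⟨w', hw', rfl⟩
        (hw.trans (conj_of_odd_prod how how' hodd))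
    have hu : IsConj d.z (u : G) := (hd.conj_of_pt ha).trans (isConj_iff.2 ⟨x, rfl⟩)
    have hv : IsConj d.z (v : G) := (hd.conj_of_pt hb).trans (isConj_iff.2 ⟨x, by
      show (x : G) * b * (x : G)⁻¹ = x * a * (x : G)⁻¹ * (a * b)
      rw [mul_assoc ((x : G) * a) (x : G)⁻¹, (Commute.inv_left (mem_centralizer_singleton_iff.1 x.2 :
        (x : G) * (a * b) = a * b * x)).eq, ← mul_assoc, mul_assoc (x : G) a, ← mul_assoc a a b, ha2, one_mul]⟩)
    have h1 := hconj u p hp hpx hu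
    have h2 := hconj v (p * cH) (mul_mem hp hcP) (by rw [map_mul, map_mul, hpx]) hv
    have hp2 : (p : G) * p = 1 := by rw [← pow_two, ← h1.orderOf, pow_orderOf_eq_one]
    have e : (p : G) * ((p : G) * (a * b)) = a * b := by rw [← mul_assoc, hp2, one_mul]
    have hne' : (p : G) ≠ (p : G) * (a * b) := fun h => by
      rw [left_eq_mul.1 h, orderOf_one] at hab2; norm_num at hab2
    show r u = r aH
    have hru : r u = r p := by
      show QuotientGroup.mk' K (q u) = QuotientGroup.mk' K (q p)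
      rw [hpx]
    rw [hru]
    rcases hd.pair_eq h1 h2 ha hb hne' hne e with ⟨e', -⟩ | ⟨e', -⟩
    · rw [show p = aH from Subtype.ext e']
    · have hp' : p = aH * cH := Subtype.ext (by
        show (p : G) = a * (a * b)
        rw [e', ← mul_assoc, ha2, one_mul])
      rw [hp', map_mul, show r cH = 1 from (QuotientGroup.eq_one_iff (q cH)).2 (mem_zpowers _), mul_one]
  obtain ⟨N, hN, hNo, hNc⟩ := S0215.result T (r aH) hra
    (show r aH ∈ (T : Subgroup _) from hT ▸ mem_map_of_mem r haP) hiso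
  have hbot : N = ⊥ := le_bot_iff.1 (hcore ▸ le_sSup ⟨hN, Nat.coprime_two_right.2 hNo⟩)
  have hcomm := mul_inv_eq_one.1 (mem_bot.1 (hbot ▸ hNc (r ⟨g, mem_centralizer_singleton_iff.2 hg⟩)))
  set gH : ↥H := ⟨g, mem_centralizer_singleton_iff.2 hg⟩
  have hcomm' : r (gH * aH * gH⁻¹) = r aH := by
    rw [map_mul, map_mul, map_inv]
    refine mul_inv_eq_iff_eq_mul.2 ?_
    exact (mul_inv_eq_iff_eq_mul.1 hcomm).symm
  rcases hr_eq hcomm' with h | h
  · exact Or.inl (hθ (gH * aH * gH⁻¹ * aH⁻¹) (by rw [map_mul, map_inv, h, mul_inv_cancel]))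
  · refine Or.inr ?_
    have h' := hθ (gH * aH * gH⁻¹ * (aH * cH)⁻¹) (by rw [map_mul, map_inv, h, ← map_mul, mul_inv_cancel])
    have e : a * (a * b) = b := by rw [← mul_assoc, ha2, one_mul]
    simp only [Subgroup.coe_mul, Subgroup.coe_inv] at h'
    rwa [show ((aH : G) * (cH : G)) = b from e] at h'

/-- The core at one point commuting with the other lies in the core at their product. -/
theorem Fused.core_pair_le (hd : d.Fused) (ha : d.Pt a) (hb : d.Pt b) (hne : a ≠ b) :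
    θ a ⊓ centralizer ({b} : Set G) ≤ θ (a * b) := by
  haveI : Fact (Nat.Prime 2) := ⟨Nat.prime_two⟩
  set H := centralizer ({a * b} : Set G)
  set O := Cfsg.oddCore ↥H
  haveI : O.Normal := Grp.pPrimeCore_isNormal
  set q := QuotientGroup.mk' O
  have haH : a ∈ H := mem_centralizer_singleton_iff.2 (d.comm_E ha.mem_E (d.pair_mem_E ha hb))
  have hbH : b ∈ H := mem_centralizer_singleton_iff.2 (d.comm_E hb.mem_E (d.pair_mem_E ha hb))
  have hXH : θ a ⊓ centralizer ({b} : Set G) ≤ H := fun x hx => mem_centralizer_singleton_iff.2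
    ((Commute.mul_right (mem_centralizer_singleton_iff.1 (θ_le a hx.1) : Commute x a)
      (mem_centralizer_singleton_iff.1 hx.2 : Commute x b)).eq)
  set aH : ↥H := ⟨a, haH⟩
  set cH : ↥H := ⟨a * b, mem_centralizer_singleton_iff.2 rfl⟩
  set M := centralizer ({q aH} : Set (↥H ⧸ O))
  have hlift : ∀ m ∈ M, ∃ x : ↥H, q x = m ∧ (x : G) * a = a * x ∧ (x : G) * b = b * x := by
    intro m hm
    obtain ⟨x, rfl⟩ := QuotientGroup.mk'_surjective O m
    have ha2 : aH * aH = 1 := Subtype.ext (by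
      show a * a = 1
      rw [← pow_two, ← ha.orderOf, pow_orderOf_eq_one])
    have ho : x⁻¹ * aH * x * aH ∈ O := by
      refine (QuotientGroup.eq_one_iff _).1 ?_
      show q (x⁻¹ * aH * x * aH) = 1
      rw [map_mul, map_mul, map_mul, map_inv, mul_assoc (q x)⁻¹, ← mem_centralizer_singleton_iff.1 hm,
        inv_mul_cancel_left, ← map_mul, ha2, map_one]
    obtain ⟨u, hu, hc⟩ := JTwoType.exists_mul_comm ha2
      ((Nat.Coprime.odd_of_right Grp.pPrimeCore_coprime).of_dvd_nat (Subgroup.orderOf_dvd_natCard O ho))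
    refine ⟨x * u, ?_, congrArg Subtype.val hc, ?_⟩
    · rw [map_mul, show q u = 1 from (QuotientGroup.eq_one_iff u).2 (zpowers_le.2 ho hu), mul_one]
    · have h1 : ((x * u : ↥H) : G) * (a * b) = a * b * ((x * u : ↥H) : G) :=
        mem_centralizer_singleton_iff.1 (x * u).2
      have h2 : ((x * u : ↥H) : G) * a = a * ((x * u : ↥H) : G) := congrArg Subtype.val hc
      rw [← mul_assoc, h2, mul_assoc, mul_assoc a b] at h1
      exact mul_left_cancel h1
  haveI hMn : M.Normal := ⟨fun m hm y => by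
    obtain ⟨y, rfl⟩ := QuotientGroup.mk'_surjective O y
    have hcent : ∀ w, q cH * w = w * q cH := fun w => by
      obtain ⟨w, rfl⟩ := QuotientGroup.mk'_surjective O w
      rw [← map_mul, ← map_mul]
      exact congrArg q (Subtype.ext (mem_centralizer_singleton_iff.1 w.2).symm)
    have key : ∀ w, q y⁻¹ * q aH * (q y⁻¹)⁻¹ = w → m * w = w * m →
        q y * m * (q y)⁻¹ * q aH = q aH * (q y * m * (q y)⁻¹) := by
      intro w hw hmw
      rw [← hw, map_inv, inv_inv] at hmw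
      calc q y * m * (q y)⁻¹ * q aH = q y * (m * ((q y)⁻¹ * q aH * q y)) * (q y)⁻¹ := by group
        _ = q y * ((q y)⁻¹ * q aH * q y * m) * (q y)⁻¹ := by rw [hmw]
        _ = _ := by group
    refine mem_centralizer_singleton_iff.2 ?_
    have hma := mem_centralizer_singleton_iff.1 hm
    rcases hd.central_mod ha hb hne (g := ((y⁻¹ : ↥H) : G)) (mem_centralizer_singleton_iff.1 (y⁻¹).2) with h | h
    · refine key (q aH) ?_ hma
      rw [← map_inv, ← map_mul, ← map_mul, ← mul_inv_eq_one, ← map_inv, ← map_mul]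
      obtain ⟨o, ho, e⟩ := h
      have e' : (o : ↥H) = y⁻¹ * aH * y⁻¹⁻¹ * aH⁻¹ := Subtype.ext e
      exact (QuotientGroup.eq_one_iff _).2 (e' ▸ ho)
    · refine key (q aH * q cH) ?_ ?_
      · rw [← map_inv, ← map_mul, ← map_mul, ← map_mul, ← mul_inv_eq_one, ← map_inv, ← map_mul]
        obtain ⟨o, ho, e⟩ := h
        have e' : (o : ↥H) = y⁻¹ * aH * y⁻¹⁻¹ * (aH * cH)⁻¹ := Subtype.ext (by
          refine e.trans ?_
          show _ = ((y⁻¹ : ↥H) : G) * a * ((y⁻¹ : ↥H) : G)⁻¹ * (a * (a * b))⁻¹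
          rw [← mul_assoc a a b, show a * a = 1 by rw [← pow_two, ← ha.orderOf, pow_orderOf_eq_one], one_mul])
        exact (QuotientGroup.eq_one_iff _).2 (e' ▸ ho)
      · rw [← mul_assoc, hma, mul_assoc, ← hcent m, mul_assoc]⟩
  set X := ((θ a ⊓ centralizer ({b} : Set G)).subgroupOf H).map q
  have hXM : X ≤ M := by
    rintro _ ⟨x, hx, rfl⟩
    refine mem_centralizer_singleton_iff.2 ?_
    rw [← map_mul, ← map_mul]
    exact congrArg q (Subtype.ext (mem_centralizer_singleton_iff.1 (θ_le a (mem_subgroupOf.1 hx).1)))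
  have hXn : (X.subgroupOf M).Normal := ⟨by
    rintro ⟨x, hx⟩ hx' ⟨m, hm⟩
    obtain ⟨x, hxX, rfl⟩ := (mem_subgroupOf.1 hx' : x ∈ X)
    obtain ⟨y, rfl, hya, hyb⟩ := hlift m hm
    refine mem_subgroupOf.2 ?_
    show q y * q x * (q y)⁻¹ ∈ X
    rw [← map_inv, ← map_mul, ← map_mul]
    refine mem_map_of_mem q (mem_subgroupOf.2 ⟨θ_normal hya (mem_subgroupOf.1 hxX).1, ?_⟩)
    have h1 : Commute (x : G) b := mem_centralizer_singleton_iff.1 (mem_subgroupOf.1 hxX).2
    exact mem_centralizer_singleton_iff.2 (((Commute.mul_left hyb h1).mul_left (Commute.inv_left hyb)).eq)⟩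
  have hXodd : Odd (Nat.card ↥(X.subgroupOf M)) := by
    rw [Nat.card_congr (subgroupOfEquivOfLe hXM).toEquiv]
    refine (θ_odd a).of_dvd_nat ((card_map_dvd _ _).trans ?_)
    rw [Nat.card_congr (subgroupOfEquivOfLe hXH).toEquiv]
    exact card_dvd_of_le inf_le_left
  have h1 : X.subgroupOf M ≤ Cfsg.oddCore ↥M :=
    le_sSup ⟨hXn, Nat.coprime_two_right.2 hXodd⟩
  have h2 : ((Cfsg.oddCore ↥M).map M.subtype) = ⊥ := by
    refine le_bot_iff.1 ((Grp.pPrimeCore_quotient_eq_bot (p := 2) (G := ↥H)) ▸ le_sSup ⟨inferInstance, ?_⟩)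
    rw [card_map_of_injective M.subtype_injective]
    exact Grp.pPrimeCore_coprime
  intro x hx
  have h3 : q ⟨x, hXH hx⟩ ∈ X := mem_map_of_mem q (mem_subgroupOf.2 hx)
  have h4 : q ⟨x, hXH hx⟩ = 1 := mem_bot.1 (h2 ▸ ⟨⟨_, hXM h3⟩, h1 (mem_subgroupOf.2 h3), rfl⟩)
  exact mem_map_of_mem H.subtype ((QuotientGroup.eq_one_iff (⟨x, hXH hx⟩ : ↥H)).1 h4)

/-- The centraliser of the product of two points normalises `E`, up to its core. -/
theorem Fused.split_q (hd : d.Fused) (ha : d.Pt a) (hb : d.Pt b) (hne : a ≠ b) {g : G}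
    (hg : g * (a * b) = a * b * g) : ∃ o ∈ θ (a * b), o * g ∈ normalizer (d.subE : Set G) := by
  have ha2 : a * a = 1 := by rw [← pow_two, ← ha.orderOf, pow_orderOf_eq_one]
  have key : ∀ x : G, x * (a * b) = a * b * x → x * a * x⁻¹ * a⁻¹ ∈ θ (a * b) →
      ∃ o ∈ θ (a * b), o * x ∈ normalizer (d.subE : Set G) := by
    intro x hx h
    have hxi : x⁻¹ * (a * b) = a * b * x⁻¹ := (Commute.inv_left hx).eq
    have h' : x⁻¹ * a * x * a ∈ θ (a * b) := by
      have hai : a⁻¹ = a := inv_eq_of_mul_eq_one_right ha2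
      have := θ_normal (g := x⁻¹) hxi (inv_mem h)
      rwa [inv_inv, show x⁻¹ * (x * a * x⁻¹ * a⁻¹)⁻¹ * x = x⁻¹ * a * x * a⁻¹ by group, hai] at this
    obtain ⟨u, hu, hc⟩ := JTwoType.exists_mul_comm ha2
      ((θ_odd (a * b)).of_dvd_nat (Subgroup.orderOf_dvd_natCard _ h'))
    have huθ : u ∈ θ (a * b) := zpowers_le.2 h' hu
    have hb' : x * u * b = b * (x * u) := by
      have h1 : Commute (x * u) (a * b) :=
        Commute.mul_left hx (mem_centralizer_singleton_iff.1 (θ_le _ huθ))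
      have h2 := Commute.mul_right (hc : Commute (x * u) a) h1
      rwa [← mul_assoc a a b, ha2, one_mul] at h2
    obtain ⟨o, ho, hob, hn⟩ := hd.split_ab ha hb hne hc hb'
    have hoθ := hd.core_pair_le ha hb hne ⟨ho, mem_centralizer_singleton_iff.2 hob⟩
    refine ⟨o * (x * u * x⁻¹), mul_mem hoθ (θ_normal hx huθ), ?_⟩
    rwa [show o * (x * u * x⁻¹) * x = o * (x * u) by group]
  rcases hd.central_mod ha hb hne hg with h | h
  · exact key g hg h
  · obtain ⟨t, ht, hta, htb, htc⟩ := hd.exists_swap ha hb hne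
    have htgc : t * g * (a * b) = a * b * (t * g) := (Commute.mul_left htc hg).eq
    obtain ⟨o, ho, hn⟩ := key (t * g) htgc (by
      have := θ_normal (g := t) htc h
      rwa [show t * (g * a * g⁻¹ * b⁻¹) * t⁻¹ = t * g * a * (t * g)⁻¹ * (t * b * t⁻¹)⁻¹ by group, htb] at this)
    refine ⟨t⁻¹ * o * t, ?_, ?_⟩
    · have := θ_normal (g := t⁻¹) (Commute.inv_left htc).eq ho
      rwa [inv_inv] at this
    · rw [show t⁻¹ * o * t * g = t⁻¹ * (o * (t * g)) by group]
      exact mul_mem (inv_mem ht) hn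

end Setting

end Cfsg.Agent.Spor.U52Type
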