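import Cfsg.Agent.Lib.Spor.U52Type.CentQuot

/-!
# The subgroup of order 128 is normal in a group with a central involution

Modulo the centre it is strongly closed. A component moved by it would meet it in a four group whose preimage is a
quaternion group, perpendicular to the rest, and no such plane is kept or made perpendicular by the Sylow subgroup.
-/

set_option autoImplicit false
set_option linter.unusedSectionVars false
set_option linter.style.haveILetI false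
set_option maxRecDepth 100000
set_option maxHeartbeats 1000000

namespace Cfsg.Agent.Spor.U52Type

open Subgroup
open Cfsg.Agent.Spor.JTwoType (cI mem_cI card_cI align conj_into)

universe u

attribute [local irreducible] mulS invS conjS inQ centCard sqCard wordQ isPt

theorem plane_code {a b : Fin 1024} (ha : inQ a = true) (ha2 : mulS a a = 512) (hb : inQ b = true)
    (hb2 : mulS b b = 512) (hab : mulS a b ≠ mulS b a) :
    ∃ x, (x = a ∨ x = b) ∧ (∀ y, (y = 0 ∨ y = a ∨ y = b ∨ y = mulS a b) → conjS 4 x ≠ y ∧ conjS 4 x ≠ mulS y 512) ∧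
      (mulS (conjS 4 x) a ≠ mulS a (conjS 4 x) ∨ mulS (conjS 4 x) b ≠ mulS b (conjS 4 x)) := by
  have h0 := of_allCodes plane_ok a
  rw [ha, eqC_iff.2 ha2] at h0
  simp only [Bool.not_true, Bool.false_or] at h0
  have h := of_allCodes h0 b
  rw [hb, eqC_iff.2 hb2] at h
  simp only [Bool.not_true, Bool.false_or, Bool.or_eq_true, eqC_iff, hab, false_or, movedOff, Bool.and_eq_true,
    List.all_eq_true, List.mem_cons, List.not_mem_nil, or_false, Bool.not_eq_true', ← Bool.not_eq_true] at h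
  rcases h with h | h
  · exact ⟨a, Or.inl rfl, h⟩
  · exact ⟨b, Or.inr rfl, h⟩

variable {G : Type u} [Group G] [Finite G]

namespace Ctx

variable (c : Ctx G)

/-- The subgroup of order 128, as a set of elements. -/
def Qset : Set G := c.s.φ '' {n | inQ n = true}

/-- The subgroup of order 128. -/
def Q : Subgroup G := closure c.Qset

theorem Qset_mul_gen {x : G} (hx : x ∈ c.Qset) {g : Fin 1024} (hg : g ∈ genQ) :
    x * c.s.φ g ∈ c.Qset ∧ (x * c.s.φ g = c.s.φ g * x ∨ x * c.s.φ g = c.s.φ g * x * c.s.φ 512) := by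
  obtain ⟨n, hn, rfl⟩ := hx
  have h := of_allCodes Q_mul_ok n
  simp only [show inQ n = true from hn, Bool.not_true, Bool.false_or, List.all_eq_true] at h
  have h1 := h g hg
  simp only [Bool.and_eq_true, Bool.or_eq_true, eqC_iff] at h1
  refine ⟨⟨_, h1.1, (c.s.mul n g).symm⟩, ?_⟩
  simp only [c.s.mul]
  exact h1.2.imp (congrArg c.s.φ) (congrArg c.s.φ)

theorem Qset_z {x : G} (hx : x ∈ c.Qset) : x * c.s.φ 512 ∈ c.Qset := by
  obtain ⟨n, hn, rfl⟩ := hx
  exact ⟨mulS n 512, (inQ_512 n).1.trans hn, (c.s.mul n 512).symm⟩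

theorem genQ_Qset {g : Fin 1024} (hg : g ∈ genQ) : c.s.φ g ∈ c.Qset :=
  ⟨g, List.all_eq_true.1 Q_count.2.2.1 g hg, rfl⟩

theorem one_Qset : (1 : G) ∈ c.Qset := ⟨0, Q_count.1, c.s.one⟩

theorem Q_induction {P : G → Prop} (h1 : P 1) (hg : ∀ x g, g ∈ genQ → x ∈ c.Qset → P x → P (x * c.s.φ g))
    (hz : ∀ x, x ∈ c.Qset → P x → P (x * c.s.φ 512)) {x : G} (hx : x ∈ c.Qset) : P x := by
  obtain ⟨n, hn, rfl⟩ := hx
  have hfold : ∀ (l : List (ℕ × Fin 1024)), (∀ p ∈ l, p.2 ∈ genQ) → ∀ (i : ℕ) (acc : Fin 1024),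
      c.s.φ acc ∈ c.Qset → P (c.s.φ acc) →
      c.s.φ (l.foldl (fun acc p => if Nat.testBit i p.1 then mulS acc p.2 else acc) acc) ∈ c.Qset ∧
        P (c.s.φ (l.foldl (fun acc p => if Nat.testBit i p.1 then mulS acc p.2 else acc) acc)) := by
    intro l
    induction l with
    | nil => intro _ i acc h h'; exact ⟨h, h'⟩
    | cons p l ih =>
      intro hl i acc h h'
      rw [List.foldl_cons]
      refine ih (fun q hq => hl q (List.mem_cons_of_mem _ hq)) i _ ?_ ?_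
      · split
        · rw [← c.s.mul]; exact (c.Qset_mul_gen h (hl p (List.mem_cons_self ..))).1
        · exact h
      · split
        · rw [← c.s.mul]; exact hg _ _ (hl p (List.mem_cons_self ..)) h h'
        · exact h'
  have hw : c.s.φ (wordQ (idxQ n)) ∈ c.Qset ∧ P (c.s.φ (wordQ (idxQ n))) := by
    unfold wordQ
    refine hfold _ (fun p hp => (List.of_mem_zip hp).2) _ 0 ?_ ?_
    · rw [c.s.one]; exact c.one_Qset
    · rw [c.s.one]; exact h1
  have h := of_allCodes Q_word_ok n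
  simp only [show inQ n = true from hn, Bool.not_true, Bool.false_or, Bool.or_eq_true, eqC_iff] at h
  rcases h with h | h <;> rw [h]
  · exact hw.2
  · rw [← c.s.mul]; exact hz _ hw.1 hw.2

theorem z_sq : c.s.φ 512 * c.s.φ 512 = 1 := c.s.sq.2 (by unfold mulS; decide +kernel)

theorem Qset_mul {x y : G} (hx : x ∈ c.Qset) (hy : y ∈ c.Qset) :
    x * y ∈ c.Qset ∧ (x * y = y * x ∨ x * y = y * x * c.s.φ 512) := by
  refine c.Q_induction (P := fun y => x * y ∈ c.Qset ∧ (x * y = y * x ∨ x * y = y * x * c.s.φ 512)) ?_ ?_ ?_ hy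
  · exact ⟨(mul_one x).symm ▸ hx, Or.inl (by simp)⟩
  · rintro y g hg hy ⟨h1, h2⟩
    obtain ⟨hxy, h3⟩ := c.Qset_mul_gen h1 hg
    refine ⟨by rw [← mul_assoc]; exact hxy, ?_⟩
    obtain ⟨-, h4⟩ := c.Qset_mul_gen hx hg
    rcases h2 with e | e <;> rcases h4 with e' | e'
    · exact Or.inl (by rw [← mul_assoc, e, mul_assoc, e', ← mul_assoc])
    · exact Or.inr (by rw [← mul_assoc, e, mul_assoc y x, e']; group)
    · refine Or.inr ?_
      rw [← mul_assoc, e, mul_assoc (y * x), ← c.hz (c.s.φ g), ← mul_assoc, mul_assoc y x, e']; group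
    · refine Or.inl ?_
      rw [← mul_assoc, e, mul_assoc (y * x), ← c.hz (c.s.φ g), ← mul_assoc, mul_assoc y x, e',
        show y * (c.s.φ g * x * c.s.φ 512) * c.s.φ 512 = y * (c.s.φ g * x) * (c.s.φ 512 * c.s.φ 512) by group,
        c.z_sq, mul_one, mul_assoc y]
  · rintro y hy ⟨h1, h2⟩
    refine ⟨by rw [← mul_assoc]; exact c.Qset_z h1, ?_⟩
    rcases h2 with e | e
    · exact Or.inl (by rw [← mul_assoc, e, mul_assoc, c.hz, ← mul_assoc])
    · exact Or.inr (by rw [← mul_assoc, e, mul_assoc y (c.s.φ 512) x, ← c.hz x, ← mul_assoc])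

theorem mem_Q {x : G} : x ∈ c.Q ↔ x ∈ c.Qset := by
  refine ⟨fun h => ?_, fun h => subset_closure h⟩
  induction h using closure_induction with
  | mem y hy => exact hy
  | one => exact c.one_Qset
  | mul a b _ _ iha ihb => exact (c.Qset_mul iha ihb).1
  | inv a _ iha =>
    obtain ⟨n, hn, rfl⟩ := iha
    exact ⟨invS n, (inQ_sq hn).2, (c.s.inv n).symm⟩

theorem φ_mem_Q {n : Fin 1024} : c.s.φ n ∈ c.Q ↔ inQ n = true :=
  ⟨fun h => by obtain ⟨m, hm, e⟩ := c.mem_Q.1 h; exact c.s.inj e ▸ hm, fun h => c.mem_Q.2 ⟨n, h, rfl⟩⟩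

theorem z_mem_Q : c.s.φ 512 ∈ c.Q := c.φ_mem_Q.2 Q_count.2.1

theorem Q_le_S : c.Q ≤ (c.S : Subgroup G) := fun x hx => by
  obtain ⟨n, -, rfl⟩ := c.mem_Q.1 hx
  exact c.s.mem n

theorem comm_Q {x y : G} (hx : x ∈ c.Q) (hy : y ∈ c.Q) : x * y = y * x ∨ x * y = y * x * c.s.φ 512 :=
  (c.Qset_mul (c.mem_Q.1 hx) (c.mem_Q.1 hy)).2

theorem sq_Q {x : G} (hx : x ∈ c.Q) : x * x = 1 ∨ x * x = c.s.φ 512 := by
  obtain ⟨n, hn, rfl⟩ := c.mem_Q.1 hx
  rw [c.s.mul, c.s.eq_one, c.s.inj.eq_iff]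
  exact (inQ_sq hn).1

/-- An element not commuting with two elements commutes with their product. -/
theorem comm_mul {x a b : G} (hx : x ∈ c.Q) (ha : a ∈ c.Q) (hb : b ∈ c.Q) (h1 : x * a ≠ a * x)
    (h2 : x * b ≠ b * x) : x * (a * b) = a * b * x := by
  have e1 := (c.comm_Q hx ha).resolve_left h1
  have e2 := (c.comm_Q hx hb).resolve_left h2
  rw [← mul_assoc, e1, mul_assoc (a * x), ← c.hz b, ← mul_assoc, mul_assoc a x b, e2,
    show a * (b * x * c.s.φ 512) * c.s.φ 512 = a * b * x * (c.s.φ 512 * c.s.φ 512) by group, c.z_sq, mul_one]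

/-- An element commuting with the whole subgroup is central. -/
theorem Q_center_eq {x : G} (hx : x ∈ c.Q) (h : ∀ y ∈ c.Q, x * y = y * x) : x = 1 ∨ x = c.s.φ 512 := by
  obtain ⟨n, hn, rfl⟩ := c.mem_Q.1 hx
  have h1 := of_allCodes Q_center_ok n
  simp only [show inQ n = true from hn, Bool.not_true, Bool.false_or, Bool.or_eq_true, eqC_iff, List.any_eq_true,
    Bool.not_eq_true', ← Bool.not_eq_true] at h1
  rcases h1 with (rfl | rfl) | ⟨g, hg, hne⟩
  · exact Or.inl c.s.one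
  · exact Or.inr rfl
  · refine absurd (c.s.inj ?_) hne
    rw [← c.s.mul, ← c.s.mul]
    exact h _ (c.φ_mem_Q.2 (List.all_eq_true.1 Q_count.2.2.1 g hg))

theorem S_normalizes : (c.S : Subgroup G) ≤ normalizer (c.Q : Set G) := by
  intro g hg
  obtain ⟨k, rfl⟩ := c.s.surj g hg
  refine mem_normalizer_fintype fun x hx => ?_
  obtain ⟨n, hn, rfl⟩ := c.mem_Q.1 hx
  refine c.Q_induction (P := fun y => c.s.φ k * y * (c.s.φ k)⁻¹ ∈ c.Q) ?_ ?_ ?_ ⟨n, hn, rfl⟩
  · simp [one_mem]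
  · intro y g hg _ hy
    have h := of_allCodes Q_conj_ok k
    simp only [List.all_eq_true] at h
    rw [show c.s.φ k * (y * c.s.φ g) * (c.s.φ k)⁻¹ = c.s.φ k * y * (c.s.φ k)⁻¹ * (c.s.φ k * c.s.φ g * (c.s.φ k)⁻¹)
      by group, c.s.conj]
    exact mul_mem hy (c.φ_mem_Q.2 (h g hg))
  · intro y _ hy
    rw [show c.s.φ k * (y * c.s.φ 512) * (c.s.φ k)⁻¹ = c.s.φ k * y * (c.s.φ k)⁻¹ * (c.s.φ k * c.s.φ 512 * (c.s.φ k)⁻¹)
      by group, c.hz, mul_inv_cancel_right]
    exact mul_mem hy c.z_mem_Q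

/-- The centre. -/
def Z : Subgroup G := zpowers (c.s.φ 512)

theorem Z_central : c.Z ≤ center G := zpowers_le.2 (mem_center_iff.2 c.hz)

instance Z_normal : c.Z.Normal := ⟨fun z hz g => by
  rw [mem_center_iff.1 (c.Z_central hz) g, mul_inv_cancel_right]; exact hz⟩

theorem mem_Z {g : G} : g ∈ c.Z ↔ g = 1 ∨ g = c.s.φ 512 := by
  constructor
  · intro h
    obtain ⟨n, hn⟩ := mem_zpowers_iff.1 h
    rcases Int.even_or_odd n with ⟨j, rfl⟩ | ⟨j, rfl⟩
    · exact Or.inl (by rw [← hn, zpow_add, ← (Commute.refl (c.s.φ 512)).mul_zpow, c.z_sq, one_zpow])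
    · exact Or.inr (by rw [← hn, zpow_add, zpow_mul, zpow_ofNat, pow_two, c.z_sq, one_zpow, one_mul, zpow_one])
  · rintro (rfl | rfl)
    exacts [one_mem _, mem_zpowers _]

/-- The map onto the quotient. -/
def qm : G →* G ⧸ c.Z := QuotientGroup.mk' c.Z

theorem qm_surj : Function.Surjective c.qm := QuotientGroup.mk'_surjective _

theorem qm_eq {g h : G} : c.qm g = c.qm h ↔ g = h ∨ g = h * c.s.φ 512 := by
  rw [eq_comm, qm, QuotientGroup.mk'_apply, QuotientGroup.mk'_apply, QuotientGroup.eq, c.mem_Z, inv_mul_eq_one,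
    inv_mul_eq_iff_eq_mul]
  exact ⟨fun h => h.imp Eq.symm id, fun h => h.imp Eq.symm id⟩

theorem qm_one {g : G} : c.qm g = 1 ↔ g = 1 ∨ g = c.s.φ 512 := by
  rw [← map_one c.qm, c.qm_eq, one_mul]

/-- The image of the subgroup. -/
def A : Subgroup (G ⧸ c.Z) := c.Q.map c.qm

theorem comap_A : c.A.comap c.qm = c.Q := by
  rw [A, comap_map_eq, qm, QuotientGroup.ker_mk', sup_eq_left]
  exact zpowers_le.2 c.z_mem_Q

theorem qm_mem_A {g : G} : c.qm g ∈ c.A ↔ g ∈ c.Q := by rw [← mem_comap, c.comap_A]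

theorem A_sq {a : G ⧸ c.Z} (ha : a ∈ c.A) : a * a = 1 := by
  obtain ⟨x, hx, rfl⟩ := ha
  rw [← map_mul, c.qm_one]
  exact c.sq_Q hx

theorem A_comm {a b : G ⧸ c.Z} (ha : a ∈ c.A) (hb : b ∈ c.A) : a * b = b * a := by
  obtain ⟨x, hx, rfl⟩ := ha
  obtain ⟨y, hy, rfl⟩ := hb
  rw [← map_mul, ← map_mul, c.qm_eq]
  exact c.comm_Q hx hy

theorem A_elem : Cfsg.IsElementaryAbelian 2 c.A :=
  ⟨⟨⟨fun a b => Subtype.ext (c.A_comm a.2 b.2)⟩⟩, fun a ha => by rw [pow_two]; exact c.A_sq ha⟩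

/-- The Sylow subgroup of the quotient. -/
noncomputable def T : Sylow 2 (G ⧸ c.Z) := c.S.mapSurjective c.qm_surj

theorem coe_T : (c.T : Subgroup (G ⧸ c.Z)) = (c.S : Subgroup G).map c.qm := Sylow.coe_mapSurjective _ _

theorem strongly : ∀ a ∈ c.A, ∀ h : G ⧸ c.Z, h * a * h⁻¹ ∈ (c.T : Subgroup (G ⧸ c.Z)) → h * a * h⁻¹ ∈ c.A := by
  intro a ha h ht
  obtain ⟨x, hx, rfl⟩ := ha
  obtain ⟨g, rfl⟩ := c.qm_surj h
  rw [← map_inv, ← map_mul, ← map_mul] at ht ⊢
  rw [c.coe_T] at ht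
  obtain ⟨y, hy, e⟩ := ht
  obtain ⟨n, hn, rfl⟩ := c.mem_Q.1 hx
  rw [c.qm_mem_A]
  rcases c.qm_eq.1 e with e | e
  · obtain ⟨m, rfl⟩ := c.s.surj y hy
    rw [← e]
    exact c.φ_mem_Q.2 (c.Q_closed_fusion hn (_root_.isConj_iff.2 ⟨g, e.symm⟩))
  · obtain ⟨m, hm⟩ := c.s.surj _ (mul_mem hy (c.s.mem 512) : y * c.s.φ 512 ∈ (c.S : Subgroup G))
    have e2 : g * c.s.φ n * g⁻¹ = c.s.φ m := by rw [hm, e, mul_assoc _ (c.s.φ 512), c.z_sq, mul_one]
    rw [e2]
    exact c.φ_mem_Q.2 (c.Q_closed_fusion hn (_root_.isConj_iff.2 ⟨g, e2⟩))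

theorem localHyp : Fus.Gold.LocalHyp (G ⧸ c.Z) c.A where
  core := JTwoType.oddCore_quotient c.hO c.Z c.Z_central (c.S.isPGroup'.to_le (zpowers_le.2 (c.s.mem 512)))
  elem := c.A_elem
  closed P hP hAP x hx g hg := by
    obtain ⟨h, hh⟩ := conj_into c.T hP
    have hN : h ∈ normalizer (c.A : Set (G ⧸ c.Z)) :=
      mem_normalizer_fintype fun a ha => c.strongly a ha h (hh (mem_cI (hAP ha)))
    refine (mem_normalizer_iff.1 hN _).2 ?_
    rw [show h * (g * x * g⁻¹) * h⁻¹ = h * g * x * (h * g)⁻¹ by group]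
    refine c.strongly x hx (h * g) ?_
    rw [show h * g * x * (h * g)⁻¹ = h * (g * x * g⁻¹) * h⁻¹ by group]
    exact hh (mem_cI hg)
  comp K hK := by
    haveI := hK.2.2
    exact Fus.Gold.conclusion_all _ hK.2.2 (Fus.Gold.not_comm_quotient hK)

/-- Conjugation in the quotient preserves squares and commutation of the preimages. -/
theorem lift_rel {h : G ⧸ c.Z} {x x' y y' : G} (e : h * c.qm x * h⁻¹ = c.qm x') (e' : h * c.qm y * h⁻¹ = c.qm y') :
    (x * y = y * x ↔ x' * y' = y' * x') ∧ (x * x = 1 ↔ x' * x' = 1) := by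
  obtain ⟨g, rfl⟩ := c.qm_surj h
  rw [← map_inv, ← map_mul, ← map_mul] at e e'
  have key : ∀ {u u' : G}, (u = u' ∨ u = u' * c.s.φ 512) → ∀ {v v' : G}, (v = v' ∨ v = v' * c.s.φ 512) →
      (u * v = v * u ↔ u' * v' = v' * u') ∧ (u * u = 1 ↔ u' * u' = 1) := by
    intro u u' hu v v' hv
    have hc : ∀ w : G, Commute w (c.s.φ 512) := c.hz
    constructor
    · have mv : ∀ p q : G, (p * c.s.φ 512 * q = q * (p * c.s.φ 512)) ↔ p * q = q * p := fun p q => by
        rw [mul_assoc p (c.s.φ 512) q, ← (hc q).eq, ← mul_assoc, ← mul_assoc q p]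
        exact mul_left_inj _
      have mv' : ∀ p q : G, (p * (q * c.s.φ 512) = q * c.s.φ 512 * p) ↔ p * q = q * p := fun p q =>
        ⟨fun k => ((mv q p).1 k.symm).symm, fun k => ((mv q p).2 k.symm).symm⟩
      rcases hu with rfl | rfl <;> rcases hv with rfl | rfl
      · rfl
      · exact mv' _ _
      · exact mv _ _
      · exact (mv _ _).trans (mv' _ _)
    · rcases hu with rfl | rfl
      · rfl
      · rw [show u' * c.s.φ 512 * (u' * c.s.φ 512) = u' * (c.s.φ 512 * u') * c.s.φ 512 by group, ← c.hz u',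
          show u' * (u' * c.s.φ 512) * c.s.φ 512 = u' * u' * (c.s.φ 512 * c.s.φ 512) by group, c.z_sq, mul_one]
  have h1 := key (c.qm_eq.1 e) (c.qm_eq.1 e')
  have hc1 : g * x * g⁻¹ * (g * y * g⁻¹) = g * (x * y) * g⁻¹ := by group
  have hc2 : g * y * g⁻¹ * (g * x * g⁻¹) = g * (y * x) * g⁻¹ := by group
  have hc3 : g * x * g⁻¹ * (g * x * g⁻¹) = g * (x * x) * g⁻¹ := by group
  rw [hc1, hc2, hc3, conj_eq_one_iff] at h1
  exact ⟨by rw [← h1.1]; exact ⟨fun k => by rw [k], fun k => mul_left_cancel (mul_right_cancel k)⟩, h1.2⟩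

/-- The image is normal. -/
theorem A_normal : c.A.Normal := by
  classical
  have hloc := c.localHyp
  by_cases hno : Fus.Gold.movedComps c.A = ∅
  · have h1 := Fus.Gold.local_closure hloc
    rw [hno, sSup_empty, sup_bot_eq] at h1
    exact ⟨fun a ha g => by
      have := h1 (commutator_mem_commutator (mem_top g) ha)
      rw [commutatorElement_def] at this
      simpa using mul_mem this ha⟩
  exfalso
  obtain ⟨K, hK, hKm⟩ := Set.nonempty_iff_ne_empty.2 hno
  have hKm' : ¬ c.A ≤ centralizer (K : Set (G ⧸ c.Z)) := fun h => hKm (Subgroup.le_centralizer_iff.1 h)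
  obtain ⟨E, hE, hEd, hEs, hEt⟩ := Fus.Gold.local_factor hloc hK hKm'
  have hfour := Fus.Gold.local_four hloc hK hKm'
  set B := c.A ⊓ centralizer (K : Set (G ⧸ c.Z)) with hB
  have hBN : B ≤ normalizer (E : Set (G ⧸ c.Z)) := le_trans
    (fun x hx => mem_centralizer_iff.2 fun v hv => c.A_comm (hE hv).1 hx.1) (centralizer_le_normalizer _)
  have hE4 : 4 ≤ Nat.card ↥E := by
    have hBE : B ⊓ E = ⊥ :=
      le_bot_iff.1 ((le_inf inf_le_right (inf_le_left.trans inf_le_right)).trans hEd.le)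
    have h1 := Grp.card_sup_mul_card_inf (H := B) (N := E) hBN
    rw [hEs, hBE, Subgroup.card_bot, mul_one] at h1
    have : 1 ≤ Nat.card ↥B := Nat.card_pos
    by_contra hlt
    nlinarith
  have hEA : E ≤ c.A := fun v hv => (hE hv).1
  have hgB : ∀ g ∈ K, ∀ v ∈ B, g * v * g⁻¹ = v := fun g hg v hv => by
    rw [mem_centralizer_iff.1 hv.2 g hg, mul_inv_cancel_right]
  have hQ : ∀ {x : G}, c.qm x ∈ c.A → x ∈ c.Q := fun h => c.qm_mem_A.1 h
  have hperp : ∀ f, c.qm f ∈ B → ∀ e, c.qm e ∈ E → e * f = f * e := by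
    intro f hf e he
    by_contra hne
    have he1 : c.qm e ≠ 1 := fun k => by
      rcases c.qm_one.1 k with rfl | rfl
      · exact hne (by simp)
      · exact hne (c.hz f).symm
    have hall : ∀ e', c.qm e' ∈ E → c.qm e' ≠ 1 → e' * f ≠ f * e' := fun e' he' he'1 k => by
      obtain ⟨g, hgK, -, -, hg⟩ := hEt _ he' _ he he'1 he1
      exact hne ((c.lift_rel hg (hgB g hgK _ hf)).1.1 k)
    obtain ⟨u, hu, hu1, hue⟩ : ∃ u, u ∈ E ∧ u ≠ 1 ∧ u ≠ c.qm e := by
      haveI : Fintype ↥E := Fintype.ofFinite _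
      rw [Nat.card_eq_fintype_card] at hE4
      by_contra hall'
      push Not at hall'
      have := Finset.card_le_card (show (Finset.univ : Finset ↥E) ⊆ {1, ⟨c.qm e, he⟩} from fun v _ => by
        by_cases hv : (v : G ⧸ c.Z) = 1
        · simp [show v = 1 from Subtype.ext hv]
        · simp [show v = ⟨c.qm e, he⟩ from Subtype.ext (hall' v v.2 hv)])
      rw [Finset.card_univ] at this
      have := this.trans Finset.card_le_two
      omega
    obtain ⟨e', rfl⟩ := c.qm_surj u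
    have hpe : c.qm (e * e') ∈ E := by rw [map_mul]; exact mul_mem he hu
    refine hall _ hpe (fun k => hue ?_) (c.comm_mul (hQ hf.1) (hQ (hEA he)) (hQ (hEA hu))
      (fun k => hne k.symm) (fun k => hall e' hu hu1 k.symm)).symm
    rw [map_mul, mul_eq_one_iff_inv_eq] at k
    rw [← k, inv_eq_of_mul_eq_one_right (c.A_sq (hEA he))]
  have hdec : ∀ x ∈ c.Q, ∃ f e, c.qm f ∈ B ∧ c.qm e ∈ E ∧ c.qm x = c.qm (f * e) := by
    intro x hx
    have hmem : c.qm x ∈ ((B ⊔ E : Subgroup (G ⧸ c.Z)) : Set (G ⧸ c.Z)) := hEs.symm ▸ c.qm_mem_A.2 hx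
    rw [coe_mul_of_left_le_normalizer_right B E hBN] at hmem
    obtain ⟨vB, hvB, vE, hvE, hv⟩ := hmem
    obtain ⟨f, rfl⟩ := c.qm_surj vB
    obtain ⟨e, rfl⟩ := c.qm_surj vE
    exact ⟨f, e, hvB, hvE, by rw [map_mul]; exact hv.symm⟩
  have hzc : ∀ {x y y' : G}, c.qm y = c.qm y' → x * y' = y' * x → x * y = y * x := by
    intro x y y' e h
    rcases c.qm_eq.1 e with rfl | rfl
    · exact h
    · rw [← mul_assoc, h, mul_assoc, c.hz, ← mul_assoc]
  have hcentral : ∀ x ∈ c.Q, (∀ f, c.qm f ∈ B → x * f = f * x) → (∀ e, c.qm e ∈ E → x * e = e * x) →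
      c.qm x = 1 := by
    intro x hx hxB hxE
    refine c.qm_one.2 (c.Q_center_eq hx fun y hy => ?_)
    obtain ⟨f, e, hf, he, hye⟩ := hdec y hy
    refine hzc hye ?_
    rw [← mul_assoc, hxB f hf, mul_assoc, hxE e he, ← mul_assoc]
  obtain ⟨u, hu, hu1⟩ : ∃ u, u ∈ E ∧ u ≠ 1 := by
    by_contra hall
    push Not at hall
    have : E = ⊥ := (eq_bot_iff_forall _).2 hall
    rw [this, Subgroup.card_bot] at hE4
    omega
  obtain ⟨a, rfl⟩ := c.qm_surj u
  obtain ⟨b, hb, hab⟩ : ∃ b, c.qm b ∈ E ∧ a * b ≠ b * a := by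
    by_contra hall
    push Not at hall
    exact hu1 (hcentral a (hQ (hEA hu)) (fun f hf => hperp f hf a hu) hall)
  have hb1 : c.qm b ≠ 1 := fun k => by
    rcases c.qm_one.1 k with rfl | rfl
    · exact hab (by simp)
    · exact hab (c.hz a)
  have haQ := hQ (hEA hu)
  have hbQ := hQ (hEA hb)
  have hroot : ∀ e, c.qm e ∈ E → c.qm e ≠ 1 → e * e = c.s.φ 512 := by
    intro e he he1
    refine (c.sq_Q (hQ (hEA he))).resolve_left fun k => hab ?_
    have hall : ∀ e', c.qm e' ∈ E → c.qm e' ≠ 1 → e' * e' = 1 := fun e' he' he'1 => by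
      obtain ⟨g, -, -, -, hg⟩ := hEt _ he _ he' he1 he'1
      exact (c.lift_rel hg hg).2.1 k
    have ea := hall a hu hu1
    have eb := hall b hb hb1
    by_cases hp : c.qm (a * b) = 1
    · rcases c.qm_one.1 hp with k' | k'
      · rw [eq_inv_of_mul_eq_one_left k', inv_mul_cancel, mul_inv_cancel]
      · have : b = a * c.s.φ 512 := by rw [← k', ← mul_assoc, ea, one_mul]
        rw [this, ← mul_assoc, mul_assoc a (c.s.φ 512) a, ← c.hz a, ← mul_assoc]
    · have eab := hall (a * b) (by rw [map_mul]; exact mul_mem hu hb) hp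
      calc a * b = (a * b)⁻¹ := (inv_eq_of_mul_eq_one_right eab).symm
        _ = b * a := by rw [mul_inv_rev, inv_eq_of_mul_eq_one_right ea, inv_eq_of_mul_eq_one_right eb]
  have hspan : ∀ x, c.qm x ∈ E → c.qm x = 1 ∨ c.qm x = c.qm a ∨ c.qm x = c.qm b ∨ c.qm x = c.qm (a * b) := by
    intro x hx
    by_contra hne
    push Not at hne
    obtain ⟨n1, n2, n3, n4⟩ := hne
    have anti : ∀ e, c.qm e ∈ E → c.qm e ≠ 1 → c.qm x ≠ c.qm e → x * e ≠ e * x := by
      intro e he he1 hxe k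
      have hxe1 : c.qm (x * e) ≠ 1 := fun k' => hxe (by
        rw [map_mul] at k'
        rw [eq_inv_of_mul_eq_one_left k', inv_eq_of_mul_eq_one_right (c.A_sq (hEA he))])
      have h2 := hroot (x * e) (by rw [map_mul]; exact mul_mem hx he) hxe1
      rw [show x * e * (x * e) = x * (e * x) * e by group, ← k,
        show x * (x * e) * e = x * x * (e * e) by group, hroot x hx n1, hroot e he he1, c.z_sq] at h2
      have h0 := congrArg c.qm h2
      exact absurd (c.s.inj (c.s.one.trans h2)) (by decide)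
    have hab1 : c.qm (a * b) ≠ 1 := fun k => by
      rcases c.qm_one.1 k with k | k
      · exact hab (by rw [eq_inv_of_mul_eq_one_left k, inv_mul_cancel, mul_inv_cancel])
      · refine hab ?_
        have : b = a⁻¹ * c.s.φ 512 := by rw [← k, inv_mul_cancel_left]
        rw [this, ← mul_assoc, mul_inv_cancel, one_mul, mul_assoc, ← c.hz a, inv_mul_cancel_left]
    exact anti (a * b) (by rw [map_mul]; exact mul_mem hu hb) hab1 n4
      (c.comm_mul (hQ (hEA hx)) haQ hbQ (anti a hu hu1 n2) (anti b hb hb1 n3))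
  obtain ⟨na, hna, rfl⟩ := c.mem_Q.1 haQ
  obtain ⟨nb, hnb, rfl⟩ := c.mem_Q.1 hbQ
  obtain ⟨nx, hnx, hout, hnc⟩ := plane_code hna (c.s.inj (by rw [← c.s.mul]; exact hroot _ hu hu1)) hnb
    (c.s.inj (by rw [← c.s.mul]; exact hroot _ hb hb1)) (fun k => hab (by rw [c.s.mul, c.s.mul, k]))
  have hxE : c.qm (c.s.φ nx) ∈ E := by rcases hnx with rfl | rfl <;> assumption
  set t := c.qm (c.s.φ 4) with ht
  have htN : t ∈ normalizer (c.A : Set (G ⧸ c.Z)) := by
    refine mem_normalizer_fintype fun v hv => ?_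
    obtain ⟨y, hy, rfl⟩ := hv
    rw [ht, ← map_inv, ← map_mul, ← map_mul]
    exact mem_map_of_mem _ ((mem_normalizer_iff.1 (c.S_normalizes (c.s.mem 4)) y).1 hy)
  have hcg : ∀ n, t * c.qm (c.s.φ n) * t⁻¹ = c.qm (c.s.φ (conjS 4 n)) := fun n => by
    rw [ht, ← map_inv, ← map_mul, ← map_mul, c.s.conj]
  have hQy : c.s.φ (conjS 4 nx) ∈ c.Q := hQ (by rw [← hcg]; exact (mem_normalizer_iff.1 htN _).1 (hEA hxE))
  by_cases hKt : K.map (MulAut.conj t).toMonoidHom = K
  · -- the image is in the plane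
    have hBinv : ∀ v ∈ B, t⁻¹ * v * t ∈ B := by
      intro v hv
      refine ⟨(mem_normalizer_iff''.1 htN v).1 hv.1, mem_centralizer_iff.2 fun k hk => ?_⟩
      have hk' : t * k * t⁻¹ ∈ K := hKt ▸ mem_map_of_mem (MulAut.conj t).toMonoidHom hk
      calc k * (t⁻¹ * v * t) = t⁻¹ * (t * k * t⁻¹ * v) * t := by group
        _ = t⁻¹ * (v * (t * k * t⁻¹)) * t := by rw [mem_centralizer_iff.1 hv.2 _ hk']
        _ = _ := by group
    have hyB : ∀ f, c.qm f ∈ B → c.s.φ (conjS 4 nx) * f = f * c.s.φ (conjS 4 nx) := fun f hf => by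
      obtain ⟨f', hf'⟩ := c.qm_surj (t⁻¹ * c.qm f * t)
      have e' : t * c.qm f' * t⁻¹ = c.qm f := by rw [hf']; group
      exact (c.lift_rel (hcg nx) e').1.1 (hperp f' (hf' ▸ hBinv _ hf) _ hxE)
    obtain ⟨f, e, hf, he, hye⟩ := hdec _ hQy
    have hf0 : c.qm f = 1 := by
      refine hcentral f (hQ hf.1) (fun w hw => ?_) (fun w hw => (hperp f hf w hw).symm)
      have h1 : f * e * w = w * (f * e) := (hzc hye.symm (hyB w hw).symm).symm
      refine mul_right_cancel (b := e) ?_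
      rw [mul_assoc f w e, ← hperp w hw e he, ← mul_assoc, h1, ← mul_assoc]
    rw [map_mul, hf0, one_mul] at hye
    have hcode : ∀ y, c.qm (c.s.φ (conjS 4 nx)) = c.qm (c.s.φ y) → conjS 4 nx = y ∨ conjS 4 nx = mulS y 512 :=
      fun y k => (c.qm_eq.1 k).imp (fun k => c.s.inj k) (fun k => c.s.inj (by rw [← c.s.mul]; exact k))
    rcases hspan e he with k | k | k | k <;> rw [k] at hye
    · rw [← map_one c.qm, ← c.s.one] at hye
      exact (hcode 0 hye).elim (hout 0 (Or.inl rfl)).1 (hout 0 (Or.inl rfl)).2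
    · exact (hcode na hye).elim (hout na (Or.inr (Or.inl rfl))).1 (hout na (Or.inr (Or.inl rfl))).2
    · exact (hcode nb hye).elim (hout nb (Or.inr (Or.inr (Or.inl rfl)))).1 (hout nb (Or.inr (Or.inr (Or.inl rfl)))).2
    · rw [c.s.mul] at hye
      exact (hcode _ hye).elim (hout _ (Or.inr (Or.inr (Or.inr rfl)))).1 (hout _ (Or.inr (Or.inr (Or.inr rfl)))).2
  · -- the image commutes with the plane
    have hJ : Cfsg.IsComponent (K.map (MulAut.conj t).toMonoidHom) := Grp.IsComponent.map_iso (MulAut.conj t) hK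
    have hin : c.qm (c.s.φ (conjS 4 nx)) ∈ B := by
      rw [← hcg]
      exact ⟨(mem_normalizer_iff.1 htN _).1 (hEA hxE), (Grp.IsComponent.commute hJ hK hKt) ⟨_, (hE hxE).2, rfl⟩⟩
    rcases hnc with k | k <;> refine k (c.s.inj ?_) <;> rw [← c.s.mul, ← c.s.mul]
    · exact (hperp _ hin _ hu).symm
    · exact (hperp _ hin _ hb).symm

theorem Q_normal : c.Q.Normal := by
  rw [← c.comap_A]
  exact c.A_normal.comap _

/-- The subgroup contains its centralizer modulo the centre. -/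
theorem cent_A : centralizer (c.A : Set (G ⧸ c.Z)) ≤ c.A := by
  haveI := c.A_normal
  haveI : Fact (Nat.Prime 2) := ⟨Nat.prime_two⟩
  set C := centralizer (c.A : Set (G ⧸ c.Z))
  haveI : C.Normal := normal_centralizer
  have hAC : c.A ≤ C := fun a ha => mem_centralizer_iff.2 fun b hb => c.A_comm hb ha
  have hAT : c.A ≤ (c.T : Subgroup (G ⧸ c.Z)) := c.coe_T ▸ map_mono c.Q_le_S
  have hTC : (c.T : Subgroup (G ⧸ c.Z)) ⊓ C = c.A := by
    refine le_antisymm (fun t ht => ?_) (le_inf hAT hAC)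
    obtain ⟨x, hx, rfl⟩ := (c.coe_T ▸ ht.1 : t ∈ (c.S : Subgroup G).map c.qm)
    obtain ⟨n, rfl⟩ := c.s.surj x hx
    refine c.qm_mem_A.2 (c.φ_mem_Q.2 ?_)
    have h := of_allCodes Q_cent_mod_ok n
    simp only [Bool.or_eq_true, List.any_eq_true, Bool.and_eq_true, Bool.not_eq_true', ← Bool.not_eq_true,
      eqC_iff] at h
    refine h.resolve_right ?_
    rintro ⟨g, hg, h1, h2⟩
    have e := mem_centralizer_iff.1 ht.2 _ (c.qm_mem_A.2 (c.φ_mem_Q.2 (List.all_eq_true.1 Q_count.2.2.1 g hg)))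
    rw [← map_mul, ← map_mul, c.s.mul, c.s.mul, c.qm_eq, c.s.mul] at e
    rcases e with e | e
    · exact h1 (c.s.inj e).symm
    · refine h2 (c.s.inj ?_)
      rw [c.s.inj e, (inQ_512 _).2.1]
  haveI : (c.A.subgroupOf C).Normal := inferInstance
  have hodd : ¬ 2 ∣ (c.A.subgroupOf C).index := by
    have := Grp.not_dvd_relIndex_sylow c.T (‹C.Normal›.isSubnormal)
    rwa [← inf_relIndex_right, hTC] at this
  obtain ⟨j, hj⟩ := IsPGroup.iff_card.1 ((c.T.isPGroup'.to_le hAT))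
  have hA2 : Nat.card ↥(c.A.subgroupOf C) = 2 ^ j := by
    rw [Nat.card_congr (subgroupOfEquivOfLe hAC).toEquiv, hj]
  obtain ⟨O, hO⟩ := exists_right_complement'_of_coprime (N := c.A.subgroupOf C) (by
    rw [hA2]; exact ((Nat.Prime.coprime_iff_not_dvd Nat.prime_two).2 hodd).pow_left j)
  have hOcard : ¬ 2 ∣ Nat.card ↥O := by rwa [← hO.symm.index_eq_card]
  have hmemO : ∀ w : ↥C, ¬ 2 ∣ orderOf w → w ∈ O := by
    intro w hw
    obtain ⟨⟨⟨a, ha⟩, o, ho⟩, rfl⟩ := hO.2 w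
    have hca : Commute a o := Subtype.ext (mem_centralizer_iff.1 o.2 _ (mem_subgroupOf.1 ha))
    have ha2 : a * a = 1 := Subtype.ext (c.A_sq (mem_subgroupOf.1 ha))
    obtain ⟨i, hi⟩ := (Nat.odd_iff.2 (Nat.two_dvd_ne_zero.1 hw) : Odd (orderOf (a * o)))
    have h1 := pow_orderOf_eq_one (a * o)
    rw [hi, hca.mul_pow, pow_succ a, pow_mul, pow_two, ha2, one_pow, one_mul] at h1
    have hmem : a ∈ O := by rw [eq_inv_of_mul_eq_one_left h1]; exact inv_mem (pow_mem ho _)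
    show a * o ∈ O
    exact mul_mem hmem ho
  have hOn : (O.map C.subtype).Normal := ⟨by
    rintro _ ⟨o, ho, rfl⟩ g
    refine ⟨⟨g * o * g⁻¹, ‹C.Normal›.conj_mem o o.2 g⟩, hmemO _ fun h => hOcard (h.trans ?_), rfl⟩
    rw [← Subgroup.orderOf_coe]
    show orderOf (g * o * g⁻¹) ∣ _
    rw [show orderOf (g * (o : G ⧸ c.Z) * g⁻¹) = orderOf (o : G ⧸ c.Z) from (MulAut.conj g).orderOf_eq (o : G ⧸ c.Z),
      Subgroup.orderOf_coe, ← orderOf_mk o ho]
    exact orderOf_dvd_natCard _⟩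
  have hbot : O.map C.subtype = ⊥ := le_bot_iff.1 (c.localHyp.core ▸ le_sSup ⟨hOn, by
    rw [card_map_of_injective C.subtype_injective]
    exact ((Nat.Prime.coprime_iff_not_dvd Nat.prime_two).2 hOcard).symm⟩)
  intro x hx
  obtain ⟨⟨⟨a, ha⟩, o, ho⟩, he⟩ := hO.2 ⟨x, hx⟩
  have ho1 : (o : G ⧸ c.Z) = 1 := mem_bot.1 (hbot ▸ mem_map_of_mem C.subtype ho)
  have := congrArg Subtype.val he
  simp only [Subgroup.coe_mul, ho1, mul_one] at this
  exact this ▸ mem_subgroupOf.1 ha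

end Ctx

end Cfsg.Agent.Spor.U52Type
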