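import Cfsg.Agent.Lib.Spor.U52Type.Code

/-!
# Facts on the codes used in the centraliser of the central involution

The checks run over the numbers below 1024; this is much faster for the kernel than the universal quantifier on `Fin`.
-/

set_option autoImplicit false
set_option maxRecDepth 100000
set_option maxHeartbeats 4000000

namespace Cfsg.Agent.Spor.U52Type

/-- A test on all codes, run on numbers. -/
def allCodes (p : Fin 1024 → Bool) : Bool :=
  (List.range 1024).all fun i => p ⟨i % 1024, Nat.mod_lt _ (by norm_num)⟩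

theorem of_allCodes {p : Fin 1024 → Bool} (h : allCodes p = true) (n : Fin 1024) : p n = true := by
  have h1 := List.all_eq_true.1 h (n : ℕ) (List.mem_range.2 n.2)
  simpa [Nat.mod_eq_of_lt n.2] using h1

/-- Equality of codes. -/
def eqC (n m : Fin 1024) : Bool := Nat.beq n.1 m.1

theorem eqC_iff {n m : Fin 1024} : eqC n m = true ↔ n = m := by
  rw [Fin.ext_iff]
  refine ⟨Nat.eq_of_beq_eq_true, fun h => ?_⟩
  show Nat.beq n.1 m.1 = true
  rw [h]
  exact Nat.beq_refl _

/-- The central involution and its four partners. -/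
def isPt (n : Fin 1024) : Bool := eqC n 512 || isA n

/-- Generators of the subgroup of order 128. -/
def genQ : List (Fin 1024) := [1, 2, 16, 32, 64, 128]

/-- The word selected by the bits of a number. -/
def wordQ (i : ℕ) : Fin 1024 :=
  ((List.range 6).zip genQ).foldl (fun acc p => if Nat.testBit i p.1 then mulS acc p.2 else acc) 0

/-- The index of the word of a code. -/
def idxQ (n : Fin 1024) : ℕ := (n : ℕ) % 4 + 4 * (((n : ℕ) / 16) % 16)

/-- The number of codes commuting with a code. -/
def centCard (n : Fin 1024) : ℕ :=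
  (List.range 1024).countP fun i => eqC (mulS n ⟨i % 1024, Nat.mod_lt _ (by norm_num)⟩)
    (mulS ⟨i % 1024, Nat.mod_lt _ (by norm_num)⟩ n)

/-- The number of codes of square one commuting with a code. -/
def sqCard (n : Fin 1024) : ℕ :=
  (List.range 1024).countP fun i => eqC (mulS n ⟨i % 1024, Nat.mod_lt _ (by norm_num)⟩)
    (mulS ⟨i % 1024, Nat.mod_lt _ (by norm_num)⟩ n) &&
    eqC (mulS ⟨i % 1024, Nat.mod_lt _ (by norm_num)⟩ ⟨i % 1024, Nat.mod_lt _ (by norm_num)⟩) 0

/-- The elements 4 carries out of a plane and its perpendicular. -/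
def movedOff (a b x : Fin 1024) : Bool :=
  ([0, a, b, mulS a b].all fun y => !eqC (conjS 4 x) y && !eqC (conjS 4 x) (mulS y 512)) &&
    (!eqC (mulS (conjS 4 x) a) (mulS a (conjS 4 x)) || !eqC (mulS (conjS 4 x) b) (mulS b (conjS 4 x)))

theorem comm_512_ok : allCodes (fun n => eqC (mulS n 512) (mulS 512 n) && (inQ (mulS n 512) == inQ n) &&
    eqC (mulS (mulS n 512) 512) n) = true := by decide +kernel

theorem Q_word_ok : allCodes (fun n => !inQ n || eqC n (wordQ (idxQ n)) || eqC n (mulS (wordQ (idxQ n)) 512)) = true := by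
  decide +kernel

theorem Q_count : inQ 0 = true ∧ inQ 512 = true ∧ genQ.all inQ = true ∧
    (List.range 1024).countP (fun i => inQ ⟨i % 1024, Nat.mod_lt _ (by norm_num)⟩) = 128 := by
  decide +kernel

theorem Q_mul_ok : allCodes (fun n => !inQ n || genQ.all fun g => inQ (mulS n g) &&
    (eqC (mulS n g) (mulS g n) || eqC (mulS n g) (mulS (mulS g n) 512))) = true := by
  decide +kernel

theorem Q_sq_ok : allCodes (fun n => !inQ n || ((eqC (mulS n n) 0 || eqC (mulS n n) 512) && inQ (invS n))) = true := by
  decide +kernel

theorem Q_conj_ok : allCodes (fun g => genQ.all fun n => inQ (conjS g n)) = true := by decide +kernel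

theorem Q_center_ok : allCodes (fun n => !inQ n || eqC n 0 || eqC n 512 ||
    genQ.any fun g => !eqC (mulS n g) (mulS g n)) = true := by
  decide +kernel

theorem Q_cent_mod_ok : allCodes (fun n => inQ n ||
    genQ.any fun g => !eqC (mulS n g) (mulS g n) && !eqC (mulS n g) (mulS (mulS g n) 512)) = true := by
  decide +kernel

theorem inv_side_ok : allCodes (fun n => eqC n 0 || !eqC (mulS n n) 0 ||
    (inQ n == (eqC n 512 || (!isPt n && !isPt (mulS n 512))))) = true := by
  decide +kernel

theorem root_side_ok : allCodes (fun n => !eqC (mulS n n) 512 ||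
    (if inQ n then (Nat.beq (centCard n) 64 && Nat.beq (sqCard n) 32) || (Nat.beq (centCard n) 128 && Nat.beq (sqCard n) 40)
      else Nat.beq (centCard n) 128 && Nat.beq (sqCard n) 16)) = true := by
  decide +kernel

theorem plane_ok : allCodes (fun a => !inQ a || !eqC (mulS a a) 512 || allCodes fun b =>
    !inQ b || !eqC (mulS b b) 512 || eqC (mulS a b) (mulS b a) || movedOff a b a || movedOff a b b) = true := by
  decide +kernel

end Cfsg.Agent.Spor.U52Type
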