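import Cfsg.Agent.Lib.Spor.U52Type.Shape
import Cfsg.Agent.Lib.Spor.U52Type.QFacts
import Cfsg.Agent.Lib.Spor.JTwoType.Quot

/-!
# The subgroup of order 128 is closed under fusion in a group with a central involution

An involution lies in it exactly when neither it nor its product with the centre is a point; a root of the centre
is recognised by the order of its centraliser and the number of square roots of one there.
-/

set_option autoImplicit false
set_option linter.unusedSectionVars false
set_option linter.style.haveILetI false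
set_option maxRecDepth 100000
set_option maxHeartbeats 1000000

namespace Cfsg.Agent.Spor.U52Type

open Subgroup
open Cfsg.Agent.Spor.JTwoType (cI mem_cI card_cI align conj_into)

universe u

attribute [local irreducible] mulS invS conjS inQ centCard sqCard wordQ isPt

/-- The codes commuting with a code. -/
def centSet (x : Fin 1024) : Finset (Fin 1024) := Finset.univ.filter fun a => commS x a = true

/-- The codes of square one among them. -/
def sqSet (x : Fin 1024) : Finset (Fin 1024) := Finset.univ.filter fun a => commS x a = true ∧ mulS a a = 0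

theorem countP_card (p : Fin 1024 → Bool) :
    ((List.range 1024).countP fun i => p ⟨i % 1024, Nat.mod_lt _ (by norm_num)⟩) =
      (Finset.univ.filter fun n => p n = true).card := by
  have e : List.range 1024 = (List.finRange 1024).map Fin.val := (List.map_coe_finRange_eq_range).symm
  rw [e, List.countP_map]
  have e2 : (fun n : Fin 1024 => p ⟨(n : ℕ) % 1024, Nat.mod_lt _ (by norm_num)⟩) = p :=
    funext fun n => congrArg p (Fin.ext (Nat.mod_eq_of_lt n.2))
  show List.countP (fun n : Fin 1024 => p ⟨(n : ℕ) % 1024, Nat.mod_lt _ (by norm_num)⟩) _ = _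
  rw [e2, List.countP_eq_length_filter, ← List.toFinset_card_of_nodup ((List.nodup_finRange 1024).filter _)]
  congr 1
  ext n
  simp

theorem centCard_eq (x : Fin 1024) : centCard x = (centSet x).card := by
  rw [centCard, countP_card (fun a => eqC (mulS x a) (mulS a x)), centSet]
  congr 1
  ext a
  simp [eqC_iff, commS]

theorem sqCard_eq (x : Fin 1024) : sqCard x = (sqSet x).card := by
  rw [sqCard, countP_card (fun a => eqC (mulS x a) (mulS a x) && eqC (mulS a a) 0), sqSet]
  congr 1
  ext a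
  simp [eqC_iff, commS]

theorem inQ_512 (n : Fin 1024) : inQ (mulS n 512) = inQ n ∧ mulS (mulS n 512) 512 = n ∧ mulS n 512 = mulS 512 n := by
  have h := of_allCodes comm_512_ok n
  simp only [Bool.and_eq_true, eqC_iff, beq_iff_eq] at h
  exact ⟨h.1.2, h.2, h.1.1⟩

theorem inQ_sq {n : Fin 1024} (h : inQ n = true) : (mulS n n = 0 ∨ mulS n n = 512) ∧ inQ (invS n) = true := by
  have h' := of_allCodes Q_sq_ok n
  simpa [h, eqC_iff] using h'

/-- The data: a central involution, trivial odd core, and the points preserved by fusion. -/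
structure Ctx (G : Type u) [Group G] [Finite G] where
  S : Sylow 2 G
  s : Shape (S : Subgroup G)
  hz : ∀ g : G, g * s.φ 512 = s.φ 512 * g
  hO : Cfsg.oddCore G = ⊥
  cls : ∀ n m : Fin 1024, isInv n = true → IsConj (s.φ n) (s.φ m) → isPt n = isPt m

variable {G : Type u} [Group G] [Finite G]

namespace Ctx

variable (c : Ctx G)

/-- The centralizer in the Sylow subgroup. -/
def centS (n : Fin 1024) : Subgroup G := (c.S : Subgroup G) ⊓ centralizer ({c.s.φ n} : Set G)

theorem card_centS (n : Fin 1024) : Nat.card ↥(c.centS n) = (centSet n).card := by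
  have e : ((c.centS n : Subgroup G) : Set G) = c.s.φ '' {m | commS n m = true} := by
    ext x
    constructor
    · rintro ⟨hx, hc⟩
      obtain ⟨m, rfl⟩ := c.s.surj x hx
      exact ⟨m, c.s.commute.1 (mem_centralizer_singleton_iff.1 hc).symm, rfl⟩
    · rintro ⟨m, hm, rfl⟩
      exact ⟨c.s.mem m, mem_centralizer_singleton_iff.2 (c.s.commute.2 hm).symm⟩
  show Nat.card ↥((c.centS n : Subgroup G) : Set G) = _
  rw [e, Nat.card_coe_set_eq, Set.ncard_image_of_injective _ c.s.inj, centSet, ← Set.ncard_coe_finset]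
  simp

theorem centS_pgroup (n : Fin 1024) : IsPGroup 2 ↥(c.centS n) := c.S.isPGroup'.to_le inf_le_left

theorem cI_centS {g : G} {n : Fin 1024} {y : G} (hg : g * c.s.φ n * g⁻¹ = y) :
    cI g (c.centS n) ≤ centralizer ({y} : Set G) := by
  rintro _ ⟨b, hb, rfl⟩
  refine mem_centralizer_singleton_iff.2 ?_
  rw [← hg]
  show g * b * g⁻¹ * (g * c.s.φ n * g⁻¹) = g * c.s.φ n * g⁻¹ * (g * b * g⁻¹)
  calc _ = g * (b * c.s.φ n) * g⁻¹ := by group
    _ = g * (c.s.φ n * b) * g⁻¹ := by rw [mem_centralizer_singleton_iff.1 hb.2]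
    _ = _ := by group

/-- A code whose centralizer is the largest among its conjugates. -/
def IsMax (n : Fin 1024) : Prop := ∀ m, IsConj (c.s.φ n) (c.s.φ m) → centCard m ≤ centCard n

theorem exists_max (x : Fin 1024) : ∃ m, IsConj (c.s.φ x) (c.s.φ m) ∧ c.IsMax m := by
  classical
  obtain ⟨m, hm, hmax⟩ := Finset.exists_max_image (Finset.univ.filter fun m => IsConj (c.s.φ x) (c.s.φ m)) centCard
    ⟨x, Finset.mem_filter.2 ⟨Finset.mem_univ _, IsConj.refl _⟩⟩
  rw [Finset.mem_filter] at hm
  exact ⟨m, hm.2, fun y hy => hmax y (Finset.mem_filter.2 ⟨Finset.mem_univ _, hm.2.trans hy⟩)⟩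

/-- A conjugate with largest centralizer receives the centralizer. -/
theorem exists_transport {x m : Fin 1024} (h : IsConj (c.s.φ x) (c.s.φ m)) (hm : c.IsMax m) :
    ∃ k : G, k * c.s.φ x * k⁻¹ = c.s.φ m ∧ ∀ a, commS x a = true →
      ∃ a', commS m a' = true ∧ c.s.φ a' = k * c.s.φ a * k⁻¹ := by
  obtain ⟨g, hg⟩ := _root_.isConj_iff.1 h
  obtain ⟨h1, hh1, P, hP, hPC, hD, hB⟩ := align (centralizer ({c.s.φ m} : Set G)) (cI g (c.centS x)) (c.centS m)
    ((c.centS_pgroup x).map _) (c.cI_centS hg) (c.centS_pgroup m) inf_le_right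
  obtain ⟨l, hl⟩ := conj_into c.S hP
  have hPm : P = c.centS m := by
    refine (Subgroup.eq_of_le_of_card_ge hD ?_).symm
    obtain ⟨m', hm'⟩ := c.s.surj _ (hl (mem_cI (g := l) (hD ⟨c.s.mem m, mem_centralizer_singleton_iff.2 rfl⟩)))
    rw [c.card_centS, ← card_cI l P]
    refine le_trans (le_trans (Subgroup.card_le_of_le (le_inf hl ?_)) (c.card_centS m').le) ?_
    · rintro _ ⟨p, hp, rfl⟩
      refine mem_centralizer_singleton_iff.2 ?_
      rw [hm']
      show l * p * l⁻¹ * (l * c.s.φ m * l⁻¹) = l * c.s.φ m * l⁻¹ * (l * p * l⁻¹)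
      calc _ = l * (p * c.s.φ m) * l⁻¹ := by group
        _ = l * (c.s.φ m * p) * l⁻¹ := by rw [mem_centralizer_singleton_iff.1 (hPC hp)]
        _ = _ := by group
    · rw [← centCard_eq, ← centCard_eq]
      exact hm m' (_root_.isConj_iff.2 ⟨l, hm'.symm⟩)
  refine ⟨h1 * g, ?_, fun a ha => ?_⟩
  · rw [show h1 * g * c.s.φ x * (h1 * g)⁻¹ = h1 * (g * c.s.φ x * g⁻¹) * h1⁻¹ by group, hg,
      mem_centralizer_singleton_iff.1 hh1, mul_inv_cancel_right]
  · have hm0 := hB (mem_cI (g := h1) (mem_cI (g := g)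
      (show c.s.φ a ∈ c.centS x from ⟨c.s.mem a, mem_centralizer_singleton_iff.2 (c.s.commute.2 ha).symm⟩)))
    rw [hPm] at hm0
    obtain ⟨a', ha'⟩ := c.s.surj _ hm0.1
    refine ⟨a', c.s.commute.1 ?_, by rw [ha']; group⟩
    rw [ha']
    exact (mem_centralizer_singleton_iff.1 hm0.2).symm

/-- The counts grow towards a conjugate with largest centralizer, and agree if the first one does. -/
theorem count_le {x m : Fin 1024} (h : IsConj (c.s.φ x) (c.s.φ m)) (hm : c.IsMax m) :
    centCard x ≤ centCard m ∧ sqCard x ≤ sqCard m ∧ (centCard x = centCard m → sqCard x = sqCard m) := by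
  classical
  obtain ⟨k, -, hk⟩ := c.exists_transport h hm
  have hf : ∀ a, ∃ a', commS x a = true → commS m a' = true ∧ c.s.φ a' = k * c.s.φ a * k⁻¹ := fun a => by
    by_cases ha : commS x a = true
    · obtain ⟨a', ha'⟩ := hk a ha
      exact ⟨a', fun _ => ha'⟩
    · exact ⟨a, fun h => absurd h ha⟩
  choose f hf using hf
  have hsq : ∀ a, commS x a = true → (mulS (f a) (f a) = 0 ↔ mulS a a = 0) := fun a ha => by
    rw [← c.s.sq, ← c.s.sq, (hf a ha).2,
      show k * c.s.φ a * k⁻¹ * (k * c.s.φ a * k⁻¹) = k * (c.s.φ a * c.s.φ a) * k⁻¹ by group, conj_eq_one_iff]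
  have hmaps : Set.MapsTo f (centSet x : Set (Fin 1024)) (centSet m : Set (Fin 1024)) := fun a ha => by
    simp only [centSet, Finset.coe_filter, Finset.mem_univ, true_and, Set.mem_setOf_eq] at ha ⊢
    exact (hf a ha).1
  have hinj : Set.InjOn f (centSet x : Set (Fin 1024)) := fun a ha b hb e => by
    simp only [centSet, Finset.coe_filter, Finset.mem_univ, true_and, Set.mem_setOf_eq] at ha hb
    refine c.s.inj (mul_left_cancel (mul_right_cancel (a := k * c.s.φ a) (b := k⁻¹) (c := k * c.s.φ b) ?_))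
    rw [← (hf a ha).2, ← (hf b hb).2, e]
  have hmaps2 : Set.MapsTo f (sqSet x : Set (Fin 1024)) (sqSet m : Set (Fin 1024)) := fun a ha => by
    simp only [sqSet, Finset.coe_filter, Finset.mem_univ, true_and, Set.mem_setOf_eq] at ha ⊢
    exact ⟨(hf a ha.1).1, (hsq a ha.1).2 ha.2⟩
  have hinj2 : Set.InjOn f (sqSet x : Set (Fin 1024)) := hinj.mono fun a ha => by
    simp only [sqSet, centSet, Finset.coe_filter, Finset.mem_univ, true_and, Set.mem_setOf_eq] at ha ⊢
    exact ha.1
  simp only [centCard_eq, sqCard_eq]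
  refine ⟨Finset.card_le_card_of_injOn f hmaps hinj, Finset.card_le_card_of_injOn f hmaps2 hinj2, fun e => ?_⟩
  refine Finset.card_bij (fun a _ => f a) (fun a ha => hmaps2 ha) (fun a ha b hb he => hinj2 ha hb he) fun b hb => ?_
  have hsurj := Finset.surjOn_of_injOn_of_card_le f hmaps hinj e.ge
  simp only [sqSet, Finset.mem_filter, Finset.mem_univ, true_and] at hb
  obtain ⟨a, ha, rfl⟩ := hsurj (show b ∈ (centSet m : Set (Fin 1024)) by simp [centSet, hb.1])
  simp only [centSet, Finset.coe_filter, Finset.mem_univ, true_and, Set.mem_setOf_eq] at ha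
  exact ⟨a, by simp [sqSet, ha, (hsq a ha).1 hb.2], rfl⟩

theorem Q_closed_fusion {n m : Fin 1024} (hn : inQ n = true) (h : IsConj (c.s.φ n) (c.s.φ m)) : inQ m = true := by
  obtain ⟨g, hg⟩ := _root_.isConj_iff.1 h
  have hsqc : c.s.φ (mulS m m) = g * c.s.φ (mulS n n) * g⁻¹ := by
    rw [← c.s.mul, ← c.s.mul, ← hg]; group
  rcases (inQ_sq hn).1 with e | e <;> rw [e] at hsqc
  · rw [c.s.one, mul_one, mul_inv_cancel, c.s.eq_one] at hsqc
    by_cases h0 : n = 0
    · subst h0
      rw [c.s.one, mul_one, mul_inv_cancel, eq_comm, c.s.eq_one] at hg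
      rw [hg]; exact Q_count.1
    have hni : isInv n = true := c.s.orderOf_two.1 (orderOf_eq_prime (by rw [pow_two, c.s.sq.2 e])
      fun k => h0 (c.s.eq_one.1 k))
    have hmi : isInv m = true := by
      rw [← c.s.orderOf_two, ← hg,
        show g * c.s.φ n * g⁻¹ = MulAut.conj g (c.s.φ n) from rfl, (MulAut.conj g).orderOf_eq, c.s.orderOf_two]
      exact hni
    have hm0 : m ≠ 0 := fun k => by simp [isInv, k] at hmi
    have side : ∀ {y : Fin 1024}, y ≠ 0 → mulS y y = 0 →
        (inQ y = true ↔ y = 512 ∨ (isPt y = false ∧ isPt (mulS y 512) = false)) := by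
      intro y hy0 hy
      have h1 := of_allCodes inv_side_ok y
      simp only [eqC_iff, hy0, hy, Bool.or_eq_true, beq_iff_eq, false_or, Bool.not_eq_true',
        ← Bool.not_eq_true, not_true_eq_false] at h1
      rw [h1]
      simp [eqC_iff]
    rcases (side h0 e).1 hn with rfl | ⟨h1, h2⟩
    · rw [c.hz, mul_inv_cancel_right] at hg
      rw [← c.s.inj hg]; exact Q_count.2.1
    refine (side hm0 hsqc).2 (Or.inr ⟨(c.cls n m hni h).symm.trans h1, ?_⟩)
    have hn512 : n ≠ 512 := fun k => by
      have : isPt 512 = true := by unfold isPt; rfl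
      rw [k, this] at h1; exact Bool.noConfusion h1
    have hz2 : c.s.φ 512 * c.s.φ 512 = 1 := c.s.sq.2 (by unfold mulS; decide +kernel)
    have hi : isInv (mulS n 512) = true := by
      refine c.s.orderOf_two.1 (orderOf_eq_prime ?_ fun k => hn512 (c.s.inj ?_))
      · rw [pow_two, ← c.s.mul, mul_assoc, ← mul_assoc (c.s.φ 512), ← c.hz, mul_assoc (c.s.φ n) (c.s.φ 512),
          hz2, mul_one, c.s.sq.2 e]
      · rw [← c.s.mul] at k
        exact (eq_inv_of_mul_eq_one_left k).trans (inv_eq_of_mul_eq_one_right hz2)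
    refine (c.cls _ _ hi (_root_.isConj_iff.2 ⟨g, ?_⟩)).symm.trans h2
    rw [← c.s.mul, ← c.s.mul, ← hg, show g * (c.s.φ n * c.s.φ 512) * g⁻¹ =
      g * c.s.φ n * g⁻¹ * (g * c.s.φ 512 * g⁻¹) by group, c.hz g, mul_inv_cancel_right]
  · rw [c.hz, mul_inv_cancel_right] at hsqc
    have hm512 : mulS m m = 512 := c.s.inj hsqc
    by_contra hm
    rw [Bool.not_eq_true] at hm
    have roots : ∀ {y : Fin 1024}, mulS y y = 512 →
        (inQ y = true → (centCard y = 64 ∧ sqCard y = 32) ∨ (centCard y = 128 ∧ sqCard y = 40)) ∧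
        (inQ y = false → centCard y = 128 ∧ sqCard y = 16) := by
      intro y hy
      have h1 := of_allCodes root_side_ok y
      simp only [eqC_iff.2 hy, Bool.not_true, Bool.false_or] at h1
      constructor <;> intro hq <;> simp [hq] at h1
      · exact h1
      · exact h1
    obtain ⟨r, hr, hmax⟩ := c.exists_max n
    obtain ⟨k, hk⟩ := _root_.isConj_iff.1 hr
    have hr512 : mulS r r = 512 := c.s.inj (by
      rw [← c.s.mul, ← hk, show k * c.s.φ n * k⁻¹ * (k * c.s.φ n * k⁻¹) = k * (c.s.φ n * c.s.φ n) * k⁻¹ by group,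
        c.s.mul, e, c.hz, mul_inv_cancel_right])
    obtain ⟨hc1, hs1, -⟩ := c.count_le hr hmax
    obtain ⟨hc2, hs2, he2⟩ := c.count_le (h.symm.trans hr) hmax
    obtain ⟨hm1, hm2⟩ := (roots hm512).2 hm
    cases hq : inQ r
    · obtain ⟨hr1, hr2⟩ := (roots hr512).2 hq
      rcases (roots e).1 hn with ⟨-, h2⟩ | ⟨-, h2⟩ <;> omega
    · rcases (roots hr512).1 hq with ⟨hr1, hr2⟩ | ⟨hr1, hr2⟩
      · omega
      · have := he2 (by omega)
        omega

end Ctx

end Cfsg.Agent.Spor.U52Type
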