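import Cfsg.Agent.Lib.Spor.U52Type.Local
import Cfsg.Agent.Lib.Spor.U52Type.QFacts
import Cfsg.Agent.Lib.Spor.JTwoType.Quot

/-!
# The fusion of involutions used in the study of centralisers

Five points in the elementary subgroup are conjugate to the centre, and the other involutions form one class;
the normaliser of that subgroup acts on the points as a group between the alternating group and the symmetric one
without transpositions.
-/

set_option autoImplicit false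
set_option linter.unusedSectionVars false
set_option linter.style.haveILetI false
set_option maxRecDepth 100000
set_option maxHeartbeats 4000000

namespace Cfsg.Agent.Spor.U52Type

open Subgroup

universe u

/-- The five points. -/
def ptL : List (Fin 1024) := [512, 256, 832, 896, 960]

theorem pt_ok : allCodes (fun n => (isPt n == ptL.any (eqC n)) && (!isPt n || (inE n && isInv n))) = true := by
  decide +kernel

theorem E_ok : allCodes (fun n => !inE n || eqC n 0 || ptL.any (eqC n) ||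
    ptL.any fun i => ptL.any fun j => !eqC i j && eqC n (mulS i j)) = true := by
  decide +kernel

theorem pair_ok : (ptL.all fun i => ptL.all fun j => eqC i j ||
    (commS i j && isInv (mulS i j) && !isPt (mulS i j) && inE (mulS i j) &&
      (inQ (mulS i j) == (!eqC i 512 && !eqC j 512)) && eqC (mulS i (mulS i j)) j)) = true := by
  decide +kernel

theorem triple_ok : (ptL.all fun i => ptL.all fun j => ptL.all fun k => eqC i j || eqC i k || eqC j k ||
    (isInv (mulS k (mulS i j)) && !isPt (mulS k (mulS i j)))) = true := by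
  decide +kernel

theorem pair_uniq_ok : (ptL.all fun i => ptL.all fun j => ptL.all fun k => ptL.all fun l =>
    eqC i j || eqC k l || !eqC (mulS i j) (mulS k l) || (eqC i k && eqC j l) || (eqC i l && eqC j k)) = true := by
  decide +kernel

theorem isPt_iff {n : Fin 1024} : isPt n = true ↔ n ∈ ptL := by
  have h := of_allCodes pt_ok n
  simp only [Bool.and_eq_true, beq_iff_eq] at h
  rw [h.1, List.any_eq_true]
  exact ⟨fun ⟨x, hx, e⟩ => eqC_iff.1 e ▸ hx, fun hn => ⟨n, hn, eqC_iff.2 rfl⟩⟩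

theorem isPt_spec {n : Fin 1024} (h : isPt n = true) : inE n = true ∧ isInv n = true := by
  have h' := of_allCodes pt_ok n
  simp only [h, Bool.not_true, Bool.false_or, Bool.and_eq_true] at h'
  exact h'.2

theorem pair_spec {i j : Fin 1024} (hi : isPt i = true) (hj : isPt j = true) (hne : i ≠ j) :
    commS i j = true ∧ isInv (mulS i j) = true ∧ isPt (mulS i j) = false ∧ inE (mulS i j) = true ∧
      (inQ (mulS i j) = true ↔ i ≠ 512 ∧ j ≠ 512) ∧ mulS i (mulS i j) = j := by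
  have h := List.all_eq_true.1 (List.all_eq_true.1 pair_ok i (isPt_iff.1 hi)) j (isPt_iff.1 hj)
  simp only [Bool.or_eq_true, Bool.and_eq_true, eqC_iff, hne, false_or, Bool.not_eq_true', beq_iff_eq] at h
  obtain ⟨⟨⟨⟨⟨h1, h2⟩, h3⟩, h4⟩, h5⟩, h6⟩ := h
  refine ⟨h1, h2, h3, h4, ?_, h6⟩
  rw [h5, Bool.and_eq_true, Bool.not_eq_true', Bool.not_eq_true', ← Bool.not_eq_true, ← Bool.not_eq_true, eqC_iff,
    eqC_iff]

theorem triple_spec {i j k : Fin 1024} (hi : isPt i = true) (hj : isPt j = true) (hk : isPt k = true)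
    (hij : i ≠ j) (hik : i ≠ k) (hjk : j ≠ k) :
    isInv (mulS k (mulS i j)) = true ∧ isPt (mulS k (mulS i j)) = false := by
  have h := List.all_eq_true.1 (List.all_eq_true.1 (List.all_eq_true.1 triple_ok i (isPt_iff.1 hi)) j
    (isPt_iff.1 hj)) k (isPt_iff.1 hk)
  simpa [eqC_iff, hij, hik, hjk] using h

theorem pair_uniq {i j k l : Fin 1024} (hi : isPt i = true) (hj : isPt j = true) (hk : isPt k = true)
    (hl : isPt l = true) (hij : i ≠ j) (hkl : k ≠ l) (h : mulS i j = mulS k l) :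
    (i = k ∧ j = l) ∨ (i = l ∧ j = k) := by
  have h' := List.all_eq_true.1 (List.all_eq_true.1 (List.all_eq_true.1 (List.all_eq_true.1 pair_uniq_ok i
    (isPt_iff.1 hi)) j (isPt_iff.1 hj)) k (isPt_iff.1 hk)) l (isPt_iff.1 hl)
  simp only [Bool.or_eq_true, Bool.and_eq_true, eqC_iff, hij, hkl, false_or, Bool.not_eq_true', ← Bool.not_eq_true,
    h, not_true_eq_false, or_false] at h'
  simpa [or_assoc] using h'

theorem inE_cases {n : Fin 1024} (h : inE n = true) : n = 0 ∨ isPt n = true ∨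
    ∃ i j, isPt i = true ∧ isPt j = true ∧ i ≠ j ∧ n = mulS i j := by
  have h' := of_allCodes E_ok n
  simp only [h, Bool.not_true, Bool.false_or, Bool.or_eq_true, eqC_iff, List.any_eq_true, Bool.and_eq_true,
    Bool.not_eq_true', ← Bool.not_eq_true] at h'
  rcases h' with (h' | ⟨x, hx, rfl⟩) | ⟨i, hi, j, hj, hne, e⟩
  · exact Or.inl h'
  · exact Or.inr (Or.inl (isPt_iff.2 hx))
  · exact Or.inr (Or.inr ⟨i, j, isPt_iff.2 hi, isPt_iff.2 hj, hne, e⟩)

theorem inQ_iff_ok : allCodes (fun n => inQ n == (Nat.beq (cB n) 0 && Nat.beq (((n : ℕ) >>> 8) % 2) 0)) = true := by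
  decide +kernel

theorem inQ_iff {n : Fin 1024} : inQ n = true ↔ cB n = 0 ∧ ((n : ℕ) >>> 8) % 2 = 0 := by
  have h := of_allCodes inQ_iff_ok n
  rw [beq_iff_eq] at h
  rw [h, Bool.and_eq_true]
  exact ⟨fun h' => ⟨Nat.eq_of_beq_eq_true h'.1, Nat.eq_of_beq_eq_true h'.2⟩, fun h' => ⟨by rw [h'.1]; rfl, by rw [h'.2]; rfl⟩⟩

theorem unpackQ {a c d f N : ℕ} (ha : a < 4) (hc : c < 4) (hd : d < 4) (hf : f < 2)
    (hN : N = a + 4 * 0 + 16 * c + 64 * d + 256 * 0 + 512 * f) : N / 4 % 4 = 0 ∧ N / 256 % 2 = 0 := by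
  omega

theorem inQ_mul {n m : Fin 1024} (hn : inQ n = true) (hm : inQ m = true) : inQ (mulS n m) = true := by
  obtain ⟨hn1, hn2⟩ := inQ_iff.1 hn
  obtain ⟨hm1, hm2⟩ := inQ_iff.1 hm
  refine inQ_iff.2 ?_
  show cB (mulN n m % 1024) = 0 ∧ (mulN n m % 1024) >>> 8 % 2 = 0
  unfold cB
  rw [Nat.shiftRight_eq_div_pow, Nat.shiftRight_eq_div_pow]
  have hx : ∀ x y : ℕ, x < 4 → y < 4 → x ^^^ y < 4 := fun x y hx hy => Nat.xor_lt_two_pow (n := 2) hx hy
  have hA : ∀ x, cA x < 4 := fun x => Nat.mod_lt _ (by norm_num)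
  have hC : ∀ x, cC x < 4 := fun x => Nat.mod_lt _ (by norm_num)
  have hD : ∀ x, cD x < 4 := fun x => Nat.mod_lt _ (by norm_num)
  have hF : ∀ x y, mF x y < 4 := fun x y => Nat.mod_lt _ (by norm_num)
  have he : ((n : ℕ) >>> 8 ^^^ (m : ℕ) >>> 8 ^^^ mF (cB n) (sF (cB m))) % 2 = 0 := by
    rw [hn1, hm1, show mF 0 (sF 0) = 0 by decide, Nat.xor_zero,
      show (2 : ℕ) = 2 ^ 1 by norm_num, Nat.xor_mod_two_pow, pow_one, hn2, hm2]
    rfl
  obtain ⟨e1, e2⟩ := unpackQ (hx _ _ (hA n) (hA m)) (hx _ _ (hx _ _ (hC n) (hC m)) (hF (cA n) (cB m)))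
    (hx _ _ (hx _ _ (hx _ _ (hD n) (hD m)) (hF (cA n) (cX m))) (hF (cC n) (sF (cB m))))
    (Nat.mod_lt ((n : ℕ) >>> 9 ^^^ (m : ℕ) >>> 9 ^^^ mF (cA n) (cD' m) ^^^ mF (cC n) (cC' m) ^^^
      mF (cD n) (sF (cA m))) (by norm_num : 2 > 0))
    (show mulN n m = _ by rw [mulN, he, hn1, hm1, Nat.xor_zero])
  constructor <;> omega

theorem inQ_inv {n : Fin 1024} (hn : inQ n = true) : inQ (invS n) = true :=
  inQ_mul (inQ_mul (inQ_mul hn hn) (inQ_mul hn hn)) (inQ_mul (inQ_mul hn hn) hn)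

variable {G : Type u} [Group G] [Finite G]

namespace Setting

variable (d : Setting G)

/-- The subgroup of order 128. -/
def subQ : Subgroup G := d.s.sub inQ (by decide) (fun _ _ => inQ_mul) (fun _ => inQ_inv)

/-- The five points in the group. -/
def Pt (x : G) : Prop := ∃ n, isPt n = true ∧ d.s.φ n = x

/-- The fusion facts. -/
structure Fused : Prop where
  cls : ∀ n, isInv n = true → (IsConj d.z (d.s.φ n) ↔ isPt n = true)
  other : ∀ n m, isInv n = true → isInv m = true → isPt n = false → isPt m = false → IsConj (d.s.φ n) (d.s.φ m)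
  two : ∀ i j k l, isPt i = true → isPt j = true → isPt k = true → isPt l = true → i ≠ j → k ≠ l →
    ∃ g ∈ normalizer (d.subE : Set G), g * d.s.φ i * g⁻¹ = d.s.φ k ∧ g * d.s.φ j * g⁻¹ = d.s.φ l
  three : ∀ i j k l, isPt i = true → isPt j = true → isPt k = true → isPt l = true → i ≠ j → i ≠ k → j ≠ k →
    i ≠ l → j ≠ l → ∃ g ∈ normalizer (d.subE : Set G),
      g * d.s.φ i * g⁻¹ = d.s.φ i ∧ g * d.s.φ j * g⁻¹ = d.s.φ j ∧ g * d.s.φ k * g⁻¹ = d.s.φ l
  noswap : ∀ g ∈ normalizer (d.subE : Set G), ∀ k l, isPt k = true → isPt l = true → k ≠ l →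
    g * d.s.φ k * g⁻¹ = d.s.φ l → g * d.s.φ l * g⁻¹ = d.s.φ k →
    ¬ ∀ m, isPt m = true → m ≠ k → m ≠ l → g * d.s.φ m * g⁻¹ = d.s.φ m

theorem Pt_z : d.Pt d.z := ⟨512, isPt_iff.2 (by simp [ptL]), rfl⟩

theorem z_ne_one : d.z ≠ 1 := fun e => by simpa [e] using d.orderOf_z

theorem z_sq : d.z * d.z = 1 := by
  have := pow_orderOf_eq_one d.z
  rwa [d.orderOf_z, pow_two] at this

theorem Pt.mem_E {x : G} (h : d.Pt x) : x ∈ d.subE := by
  obtain ⟨n, hn, rfl⟩ := h
  exact d.s.mem_sub.2 (isPt_spec hn).1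

theorem Pt.orderOf {x : G} (h : d.Pt x) : orderOf x = 2 := by
  obtain ⟨n, hn, rfl⟩ := h
  exact d.s.orderOf_two.2 (isPt_spec hn).2

theorem subE_le_S : d.subE ≤ (d.S : Subgroup G) := d.s.sub_le

theorem subQ_le_S : d.subQ ≤ (d.S : Subgroup G) := d.s.sub_le

theorem comm_E {x y : G} (hx : x ∈ d.subE) (hy : y ∈ d.subE) : x * y = y * x := by
  have hinv : ∀ w ∈ d.subE, w⁻¹ = w := by
    rintro w ⟨n, hn, rfl⟩
    rw [d.s.inv, inE_inv n hn]
  rw [← hinv _ (mul_mem hx hy), mul_inv_rev, hinv _ hx, hinv _ hy]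

theorem E_cases {x : G} (h : x ∈ d.subE) : x = 1 ∨ d.Pt x ∨
    ∃ a b, d.Pt a ∧ d.Pt b ∧ a ≠ b ∧ x = a * b := by
  obtain ⟨n, hn, rfl⟩ := h
  rcases inE_cases hn with e | e | ⟨i, j, hi, hj, hne, e⟩
  · exact Or.inl (by rw [e, d.s.one])
  · exact Or.inr (Or.inl ⟨n, e, rfl⟩)
  · exact Or.inr (Or.inr ⟨_, _, ⟨i, hi, rfl⟩, ⟨j, hj, rfl⟩, d.s.inj.ne hne, by rw [d.s.mul, e]⟩)

theorem pair_mem_E {a b : G} (ha : d.Pt a) (hb : d.Pt b) : a * b ∈ d.subE := mul_mem ha.mem_E hb.mem_E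

variable {d}

/-- A conjugate of the central involution in the Sylow group is a point. -/
theorem Fused.pt_of_conj (hd : d.Fused) {x : G} (hx : x ∈ (d.S : Subgroup G)) (h : IsConj d.z x) : d.Pt x := by
  obtain ⟨n, rfl⟩ := d.s.surj x hx
  obtain ⟨g, hg⟩ := isConj_iff.1 h
  have h2 : orderOf (d.s.φ n) = 2 := by
    rw [← hg, show g * d.z * g⁻¹ = MulAut.conj g d.z from rfl, MulEquiv.orderOf_eq, d.orderOf_z]
  exact ⟨n, (hd.cls n (d.s.orderOf_two.1 h2)).1 h, rfl⟩

theorem Fused.conj_of_pt (hd : d.Fused) {x : G} (h : d.Pt x) : IsConj d.z x := by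
  obtain ⟨n, hn, rfl⟩ := h
  exact (hd.cls n (isPt_spec hn).2).2 hn

/-- The normaliser permutes the points. -/
theorem Fused.pt_conj (hd : d.Fused) {g x : G} (hg : g ∈ normalizer (d.subE : Set G)) (hx : d.Pt x) :
    d.Pt (g * x * g⁻¹) :=
  hd.pt_of_conj (d.subE_le_S ((mem_normalizer_iff.1 hg _).1 hx.mem_E))
    ((hd.conj_of_pt hx).trans (isConj_iff.2 ⟨g, rfl⟩))

/-- A product of two points is not a point. -/
theorem Fused.pair_not_conj (hd : d.Fused) {a b : G} (ha : d.Pt a) (hb : d.Pt b) (hne : a ≠ b) :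
    orderOf (a * b) = 2 ∧ ¬ IsConj d.z (a * b) := by
  obtain ⟨i, hi, rfl⟩ := ha
  obtain ⟨j, hj, rfl⟩ := hb
  obtain ⟨-, h1, h2, -⟩ := pair_spec hi hj fun e => hne (congrArg d.s.φ e)
  rw [d.s.mul]
  exact ⟨d.s.orderOf_two.2 h1, fun h => by simpa [h2] using (hd.cls _ h1).1 h⟩

/-- The unordered pair of a product. -/
theorem Fused.pair_eq (_hd : d.Fused) {a b a' b' : G} (ha : d.Pt a) (hb : d.Pt b) (ha' : d.Pt a') (hb' : d.Pt b')
    (hne : a ≠ b) (hne' : a' ≠ b') (h : a * b = a' * b') : (a = a' ∧ b = b') ∨ (a = b' ∧ b = a') := by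
  obtain ⟨i, hi, rfl⟩ := ha
  obtain ⟨j, hj, rfl⟩ := hb
  obtain ⟨k, hk, rfl⟩ := ha'
  obtain ⟨l, hl, rfl⟩ := hb'
  rw [d.s.mul, d.s.mul] at h
  rcases pair_uniq hi hj hk hl (fun e => hne (congrArg d.s.φ e)) (fun e => hne' (congrArg d.s.φ e)) (d.s.inj h) with
    ⟨e, e'⟩ | ⟨e, e'⟩
  · exact Or.inl ⟨congrArg d.s.φ e, congrArg d.s.φ e'⟩
  · exact Or.inr ⟨congrArg d.s.φ e, congrArg d.s.φ e'⟩

end Setting

/-- Two involutions with product of odd order are conjugate. -/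
theorem conj_of_odd_prod {u v : G} (hu : orderOf u = 2) (hv : orderOf v = 2) (h : Odd (orderOf (u * v))) :
    IsConj u v := by
  obtain ⟨k, hk⟩ := h
  have hu2 : u * u = 1 := by rw [← pow_two, ← hu, pow_orderOf_eq_one]
  have hv2 : v * v = 1 := by rw [← pow_two, ← hv, pow_orderOf_eq_one]
  have hui : u⁻¹ = u := inv_eq_of_mul_eq_one_right hu2
  have hvi : v⁻¹ = v := inv_eq_of_mul_eq_one_right hv2
  have h1 : u * (u * v) ^ k * u⁻¹ = ((u * v) ^ k)⁻¹ := by
    rw [← conj_pow, ← inv_pow, mul_inv_rev, hvi, hui, ← mul_assoc, hu2, one_mul]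
  have h2 : (u * v) ^ k * (u * v) ^ k = v * u := by
    have h3 := pow_orderOf_eq_one (u * v)
    rw [hk, pow_succ, two_mul, pow_add] at h3
    rw [eq_inv_of_mul_eq_one_left h3, mul_inv_rev, hvi, hui]
  refine isConj_iff.2 ⟨(u * v) ^ k, ?_⟩
  rw [← h1, show (u * v) ^ k * u * (u * (u * v) ^ k * u⁻¹) = (u * v) ^ k * (u * u) * (u * v) ^ k * u⁻¹ by group,
    hu2, mul_one, h2, hui, mul_assoc, hu2, mul_one]

namespace Setting

variable (d : Setting G)

/-- The centralisers of the involutions, once the odd cores are known to be trivial. -/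
structure Centr : Prop where
  cent_q : ∀ a b g : G, d.Pt a → d.Pt b → a ≠ b → g * (a * b) = a * b * g → g ∈ normalizer (d.subE : Set G)
  cent_za : ∀ a g : G, d.Pt a → a ≠ d.z → g * d.z = d.z * g → g * a = a * g → g ∈ normalizer (d.subE : Set G)
  Q_normal : ∀ g : G, g * d.z = d.z * g → ∀ x ∈ d.subQ, g * x * g⁻¹ ∈ d.subQ
  Q_self : ∀ g : G, g * d.z = d.z * g →
    (∀ x ∈ d.subQ, g * x * g⁻¹ * x⁻¹ = 1 ∨ g * x * g⁻¹ * x⁻¹ = d.z) → g ∈ d.subQ

end Setting

end Cfsg.Agent.Spor.U52Type
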