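import Cfsg.Agent.Lib.Spor.U52Type.CentNormal
import Cfsg.Agent.Lib.Spor.U52Type.Fused
import Cfsg.Agent.Lib.Spor.JTwoType.Local

/-!
# The centraliser of the central involution modulo its odd core
-/

set_option autoImplicit false
set_option linter.unusedSectionVars false
set_option linter.style.haveILetI false
set_option maxRecDepth 100000
set_option maxHeartbeats 1000000

namespace Cfsg.Agent.Spor.U52Type

open Subgroup
open Cfsg.Agent.Spor.JTwoType (θ)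

universe u

attribute [local irreducible] mulS invS conjS inQ isPt

variable {G : Type u} [Group G] [Finite G]

namespace Setting

variable (d : Setting G)

/-- The centralizer of the central involution. -/
def C : Subgroup G := centralizer ({d.z} : Set G)

theorem mem_C {g : G} : g ∈ d.C ↔ g * d.z = d.z * g := mem_centralizer_singleton_iff

theorem S_le_C : (d.S : Subgroup G) ≤ d.C := fun _ hx => d.mem_C.2 (d.comm_z hx)

/-- Its Sylow subgroup. -/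
noncomputable def SC : Sylow 2 ↥d.C := d.S.subtype d.S_le_C

/-- Its coordinates. -/
noncomputable def sC : Shape (d.SC : Subgroup ↥d.C) :=
  d.s.ofEquiv ((subgroupOfEquivOfLe d.S_le_C).symm.trans (MulEquiv.subgroupCongr (d.S.coe_subtype d.S_le_C).symm))

theorem sC_val (n : Fin 1024) : ((d.sC.φ n : ↥d.C) : G) = d.s.φ n := rfl

instance core_normal : (Cfsg.oddCore ↥d.C).Normal := Grp.pPrimeCore_isNormal

theorem mem_θ {x : ↥d.C} (hx : x ∈ Cfsg.oddCore ↥d.C) : (x : G) ∈ θ d.z :=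
  mem_map_of_mem d.C.subtype hx

theorem q_one_iff {x : ↥d.C} : QuotientGroup.mk' (Cfsg.oddCore ↥d.C) x = 1 ↔ (x : G) ∈ θ d.z := by
  rw [QuotientGroup.mk'_apply, QuotientGroup.eq_one_iff]
  exact ⟨d.mem_θ, fun ⟨y, hy, e⟩ => by rwa [← Subtype.ext (p := fun g => g ∈ d.C) e]⟩

variable {d}

/-- The image modulo the odd core has the data used for the subgroup of order 128. -/
theorem Fused.exists_ctx (hd : d.Fused) : ∃ c : Ctx (↥d.C ⧸ Cfsg.oddCore ↥d.C),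
    ∀ n, c.s.φ n = QuotientGroup.mk' (Cfsg.oddCore ↥d.C) (d.sC.φ n) := by
  haveI : Fact (Nat.Prime 2) := ⟨Nat.prime_two⟩
  set O := Cfsg.oddCore ↥d.C
  set q := QuotientGroup.mk' O
  have hq : Function.Surjective q := QuotientGroup.mk'_surjective O
  have hinj : ∀ x ∈ (d.SC : Subgroup ↥d.C), q x = 1 → x = 1 := fun x hx hx1 =>
    JTwoType.two_odd_eq_one d.SC.isPGroup' (Nat.Coprime.odd_of_right Grp.pPrimeCore_coprime) hx
      ((QuotientGroup.eq_one_iff x).1 hx1)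
  let sQ : Shape (d.SC.mapSurjective hq : Subgroup (↥d.C ⧸ O)) :=
    (d.sC.map q hinj).ofEquiv (MulEquiv.subgroupCongr (Sylow.coe_mapSurjective _ _).symm)
  have hval : ∀ n, sQ.φ n = q (d.sC.φ n) := fun _ => rfl
  refine ⟨⟨d.SC.mapSurjective hq, sQ, fun x => ?_, Grp.pPrimeCore_quotient_eq_bot, fun n m hn hc => ?_⟩, hval⟩
  · obtain ⟨c, rfl⟩ := hq x
    rw [hval, ← map_mul, ← map_mul]
    exact congrArg q (Subtype.ext (d.mem_C.1 c.2))
  · obtain ⟨x, hx⟩ := isConj_iff.1 hc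
    obtain ⟨g, rfl⟩ := hq x
    have hm : isInv m = true := by
      refine sQ.orderOf_two.1 ?_
      rw [← hx, show q g * sQ.φ n * (q g)⁻¹ = MulAut.conj (q g) (sQ.φ n) from rfl, MulEquiv.orderOf_eq]
      exact sQ.orderOf_two.2 hn
    set u := (g : G) * d.s.φ n * (g : G)⁻¹
    have hu : orderOf u = 2 := by
      rw [show u = MulAut.conj (g : G) (d.s.φ n) from rfl, MulEquiv.orderOf_eq]
      exact d.s.orderOf_two.2 hn
    have hmem : g * d.sC.φ n * g⁻¹ * d.sC.φ m ∈ O := by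
      refine (QuotientGroup.eq_one_iff _).1 ?_
      show q (g * d.sC.φ n * g⁻¹ * d.sC.φ m) = 1
      rw [map_mul, map_mul, map_mul, map_inv, ← hval, ← hval, hx]
      have h2 := pow_orderOf_eq_one (sQ.φ m)
      rwa [sQ.orderOf_two.2 hm, pow_two] at h2
    have hodd : Odd (orderOf (u * d.s.φ m)) := by
      refine (JTwoType.θ_odd d.z).of_dvd_nat ?_
      exact Subgroup.orderOf_dvd_natCard _ (d.mem_θ hmem)
    have hcu : IsConj (d.s.φ n) (d.s.φ m) :=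
      (isConj_iff.2 ⟨g, rfl⟩ : IsConj (d.s.φ n) u).trans (conj_of_odd_prod hu (d.s.orderOf_two.2 hm) hodd)
    rw [Bool.eq_iff_iff, ← hd.cls n hn, ← hd.cls m hm]
    exact ⟨fun h => h.trans hcu, fun h => h.trans hcu.symm⟩

/-- Elements of the centraliser over the subgroup of order 128. -/
theorem back {c : Ctx (↥d.C ⧸ Cfsg.oddCore ↥d.C)}
    (hc : ∀ n, c.s.φ n = QuotientGroup.mk' (Cfsg.oddCore ↥d.C) (d.sC.φ n)) {x : ↥d.C}
    (hx : QuotientGroup.mk' (Cfsg.oddCore ↥d.C) x ∈ c.Q) : (x : G) ∈ d.subQ ⊔ θ d.z := by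
  obtain ⟨n, hn, e⟩ := c.mem_Q.1 hx
  rw [hc] at e
  have hd : (d.sC.φ n)⁻¹ * x ∈ Cfsg.oddCore ↥d.C := QuotientGroup.eq.1 e
  have e2 : (x : G) = d.s.φ n * (((d.sC.φ n)⁻¹ * x : ↥d.C) : G) := by
    rw [← d.sC_val, ← Subgroup.coe_mul, mul_inv_cancel_left]
  rw [e2]
  exact mul_mem (mem_sup_left (d.s.mem_sub.2 (show inQ n = true from hn))) (mem_sup_right (d.mem_θ hd))

/-- Conjugates of the subgroup of order 128 lie over it. -/
theorem Fused.conj_Q (hd : d.Fused) {g : G} (hg : g ∈ d.C) {x : G} (hx : x ∈ d.subQ) :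
    g * x * g⁻¹ ∈ d.subQ ⊔ θ d.z := by
  obtain ⟨c, hc⟩ := hd.exists_ctx
  obtain ⟨n, hn, rfl⟩ := hx
  refine back hc (x := ⟨g, hg⟩ * d.sC.φ n * ⟨g, hg⟩⁻¹) ?_
  rw [map_mul, map_mul, map_inv, ← hc]
  exact c.Q_normal.conj_mem _ (c.φ_mem_Q.2 hn) _

/-- An element centralising the subgroup of order 128 modulo the centre and the core lies over it. -/
theorem Fused.self_Q (hd : d.Fused) {g : G} (hg : g ∈ d.C)
    (h : ∀ x ∈ d.subQ, g * x * g⁻¹ * x⁻¹ ∈ θ d.z ∨ g * x * g⁻¹ * x⁻¹ * d.z ∈ θ d.z) :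
    g ∈ d.subQ ⊔ θ d.z := by
  obtain ⟨c, hc⟩ := hd.exists_ctx
  set q := QuotientGroup.mk' (Cfsg.oddCore ↥d.C)
  refine back hc (x := ⟨g, hg⟩) ?_
  rw [← c.qm_mem_A]
  refine c.cent_A (mem_centralizer_iff.2 ?_)
  rintro _ ⟨y, hy, rfl⟩
  obtain ⟨n, hn, rfl⟩ := c.mem_Q.1 hy
  refine Eq.symm ?_
  rw [← map_mul, ← map_mul, c.qm_eq, hc, hc, ← map_mul, ← map_mul, ← map_mul]
  have key : ∀ {a b : ↥d.C}, ((a * b⁻¹ : ↥d.C) : G) ∈ θ d.z → q a = q b := fun h => by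
    rw [← mul_inv_eq_one, ← map_inv, ← map_mul]
    exact d.q_one_iff.2 h
  rcases h _ (d.s.mem_sub.2 (show inQ n = true from hn) : d.s.φ n ∈ d.subQ) with h' | h'
  · exact Or.inl (key (by rwa [Subgroup.coe_mul, Subgroup.coe_inv, Subgroup.coe_mul, Subgroup.coe_mul, d.sC_val,
      mul_inv_rev, ← mul_assoc, mul_assoc g, ← mul_assoc g, mul_assoc _ _ (d.s.φ n)⁻¹,
      show g * d.s.φ n * (g⁻¹ * (d.s.φ n)⁻¹) = g * d.s.φ n * g⁻¹ * (d.s.φ n)⁻¹ by group]))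
  · refine Or.inr (key ?_)
    have hz : Commute (g⁻¹ * (d.s.φ n)⁻¹) d.z :=
      (Commute.inv_left (d.mem_C.1 hg)).mul_left (Commute.inv_left (d.comm_z (d.s.mem n)))
    simp only [Subgroup.coe_mul, Subgroup.coe_inv, d.sC_val, mul_inv_rev]
    show g * d.s.φ n * (d.z⁻¹ * (g⁻¹ * (d.s.φ n)⁻¹)) ∈ θ d.z
    rwa [inv_eq_of_mul_eq_one_right d.z_sq, ← hz.eq, ← mul_assoc, ← mul_assoc]

/-- An element commuting with a point other than the centre permutes the points modulo the core. -/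
theorem Fused.pt_image (hd : d.Fused) {g a b : G} (hg : g ∈ d.C) (ha : d.Pt a) (haz : a ≠ d.z)
    (hga : g * a = a * g) (hb : d.Pt b) : ∃ p, d.Pt p ∧ p⁻¹ * (g * b * g⁻¹) ∈ θ d.z := by
  by_cases hbz : b = d.z
  · refine ⟨b, hb, ?_⟩
    rw [hbz, d.mem_C.1 hg, mul_inv_cancel_right, inv_mul_cancel]
    exact one_mem _
  by_cases hab : a = b
  · refine ⟨b, hb, ?_⟩
    rw [← hab, hga, mul_inv_cancel_right, inv_mul_cancel]
    exact one_mem _
  obtain ⟨c, hc⟩ := hd.exists_ctx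
  set q := QuotientGroup.mk' (Cfsg.oddCore ↥d.C)
  obtain ⟨i, hi, rfl⟩ := ha
  obtain ⟨j, hj, rfl⟩ := hb
  obtain ⟨-, -, -, -, hQ, hij⟩ := pair_spec hi hj fun e => hab (congrArg d.s.φ e)
  have hQ' : inQ (mulS i j) = true := hQ.2 ⟨fun e => haz (congrArg d.s.φ e), fun e => hbz (congrArg d.s.φ e)⟩
  set x := q ⟨g, hg⟩
  have hxa : x * c.s.φ i * x⁻¹ = c.s.φ i := by
    rw [hc, mul_inv_eq_iff_eq_mul, ← map_mul, ← map_mul]
    exact congrArg q (Subtype.ext hga)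
  obtain ⟨n, hn, e⟩ := c.mem_Q.1 (c.Q_normal.conj_mem _ (c.φ_mem_Q.2 hQ') x)
  have hxb : x * c.s.φ j * x⁻¹ = c.s.φ (mulS i n) := by
    calc x * c.s.φ j * x⁻¹ = x * (c.s.φ i * c.s.φ (mulS i j)) * x⁻¹ := by rw [c.s.mul i (mulS i j), hij]
      _ = x * c.s.φ i * x⁻¹ * (x * c.s.φ (mulS i j) * x⁻¹) := by group
      _ = c.s.φ (mulS i n) := by rw [hxa, ← e, c.s.mul]
  have hm : isPt (mulS i n) = true :=
    (c.cls j _ (isPt_spec hj).2 (isConj_iff.2 ⟨x, hxb⟩)).symm.trans hj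
  refine ⟨_, ⟨_, hm, rfl⟩, ?_⟩
  have h1 : q ((d.sC.φ (mulS i n))⁻¹ * (⟨g, hg⟩ * d.sC.φ j * ⟨g, hg⟩⁻¹)) = 1 := by
    rw [map_mul, map_mul, map_mul, map_inv, map_inv, ← hc, ← hc, hxb, inv_mul_cancel]
  exact d.q_one_iff.1 h1

end Setting

end Cfsg.Agent.Spor.U52Type
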