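import Mathlib

/-!
# The Sylow 2-subgroup of the unitary group of dimension five over four elements on 1024 codes

A code stands for a unitriangular matrix preserving the antidiagonal Hermitian form: bits 0-1, 2-3, 4-5 and 6-7
are the entries (0,1), (1,2), (0,2), (0,3), bits 8 and 9 the low bits of the entries (1,3) and (0,4).
A field element is the number `x + 2 y` for `x + y w`.
-/

set_option autoImplicit false
set_option maxRecDepth 100000
set_option maxHeartbeats 4000000

namespace Cfsg.Agent.Spor.U52Type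

/-- The product in the field. -/
def mF (a b : ℕ) : ℕ := (0x9c78e400 >>> (2 * (4 * a + b))) % 4

/-- The square in the field. -/
def sF (a : ℕ) : ℕ := (0xb4 >>> (2 * a)) % 4

/-- The entry (0,1). -/
def cA (n : ℕ) : ℕ := n % 4

/-- The entry (1,2). -/
def cB (n : ℕ) : ℕ := (n >>> 2) % 4

/-- The entry (0,2). -/
def cC (n : ℕ) : ℕ := (n >>> 4) % 4

/-- The entry (0,3). -/
def cD (n : ℕ) : ℕ := (n >>> 6) % 4

/-- The entry (1,3). -/
def cX (n : ℕ) : ℕ := (n >>> 8) % 2 + 2 * (if cB n = 0 then 0 else 1)

/-- The entry (2,4). -/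
def cC' (n : ℕ) : ℕ := sF (cC n ^^^ mF (cB n) (cA n))

/-- The entry (1,4). -/
def cD' (n : ℕ) : ℕ := sF (cD n ^^^ mF (cX n) (cA n) ^^^ mF (sF (cB n)) (cC n ^^^ mF (cB n) (cA n)))

/-- The product of two codes, as numbers. -/
def mulN (n m : ℕ) : ℕ :=
  (cA n ^^^ cA m) + 4 * (cB n ^^^ cB m) + 16 * (cC n ^^^ cC m ^^^ mF (cA n) (cB m)) +
    64 * (cD n ^^^ cD m ^^^ mF (cA n) (cX m) ^^^ mF (cC n) (sF (cB m))) +
    256 * (((n >>> 8) ^^^ (m >>> 8) ^^^ mF (cB n) (sF (cB m))) % 2) +
    512 * (((n >>> 9) ^^^ (m >>> 9) ^^^ mF (cA n) (cD' m) ^^^ mF (cC n) (cC' m) ^^^ mF (cD n) (sF (cA m))) % 2)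

/-- The product of two codes. -/
def mulS (n m : Fin 1024) : Fin 1024 := ⟨mulN n m % 1024, Nat.mod_lt _ (by norm_num)⟩

/-- The inverse of a code. -/
def invS (n : Fin 1024) : Fin 1024 :=
  mulS (mulS (mulS n n) (mulS n n)) (mulS (mulS n n) n)

/-- The conjugate `g n g⁻¹`. -/
def conjS (g n : Fin 1024) : Fin 1024 := mulS (mulS g n) (invS g)

/-- The commutator `n m n⁻¹ m⁻¹`. -/
def comS (n m : Fin 1024) : Fin 1024 := mulS (conjS n m) (invS m)

/-- Commuting codes. -/
def commS (n m : Fin 1024) : Bool := mulS n m == mulS m n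

/-- The involutions. -/
def isInv (n : Fin 1024) : Bool := n != 0 && mulS n n == 0

/-- The elementary subgroup of order sixteen. -/
def inE (n : Fin 1024) : Bool := (n : ℕ) % 64 == 0

/-- The centraliser of the elementary subgroup of order sixteen. -/
def inW (n : Fin 1024) : Bool := (n : ℕ) % 4 == 0

/-- The subgroup of order 128 generated by the involutions outside the elementary one. -/
def inQ (n : Fin 1024) : Bool := (n : ℕ) &&& 268 == 0

/-- The class of four transvections besides the central one. -/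
def isA (n : Fin 1024) : Bool :=
  (n : ℕ) == 256 || (n : ℕ) == 832 || (n : ℕ) == 896 || (n : ℕ) == 960

/-- The products of those transvections with the central one. -/
def isB (n : Fin 1024) : Bool :=
  (n : ℕ) == 768 || (n : ℕ) == 320 || (n : ℕ) == 384 || (n : ℕ) == 448

/-- The three classes of two involutions in the elementary subgroup. -/
def isC (n : Fin 1024) : Bool := inE n && inQ n && (n : ℕ) % 512 != 0

/-- The involutions outside the elementary subgroup. -/
def isF (n : Fin 1024) : Bool := isInv n && !inE n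

theorem inv_spec : ∀ n : Fin 1024, mulS n (invS n) = 0 ∧ mulS (invS n) n = 0 ∧ mulS 0 n = n ∧ mulS n 0 = n := by
  decide +kernel

theorem inv_cases : ∀ n : Fin 1024,
    isInv n = true ↔ n = 512 ∨ isA n = true ∨ isB n = true ∨ isC n = true ∨ isF n = true := by
  decide +kernel

theorem isF_spec : ∀ n : Fin 1024, isF n = true → inQ n = true ∧ inW n = false := by decide +kernel

end Cfsg.Agent.Spor.U52Type
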