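import Cfsg.Agent.Lib.Spor.U52Type.CentEl
import Cfsg.Agent.Lib.Invol.StronglyEmbeddedCount
import Cfsg.Agent.S0217
import Cfsg.Agent.S0205

/-!
# The odd cores of the centralisers of involutions are trivial

The cores form a signalizer functor on the elementary subgroup of order sixteen. Its closure is also the join of
the cores at the involutions of the subgroup of order 128, so its normaliser contains the centralisers of all
involutions it contains; but it cannot be strongly embedded, as there are two classes of involutions.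
-/

set_option autoImplicit false
set_option linter.unusedSectionVars false
set_option linter.style.haveILetI false
set_option maxRecDepth 100000
set_option maxHeartbeats 1000000

namespace Cfsg.Agent.Spor.U52Type

open Subgroup
open Cfsg.Agent.Spor.JTwoType (θ θ_le θ_odd θ_conj θ_normal cI mem_cI align conj_into)

universe u

theorem Q_pair_ok : allCodes (fun n => !inQ n || !isInv n || eqC n 512 || ptL.any fun i => ptL.any fun j =>
    !eqC i j && !eqC i 512 && !eqC j 512 && commS n (mulS i j)) = true := by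
  decide +kernel

variable {G : Type u} [Group G] [Finite G]

/-- An odd subgroup normalised by a subgroup which is normal modulo the core lies in the core if it lies over it. -/
theorem le_core_of {v : G} {X M : Subgroup G} (hX : X ≤ centralizer ({v} : Set G)) (hXo : Odd (Nat.card ↥X))
    (hM : M ≤ centralizer ({v} : Set G))
    (hMn : ∀ h ∈ centralizer ({v} : Set G), ∀ m ∈ M, ∃ o ∈ θ v, o * (h * m * h⁻¹) ∈ M)
    (hXM : ∀ x ∈ X, ∃ o ∈ θ v, o * x ∈ M) (hn : ∀ m ∈ M, ∀ x ∈ X, m * x * m⁻¹ ∈ X) : X ≤ θ v := by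
  haveI : Fact (Nat.Prime 2) := ⟨Nat.prime_two⟩
  set H := centralizer ({v} : Set G)
  set O := Cfsg.oddCore ↥H
  haveI : O.Normal := Grp.pPrimeCore_isNormal
  set q := QuotientGroup.mk' O
  have hθ : ∀ o : ↥H, (o : G) ∈ θ v → q o = 1 := fun o ⟨y, hy, e⟩ =>
    (QuotientGroup.eq_one_iff o).2 (by rwa [← Subtype.ext (p := fun g => g ∈ H) e])
  set Mb := (M.subgroupOf H).map q
  set Xb := (X.subgroupOf H).map q
  haveI hMbn : Mb.Normal := ⟨fun m hm y => by
    obtain ⟨m, hm, rfl⟩ := hm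
    obtain ⟨y, rfl⟩ := QuotientGroup.mk'_surjective O y
    obtain ⟨o, ho, h⟩ := hMn y y.2 m (mem_subgroupOf.1 hm)
    rw [← map_inv, ← map_mul, ← map_mul,
      show q (y * m * y⁻¹) = q (⟨o, θ_le v ho⟩ * (y * m * y⁻¹)) by
        rw [map_mul q (⟨o, θ_le v ho⟩ : ↥H), hθ ⟨o, θ_le v ho⟩ ho, one_mul]]
    exact mem_map_of_mem q (mem_subgroupOf.2 h)⟩
  have hXMb : Xb ≤ Mb := by
    rintro _ ⟨x, hx, rfl⟩
    obtain ⟨o, ho, h⟩ := hXM x (mem_subgroupOf.1 hx)
    rw [show q x = q (⟨o, θ_le v ho⟩ * x) by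
        rw [map_mul q (⟨o, θ_le v ho⟩ : ↥H), hθ ⟨o, θ_le v ho⟩ ho, one_mul]]
    exact mem_map_of_mem q (mem_subgroupOf.2 h)
  have hXn : (Xb.subgroupOf Mb).Normal := ⟨by
    rintro ⟨x, hx⟩ hx' ⟨m, hm⟩
    obtain ⟨x, hxX, rfl⟩ := (mem_subgroupOf.1 hx' : x ∈ Xb)
    obtain ⟨y, hy, rfl⟩ := hm
    refine mem_subgroupOf.2 ?_
    show q y * q x * (q y)⁻¹ ∈ Xb
    rw [← map_inv, ← map_mul, ← map_mul]
    exact mem_map_of_mem q (mem_subgroupOf.2 (hn _ (mem_subgroupOf.1 hy) _ (mem_subgroupOf.1 hxX)))⟩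
  have hodd : Odd (Nat.card ↥(Xb.subgroupOf Mb)) := by
    rw [Nat.card_congr (subgroupOfEquivOfLe hXMb).toEquiv]
    refine hXo.of_dvd_nat ((card_map_dvd _ _).trans ?_)
    rw [Nat.card_congr (subgroupOfEquivOfLe hX).toEquiv]
  have h1 : Xb.subgroupOf Mb ≤ Cfsg.oddCore ↥Mb := le_sSup ⟨hXn, Nat.coprime_two_right.2 hodd⟩
  have h2 : (Cfsg.oddCore ↥Mb).map Mb.subtype = ⊥ := by
    refine le_bot_iff.1 ((Grp.pPrimeCore_quotient_eq_bot (p := 2) (G := ↥H)) ▸ le_sSup ⟨inferInstance, ?_⟩)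
    rw [card_map_of_injective Mb.subtype_injective]
    exact Grp.pPrimeCore_coprime
  intro x hx
  have h3 : q ⟨x, hX hx⟩ ∈ Xb := mem_map_of_mem q (mem_subgroupOf.2 hx)
  have h4 : q ⟨x, hX hx⟩ = 1 := mem_bot.1 (h2 ▸ ⟨⟨_, hXMb h3⟩, h1 (mem_subgroupOf.2 h3), rfl⟩)
  exact mem_map_of_mem H.subtype ((QuotientGroup.eq_one_iff (⟨x, hX hx⟩ : ↥H)).1 h4)

namespace Setting

variable {d : Setting G}

theorem sq_pt {a : G} (h : d.Pt a) : a * a = 1 := by rw [← pow_two, ← h.orderOf, pow_orderOf_eq_one]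

theorem sq_subE (d : Setting G) {e : G} (he : e ∈ d.subE) : e * e = 1 := by
  rcases d.E_cases he with rfl | h | ⟨a, b, ha, hb, -, rfl⟩
  · exact mul_one 1
  · exact sq_pt h
  · rw [show a * b * (a * b) = a * (b * a) * b by group, d.comm_E hb.mem_E ha.mem_E,
      show a * (a * b) * b = a * a * (b * b) by group, sq_pt ha, sq_pt hb, mul_one]

theorem subQ_two (d : Setting G) : IsPGroup 2 ↥d.subQ := d.S.isPGroup'.to_le d.subQ_le_S

/-- An element of odd order which is a product over `E` lies in the other factor. -/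
theorem mem_θ_of_odd {v y : G} (hv : v ∈ d.subE) {o : G} (ho : o ∈ θ v) (hy : o * y ∈ d.subE)
    (hodd : Odd (orderOf y)) : y ∈ θ v := by
  set e := o * y with he
  have key : ∀ n : ℕ, e ^ n * (y ^ n)⁻¹ ∈ θ v := by
    intro n
    induction n with
    | zero => simp
    | succ n ih =>
      have h1 : e ^ n * o * (e ^ n)⁻¹ ∈ θ v :=
        (mem_normalizer_iff.1 (d.E_le_normalizer_θ hv (pow_mem hy n)) _).1 ho
      rw [show e ^ (n + 1) * (y ^ (n + 1))⁻¹ = e ^ n * o * (e ^ n)⁻¹ * (e ^ n * (y ^ n)⁻¹) by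
        rw [pow_succ e, pow_succ y, mul_inv_rev, he]; group]
      exact mul_mem h1 ih
  obtain ⟨k, hk⟩ := hodd
  have h2 := key (orderOf y)
  rw [pow_orderOf_eq_one, inv_one, mul_one, hk, pow_succ, pow_mul, pow_two, d.sq_subE hy, one_pow, one_mul] at h2
  have := mul_mem (inv_mem ho) h2
  rwa [he, inv_mul_cancel_left] at this

/-- Balance at the product of two points, from `E`. -/
theorem Fused.balance_q (hd : d.Fused) {a b u : G} (ha : d.Pt a) (hb : d.Pt b) (hne : a ≠ b) (hu : u ∈ d.subE) :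
    θ u ⊓ centralizer ({a * b} : Set G) ≤ θ (a * b) := by
  have hq := d.pair_mem_E ha hb
  refine le_core_of (M := centralizer (d.subE : Set G)) inf_le_right
    ((θ_odd u).of_dvd_nat (card_dvd_of_le inf_le_left)) (centralizer_le (Set.singleton_subset_iff.2 hq)) ?_ ?_ ?_
  · intro h hh m hm
    obtain ⟨o, ho, hn⟩ := hd.split_q ha hb hne (mem_centralizer_singleton_iff.1 hh)
    have hmH : m * (a * b) = a * b * m := (mem_centralizer_iff.1 hm _ hq).symm
    have hmo : h * m * h⁻¹ * o⁻¹ * (h * m * h⁻¹)⁻¹ ∈ θ (a * b) :=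
      θ_normal (mem_centralizer_singleton_iff.1 (mul_mem (mul_mem hh (mem_centralizer_singleton_iff.2 hmH))
        (inv_mem hh))) (inv_mem ho)
    refine ⟨o * (h * m * h⁻¹ * o⁻¹ * (h * m * h⁻¹)⁻¹), mul_mem ho hmo, ?_⟩
    rw [show o * (h * m * h⁻¹ * o⁻¹ * (h * m * h⁻¹)⁻¹) * (h * m * h⁻¹) = o * h * m * (o * h)⁻¹ by group]
    refine mem_centralizer_iff.2 fun e he => ?_
    have he' : (o * h)⁻¹ * e * (o * h) ∈ d.subE := by
      have := (mem_normalizer_iff.1 (inv_mem hn) _).1 he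
      rwa [inv_inv] at this
    have h1 := mem_centralizer_iff.1 hm _ he'
    calc e * (o * h * m * (o * h)⁻¹) = o * h * ((o * h)⁻¹ * e * (o * h) * m) * (o * h)⁻¹ := by group
      _ = o * h * (m * ((o * h)⁻¹ * e * (o * h))) * (o * h)⁻¹ := by rw [h1]
      _ = _ := by group
  · intro x hx
    obtain ⟨o, ho, hn⟩ := hd.split_q ha hb hne (mem_centralizer_singleton_iff.1 hx.2)
    refine ⟨o, ho, mem_centralizer_iff.2 fun e he => ?_⟩
    have hxq := mem_centralizer_singleton_iff.1 hx.2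
    have heq : e * (a * b) = a * b * e := d.comm_E he hq
    -- the commutator is of odd order
    have hyX : x * e * x⁻¹ * e⁻¹ ∈ θ u := by
      have := mul_mem hx.1 (θ_normal (d.comm_E he hu) (inv_mem hx.1))
      rwa [show x * (e * x⁻¹ * e⁻¹) = x * e * x⁻¹ * e⁻¹ by group] at this
    have hyH : (x * e * x⁻¹ * e⁻¹) * (a * b) = a * b * (x * e * x⁻¹ * e⁻¹) :=
      ((Commute.mul_left (hxq : Commute x (a * b)) heq).mul_left (Commute.inv_left hxq)).mul_left
        (Commute.inv_left heq) |>.eq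
    have he' : o * x * e * (o * x)⁻¹ * e⁻¹ ∈ d.subE :=
      mul_mem ((mem_normalizer_iff.1 hn _).1 he) (inv_mem he)
    have hc : x * e * x⁻¹ * e⁻¹ ∈ θ (a * b) := by
      refine d.mem_θ_of_odd hq (o := o * (x * e * x⁻¹ * o⁻¹ * e⁻¹) * (e * x * e⁻¹ * x⁻¹)) ?_ ?_
        (JTwoType.Setting.odd_of_mem_θ hyX)
      · rw [show o * (x * e * x⁻¹ * o⁻¹ * e⁻¹) * (e * x * e⁻¹ * x⁻¹) =
          o * ((x * e * x⁻¹) * o⁻¹ * (x * e * x⁻¹)⁻¹) by group]
        exact mul_mem ho (θ_normal (((Commute.mul_left (hxq : Commute x (a * b)) heq).mul_left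
          (Commute.inv_left hxq))).eq (inv_mem ho))
      · rwa [show o * (x * e * x⁻¹ * o⁻¹ * e⁻¹) * (e * x * e⁻¹ * x⁻¹) * (x * e * x⁻¹ * e⁻¹) =
          o * x * e * (o * x)⁻¹ * e⁻¹ by group]
    have hc' : o * x * e * (o * x)⁻¹ * e⁻¹ ∈ θ (a * b) := by
      rw [show o * x * e * (o * x)⁻¹ * e⁻¹ = o * (x * e * x⁻¹ * e⁻¹) * (e * o⁻¹ * e⁻¹) by group]
      exact mul_mem (mul_mem ho hc) (θ_normal heq (inv_mem ho))
    have h1 := JTwoType.two_odd_eq_one d.subE_two (θ_odd (a * b)) he' hc'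
    exact (mul_inv_eq_iff_eq_mul.1 (mul_inv_eq_one.1 h1)).symm
  · intro m hm x hx
    exact mem_inf.2 ⟨θ_normal (mem_centralizer_iff.1 hm _ hu).symm hx.1,
      mul_mem (mul_mem (mem_centralizer_singleton_iff.2 (mem_centralizer_iff.1 hm _ hq).symm) hx.2)
        (inv_mem (mem_centralizer_singleton_iff.2 (mem_centralizer_iff.1 hm _ hq).symm))⟩

/-- Balance on `E`. -/
theorem Fused.balance_E (hd : d.Fused) {u v : G} (hu : u ∈ d.subE) (hv : v ∈ d.subE) (hv1 : v ≠ 1) :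
    θ u ⊓ centralizer ({v} : Set G) ≤ θ v := by
  rcases d.E_cases hv with e | h | ⟨a, b, ha, hb, hne, rfl⟩
  · exact absurd e hv1
  · exact hd.balance (d.sq_subE hu) (hd.conj_of_pt h) (d.comm_E hu hv)
  · exact hd.balance_q ha hb hne hu

/-- The core at an involution commuting with the centre and a pair. -/
theorem Fused.balance_outside (hd : d.Fused) {a b u : G} (ha : d.Pt a) (hb : d.Pt b) (hne : a ≠ b)
    (hu : u * u = 1) (huz : u * d.z = d.z * u) :
    θ u ⊓ centralizer ({a * b} : Set G) ≤ θ (a * b) := by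
  have hq := d.pair_mem_E ha hb
  have hzq : d.z * (a * b) = a * b * d.z := d.comm_E d.z_mem_E hq
  intro x hx
  have hxu : x ∈ θ u := hx.1
  have hxc : x ∈ centralizer ({a * b} : Set G) := hx.2
  have hxq := mem_centralizer_singleton_iff.1 hxc
  obtain ⟨o, ho, hn⟩ := hd.split_q ha hb hne hxq
  have hzi : d.z⁻¹ = d.z := inv_eq_of_mul_eq_one_right d.z_sq
  -- the commutator with the centre lies in both cores
  have hzx : d.z * x * d.z ∈ θ u := by
    have := θ_normal huz.symm hxu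
    rwa [hzi] at this
  have hyu : x⁻¹ * d.z * x * d.z ∈ θ u := by
    have := mul_mem (inv_mem hxu) hzx
    simpa [mul_assoc] using this
  have hcx : Commute (x⁻¹ * d.z * x) (a * b) :=
    ((Commute.inv_left hxq).mul_left hzq).mul_left hxq
  have hyq : x⁻¹ * d.z * x * d.z ∈ θ (a * b) := by
    refine d.mem_θ_of_odd hq (o := (x⁻¹ * o⁻¹ * x) * ((x⁻¹ * d.z * x) * (x⁻¹ * o * x) * (x⁻¹ * d.z * x)⁻¹))
      ?_ ?_ (JTwoType.Setting.odd_of_mem_θ hyu)
    · have h1 : ∀ y ∈ θ (a * b), x⁻¹ * y * x ∈ θ (a * b) := fun y hy => by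
        have := θ_normal (Commute.inv_left hxq).eq hy
        rwa [inv_inv] at this
      exact mul_mem (h1 _ (inv_mem ho)) (θ_normal hcx.eq (h1 o ho))
    · rw [show (x⁻¹ * o⁻¹ * x) * ((x⁻¹ * d.z * x) * (x⁻¹ * o * x) * (x⁻¹ * d.z * x)⁻¹) * (x⁻¹ * d.z * x * d.z) =
        (o * x)⁻¹ * d.z * (o * x) * d.z by group]
      have := (mem_normalizer_iff.1 (inv_mem hn) _).1 d.z_mem_E
      rw [inv_inv] at this
      exact mul_mem this d.z_mem_E
  obtain ⟨w, hw, hc⟩ := JTwoType.exists_mul_comm d.z_sq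
    ((θ_odd u).of_dvd_nat (Subgroup.orderOf_dvd_natCard _ hyu))
  have hwq : w ∈ θ (a * b) := zpowers_le.2 hyq hw
  have hwu : w ∈ θ u := zpowers_le.2 hyu hw
  have h1 : x * w ∈ θ d.z :=
    hd.balance hu (IsConj.refl d.z) huz ⟨mul_mem hxu hwu, mem_centralizer_singleton_iff.2 hc⟩
  have h2 : x * w ∈ θ (a * b) := hd.balance_q ha hb hne d.z_mem_E
    ⟨h1, mul_mem hxc (θ_le _ hwq)⟩
  simpa using mul_mem h2 (inv_mem hwq)

/-- The closure of the cores on `E`. -/
def closE (d : Setting G) : Subgroup G := ⨆ a : {a : G // a ∈ d.subE ∧ a ≠ 1}, θ (a : G)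

theorem θ_le_closE {e : G} (he : e ∈ d.subE) (h1 : e ≠ 1) : θ e ≤ d.closE :=
  le_iSup (fun a : {a : G // a ∈ d.subE ∧ a ≠ 1} => θ (a : G)) ⟨e, he, h1⟩

theorem card_subE_ge (d : Setting G) : 2 ^ 3 ≤ Nat.card ↥d.subE := by
  rw [show d.subE = d.s.sub inE _ _ _ from rfl, d.s.card_sub]
  decide +kernel

theorem Fused.odd_closE (hd : d.Fused) : Odd (Nat.card ↥d.closE) := by
  haveI : Fact (Nat.Prime 2) := ⟨Nat.prime_two⟩
  refine Nat.not_even_iff_odd.1 fun h => (S0217.result (p := 2) d.subE (fun a ha b hb => d.comm_E ha hb)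
    (fun a ha => by rw [pow_two]; exact d.sq_subE ha) d.card_subE_ge θ (fun a _ _ => θ_le a)
    (fun a _ _ h2 => Nat.not_even_iff_odd.2 (θ_odd a) (even_iff_two_dvd.2 h2))
    (fun a ha _ b hb x hx => θ_normal (d.comm_E hb ha) hx) (fun a _ _ => S0205.result (θ_odd a))
    (fun a ha _ b hb hb1 => hd.balance_E ha hb hb1)).1 (even_iff_two_dvd.1 h)

/-- A pair avoiding the centre, and its product with the centre. -/
theorem Fused.zpair (hd : d.Fused) {a b : G} (ha : d.Pt a) (hb : d.Pt b) (hne : a ≠ b) (haz : a ≠ d.z)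
    (hbz : b ≠ d.z) : ∃ a' b', d.Pt a' ∧ d.Pt b' ∧ a' ≠ b' ∧ d.z * (a * b) = a' * b' := by
  obtain ⟨i, hi, rfl⟩ := ha
  obtain ⟨j, hj, rfl⟩ := hb
  obtain ⟨h1, h2⟩ := triple_spec hi hj (isPt_iff.2 (by simp [ptL]) : isPt 512 = true)
    (fun e => hne (congrArg d.s.φ e)) (fun e => haz (congrArg d.s.φ e)) fun e => hbz (congrArg d.s.φ e)
  have hm : d.z * (d.s.φ i * d.s.φ j) = d.s.φ (mulS 512 (mulS i j)) := by
    rw [d.s.mul i j]; exact d.s.mul 512 _
  have hE : d.z * (d.s.φ i * d.s.φ j) ∈ d.subE :=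
    mul_mem d.z_mem_E (d.pair_mem_E ⟨i, hi, rfl⟩ ⟨j, hj, rfl⟩)
  rcases d.E_cases hE with e | hp | h
  · have := d.s.orderOf_two.2 h1
    rw [← hm, e, orderOf_one] at this
    norm_num at this
  · have h3 := hd.conj_of_pt hp
    rw [hm] at h3
    rw [(hd.cls _ h1).1 h3] at h2
    exact absurd h2 (by simp)
  · exact h

/-- The cores on the four group of the centre and a pair generate. -/
theorem Fused.gen_zq (hd : d.Fused) {a b u : G} (ha : d.Pt a) (hb : d.Pt b) (hne : a ≠ b) (haz : a ≠ d.z)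
    (hbz : b ≠ d.z) (hu : u * u = 1) (huz : u * d.z = d.z * u) (huq : u * (a * b) = a * b * u) :
    θ u ≤ θ d.z ⊔ θ (a * b) ⊔ θ (d.z * (a * b)) := by
  have hq := d.pair_mem_E ha hb
  obtain ⟨a', b', ha', hb', hne', e⟩ := hd.zpair ha hb hne haz hbz
  have hq1 : a * b ≠ 1 := fun h => by
    have := (hd.pair_not_conj ha hb hne).1
    rw [h, orderOf_one] at this; norm_num at this
  have hzq : d.z ≠ a * b := fun h => (hd.pair_not_conj ha hb hne).2 (h ▸ IsConj.refl _)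
  refine (JTwoType.gen_four d.z_sq (d.sq_subE hq) (d.comm_E d.z_mem_E hq) d.z_ne_one hq1 hzq (θ_odd u)
    (JTwoType.mem_normalizer_of_cI (by
      rintro _ ⟨y, hy, rfl⟩
      exact θ_normal huz.symm hy))
    (JTwoType.mem_normalizer_of_cI (by
      rintro _ ⟨y, hy, rfl⟩
      exact θ_normal huq.symm hy))).trans (sup_le_sup (sup_le_sup ?_ ?_) ?_)
  · exact hd.balance hu (IsConj.refl d.z) huz
  · exact hd.balance_outside ha hb hne hu huz
  · rw [e]; exact hd.balance_outside ha' hb' hne' hu huz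

theorem Fused.θ_le_closE_of_subQ (hd : d.Fused) {u : G} (hu : u ∈ d.subQ) (hu2 : orderOf u = 2) :
    θ u ≤ d.closE := by
  obtain ⟨n, hn, rfl⟩ := hu
  have hn' : inQ n = true := hn
  have h := of_allCodes Q_pair_ok n
  simp only [hn', d.s.orderOf_two.1 hu2, Bool.not_true, Bool.false_or, Bool.or_eq_true, eqC_iff, List.any_eq_true,
    Bool.and_eq_true, Bool.not_eq_true', ← Bool.not_eq_true] at h
  rcases h with rfl | ⟨i, hi, j, hj, ⟨⟨hne, hi512⟩, hj512⟩, hc⟩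
  · exact θ_le_closE d.z_mem_E d.z_ne_one
  have ha : d.Pt (d.s.φ i) := ⟨i, isPt_iff.2 hi, rfl⟩
  have hb : d.Pt (d.s.φ j) := ⟨j, isPt_iff.2 hj, rfl⟩
  have hne' : d.s.φ i ≠ d.s.φ j := d.s.inj.ne hne
  have hiz : d.s.φ i ≠ d.z := d.s.inj.ne hi512
  have hjz : d.s.φ j ≠ d.z := d.s.inj.ne hj512
  have hu2' : d.s.φ n * d.s.φ n = 1 := by
    have := pow_orderOf_eq_one (d.s.φ n)
    rwa [hu2, pow_two] at this
  have h1 : ∀ {a b : G}, d.Pt a → d.Pt b → a ≠ b → a * b ≠ 1 := fun ha hb hne h => by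
    have := (hd.pair_not_conj ha hb hne).1
    rw [h, orderOf_one] at this; norm_num at this
  obtain ⟨a', b', ha', hb', hne'', e⟩ := hd.zpair ha hb hne' hiz hjz
  refine (hd.gen_zq ha hb hne' hiz hjz hu2' (d.comm_z (d.s.mem n))
    (by rw [d.s.mul i j]; exact d.s.commute.2 hc)).trans (sup_le (sup_le ?_ ?_) ?_)
  · exact θ_le_closE d.z_mem_E d.z_ne_one
  · exact θ_le_closE (d.pair_mem_E ha hb) (h1 ha hb hne')
  · rw [e]; exact θ_le_closE (d.pair_mem_E ha' hb') (h1 ha' hb' hne'')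

/-- The closure is the join over the involutions of the subgroup of order 128. -/
theorem Fused.closE_le (hd : d.Fused) {K : Subgroup G} (h : ∀ u ∈ d.subQ, orderOf u = 2 → θ u ≤ K) :
    d.closE ≤ K := by
  refine iSup_le fun e => ?_
  have ha : d.Pt (d.s.φ 256) := ⟨256, isPt_iff.2 (by simp [ptL]), rfl⟩
  have hb : d.Pt (d.s.φ 832) := ⟨832, isPt_iff.2 (by simp [ptL]), rfl⟩
  have hne : d.s.φ 256 ≠ d.s.φ 832 := d.s.inj.ne (by decide)
  have haz : d.s.φ 256 ≠ d.z := d.s.inj.ne (by decide)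
  have hbz : d.s.φ 832 ≠ d.z := d.s.inj.ne (by decide)
  have hqE := d.pair_mem_E ha hb
  refine (hd.gen_zq ha hb hne haz hbz (d.sq_subE e.2.1) (d.comm_E e.2.1 d.z_mem_E) (d.comm_E e.2.1 hqE)).trans
    (sup_le (sup_le ?_ ?_) ?_)
  · exact h d.z (d.s.mem_sub.2 (by decide +kernel)) d.orderOf_z
  · rw [d.s.mul]
    exact h _ (d.s.mem_sub.2 (by decide +kernel)) (d.s.orderOf_two.2 (by decide +kernel))
  · rw [d.s.mul, show d.z * d.s.φ (mulS 256 832) = d.s.φ (mulS 512 (mulS 256 832)) from d.s.mul _ _]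
    exact h _ (d.s.mem_sub.2 (by decide +kernel)) (d.s.orderOf_two.2 (by decide +kernel))

/-- The normaliser of the closure. -/
def maxM (d : Setting G) : Subgroup G := normalizer (d.closE : Set G)

theorem closE_le_maxM (d : Setting G) : d.closE ≤ d.maxM := le_normalizer

theorem Fused.N_le_M (hd : d.Fused) : normalizer (d.subE : Set G) ≤ d.maxM := by
  intro g hg
  refine JTwoType.mem_normalizer_of_cI ?_
  rw [cI, closE, Subgroup.map_iSup]
  refine iSup_le fun e => ?_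
  rintro _ ⟨x, hx, rfl⟩
  refine θ_le_closE ((mem_normalizer_iff.1 hg _).1 e.2.1) (fun h => e.2.2 ?_) (θ_conj hx)
  rwa [mul_inv_eq_one, mul_eq_left] at h

theorem Fused.C_le_M (hd : d.Fused) {g : G} (hg : g * d.z = d.z * g) : g ∈ d.maxM := by
  have hQO : d.subQ ≤ normalizer (θ d.z : Set G) := fun x hx =>
    JTwoType.mem_normalizer_of_cI (by
      rintro _ ⟨y, hy, rfl⟩
      exact θ_normal (d.comm_z (d.subQ_le_S hx)) hy)
  obtain ⟨o, ho, hn⟩ := exists_mul_normalizer d.subQ_two (θ_odd d.z) hQO (g := g)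
    fun x hx => hd.conj_Q (d.mem_C.2 hg) hx
  have hoz : (o * g) * d.z = d.z * (o * g) :=
    (Commute.mul_left (mem_centralizer_singleton_iff.1 (θ_le _ ho)) hg : Commute (o * g) d.z).eq
  have h1 : o * g ∈ d.maxM := by
    refine JTwoType.mem_normalizer_of_cI (Subgroup.map_le_iff_le_comap.2 (hd.closE_le fun u hu hu2 x hx => ?_))
    refine hd.θ_le_closE_of_subQ ((mem_normalizer_iff.1 hn _).1 hu) ?_ (θ_conj hx)
    rw [← hu2]
    exact (MulAut.conj (o * g)).orderOf_eq u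
  simpa using mul_mem (inv_mem (d.closE_le_maxM (θ_le_closE d.z_mem_E d.z_ne_one ho))) h1

theorem Fused.cent_E_le_M (hd : d.Fused) {e g : G} (he : e ∈ d.subE) (he1 : e ≠ 1) (hg : g * e = e * g) :
    g ∈ d.maxM := by
  rcases d.E_cases he with h | ⟨i, hi, rfl⟩ | ⟨a, b, ha, hb, hne, rfl⟩
  · exact absurd h he1
  · by_cases hi' : i = 512
    · subst hi'; exact hd.C_le_M hg
    obtain ⟨n, hn, h1, -⟩ := hd.two i 512 512 i hi (isPt_iff.2 (by simp [ptL])) (isPt_iff.2 (by simp [ptL])) hi hi'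
      (Ne.symm hi')
    have h1' : n * d.s.φ i * n⁻¹ = d.z := h1
    have h2 : n * g * n⁻¹ ∈ d.maxM := hd.C_le_M (by
      rw [← h1', show n * g * n⁻¹ * (n * d.s.φ i * n⁻¹) = n * (g * d.s.φ i) * n⁻¹ by group, hg]; group)
    have := mul_mem (mul_mem (inv_mem (hd.N_le_M hn)) h2) (hd.N_le_M hn)
    rwa [show n⁻¹ * (n * g * n⁻¹) * n = g by group] at this
  · obtain ⟨o, ho, hn⟩ := hd.split_q ha hb hne hg
    simpa using mul_mem (inv_mem (d.closE_le_maxM (θ_le_closE he he1 ho))) (hd.N_le_M hn)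

/-- An involution commuting with the centre is moved into `E` by the centraliser of the centre. -/
theorem Fused.to_E (hd : d.Fused) {t : G} (ht : orderOf t = 2) (htz : t * d.z = d.z * t) :
    ∃ h : G, h * d.z = d.z * h ∧ h * t * h⁻¹ ∈ d.subE := by
  haveI : Fact (Nat.Prime 2) := ⟨Nat.prime_two⟩
  by_cases hc : IsConj d.z t
  · obtain ⟨k, hk, P, hP, -, hSP, hkP⟩ := align d.C (zpowers t) (d.S : Subgroup G)
      (IsPGroup.of_card (n := 1) (by rw [Nat.card_zpowers, ht, pow_one])) (zpowers_le.2 (d.mem_C.2 htz))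
      d.S.isPGroup' d.S_le_C
    refine ⟨k, d.mem_C.1 hk, ?_⟩
    exact (hd.pt_of_two_group hP (d.subE_le_S.trans hSP) (hkP (mem_cI (mem_zpowers t)))
      (hc.trans (isConj_iff.2 ⟨k, rfl⟩))).mem_E
  set q := d.s.φ 256 * d.s.φ 832
  have ha : d.Pt (d.s.φ 256) := ⟨256, isPt_iff.2 (by simp [ptL]), rfl⟩
  have hb : d.Pt (d.s.φ 832) := ⟨832, isPt_iff.2 (by simp [ptL]), rfl⟩
  have hne : d.s.φ 256 ≠ d.s.φ 832 := d.s.inj.ne (by decide)
  have hqE : q ∈ d.subE := d.pair_mem_E ha hb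
  obtain ⟨g₀, hg₀⟩ := conj_into d.S (IsPGroup.of_card (n := 1)
    (show Nat.card ↥(zpowers t) = 2 ^ 1 by rw [Nat.card_zpowers, ht, pow_one]))
  obtain ⟨n, hn⟩ := d.s.surj _ (hg₀ (mem_cI (mem_zpowers t)))
  have hni : isInv n = true := d.s.orderOf_two.1 (by
    rw [hn, show g₀ * t * g₀⁻¹ = MulAut.conj g₀ t from rfl, MulEquiv.orderOf_eq, ht])
  obtain ⟨-, hq1, hq2, -⟩ := pair_spec (isPt_iff.2 (by simp [ptL]) : isPt 256 = true)
    (isPt_iff.2 (by simp [ptL]) : isPt 832 = true) (by decide)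
  have hnp : isPt n = false := by
    by_contra h
    exact hc (((hd.cls n hni).2 (by simpa using h)).trans (isConj_iff.2 ⟨g₀⁻¹, by rw [hn]; group⟩))
  obtain ⟨g, hg⟩ := isConj_iff.1
    (((hd.other _ n hq1 hni hq2 hnp).trans (isConj_iff.2 ⟨g₀⁻¹, by rw [hn]; group⟩)) :
      IsConj (d.s.φ (mulS 256 832)) t)
  rw [← d.s.mul] at hg
  have hdq : g⁻¹ * d.z * g ∈ centralizer ({q} : Set G) := mem_centralizer_singleton_iff.2 (by
    calc g⁻¹ * d.z * g * q = g⁻¹ * (d.z * (g * q * g⁻¹)) * g := by group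
      _ = g⁻¹ * (g * q * g⁻¹ * d.z) * g := by rw [hg, htz]
      _ = _ := by group)
  have hdo : orderOf (g⁻¹ * d.z * g) = 2 := by
    rw [show g⁻¹ * d.z * g = MulAut.conj g⁻¹ d.z by simp, MulEquiv.orderOf_eq, d.orderOf_z]
  obtain ⟨k, hk, P, hP, -, hEP, hkP⟩ := align (centralizer ({q} : Set G)) (zpowers (g⁻¹ * d.z * g)) d.subE
    (IsPGroup.of_card (n := 1) (by rw [Nat.card_zpowers, hdo, pow_one])) (zpowers_le.2 hdq) d.subE_two
    (fun e he => mem_centralizer_singleton_iff.2 (d.comm_E he hqE))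
  obtain ⟨i, hi, hi'⟩ := hd.pt_of_two_group hP hEP (hkP (mem_cI (mem_zpowers _)))
    (isConj_iff.2 ⟨k * g⁻¹, by group⟩)
  have hkq := mem_centralizer_singleton_iff.1 hk
  obtain ⟨m, hm, hm1⟩ : ∃ m ∈ normalizer (d.subE : Set G), m * d.s.φ i * m⁻¹ = d.z := by
    by_cases hi2 : i = 512
    · exact ⟨1, one_mem _, by rw [hi2]; simp [Setting.z]⟩
    · obtain ⟨m, hm, h1, -⟩ := hd.two i 512 512 i hi (isPt_iff.2 (by simp [ptL])) (isPt_iff.2 (by simp [ptL])) hi
        hi2 (Ne.symm hi2)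
      exact ⟨m, hm, h1⟩
  refine ⟨m * k * g⁻¹, ?_, ?_⟩
  · refine mul_inv_eq_iff_eq_mul.1 ?_
    rw [show m * k * g⁻¹ * d.z * (m * k * g⁻¹)⁻¹ = m * (k * (g⁻¹ * d.z * g) * k⁻¹) * m⁻¹ by group, ← hi', hm1]
  · rw [← hg, show m * k * g⁻¹ * (g * q * g⁻¹) * (m * k * g⁻¹)⁻¹ = m * (k * q * k⁻¹) * m⁻¹ by group, hkq,
      mul_inv_cancel_right]
    exact (mem_normalizer_iff.1 hm _).1 hqE

/-- Elements of `E` in one class are conjugate under the normaliser. -/
theorem Fused.same_class (hd : d.Fused) {e e' : G} (he : e ∈ d.subE) (he' : e' ∈ d.subE) (h2 : orderOf e = 2)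
    (h2' : orderOf e' = 2) (h : IsConj e e') : ∃ n ∈ normalizer (d.subE : Set G), n * e' * n⁻¹ = e := by
  have hne : ∀ {t : G}, orderOf t = 2 → t ≠ 1 := fun h e => by rw [e, orderOf_one] at h; norm_num at h
  rcases d.E_cases he with h1 | hp | ⟨a, b, ha, hb, hne1, rfl⟩
  · exact absurd h1 (hne h2)
  · obtain ⟨j, hj, rfl⟩ := hd.pt_of_conj (d.subE_le_S he') ((hd.conj_of_pt hp).trans h)
    obtain ⟨i, hi, rfl⟩ := hp
    by_cases hij : i = j
    · exact ⟨1, one_mem _, by rw [hij]; simp⟩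
    · obtain ⟨n, hn, h1, -⟩ := hd.two j i i j hj hi hi hj (Ne.symm hij) hij
      exact ⟨n, hn, h1⟩
  · rcases d.E_cases he' with h1 | hp | ⟨a', b', ha', hb', hne', rfl⟩
    · exact absurd h1 (hne h2')
    · exact absurd ((hd.conj_of_pt hp).trans h.symm) (hd.pair_not_conj ha hb hne1).2
    · obtain ⟨i, hi, rfl⟩ := ha
      obtain ⟨j, hj, rfl⟩ := hb
      obtain ⟨k, hk, rfl⟩ := ha'
      obtain ⟨l, hl, rfl⟩ := hb'
      obtain ⟨n, hn, h1, h3⟩ := hd.two k l i j hk hl hi hj (fun e => hne' (congrArg d.s.φ e))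
        (fun e => hne1 (congrArg d.s.φ e))
      refine ⟨n, hn, ?_⟩
      rw [← h1, ← h3]
      group

/-- The closure is trivial. -/
theorem Fused.closE_eq_bot (hd : d.Fused) : d.closE = ⊥ := by
  haveI := d.simple
  haveI : Fact (Nat.Prime 2) := ⟨Nat.prime_two⟩
  by_contra hne
  have hM : d.maxM ≠ ⊤ := fun h => by
    have hn : d.closE.Normal := normalizer_eq_top_iff.1 h
    rcases IsSimpleGroup.eq_bot_or_eq_top_of_normal d.closE hn with e | e
    · exact hne e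
    · have hW := hd.odd_closE
      rw [e, Subgroup.card_top] at hW
      exact Nat.not_even_iff_odd.2 hW (even_iff_two_dvd.2 (d.orderOf_z ▸ orderOf_dvd_natCard d.z))
  have hSM : (d.S : Subgroup G) ≤ d.maxM := fun x hx => hd.C_le_M (d.comm_z hx)
  have hord : ∀ (w t : G), orderOf (w * t * w⁻¹) = orderOf t := fun w t => (MulAut.conj w).orderOf_eq t
  have hmove : ∀ t ∈ d.maxM, orderOf t = 2 → ∃ w ∈ d.maxM, w * t * w⁻¹ ∈ d.subE := by
    intro t ht ht2
    obtain ⟨k, hk, P, hP, hPM, hSP, hkP⟩ := align d.maxM (zpowers t) (d.S : Subgroup G)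
      (IsPGroup.of_card (n := 1) (by rw [Nat.card_zpowers, ht2, pow_one])) (zpowers_le.2 ht) d.S.isPGroup' hSM
    have hkt : k * t * k⁻¹ ∈ (d.S : Subgroup G) := (d.S.3 hP hSP) ▸ hkP (mem_cI (mem_zpowers t))
    obtain ⟨h, hh, hhe⟩ := hd.to_E ((hord k t).trans ht2) (d.comm_z hkt)
    refine ⟨h * k, mul_mem (hd.C_le_M hh) hk, ?_⟩
    rwa [show h * k * t * (h * k)⁻¹ = h * (k * t * k⁻¹) * h⁻¹ by group]
  have hne1 : ∀ {t : G}, orderOf t = 2 → t ≠ 1 := fun h e => by rw [e, orderOf_one] at h; norm_num at h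
  have hse : Cfsg.IsStronglyEmbedded d.maxM := by
    refine (Invol.isStronglyEmbedded_iff hM
      (Invol.even_card_of_mem d.orderOf_z (hSM (d.subE_le_S d.z_mem_E)))).2 fun t ht ht2 g hg => ?_
    have ht2' : orderOf (g⁻¹ * t * g) = 2 := by
      have := hord g⁻¹ t
      rwa [inv_inv, ht2] at this
    obtain ⟨w, hw, he⟩ := hmove t ht ht2
    obtain ⟨w', hw', he'⟩ := hmove _ hg ht2'
    obtain ⟨n, hn, hne'⟩ := hd.same_class he he' ((hord w t).trans ht2) ((hord w' _).trans ht2')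
      (isConj_iff.2 ⟨w' * g⁻¹ * w⁻¹, by group⟩)
    have hc : g * w'⁻¹ * n⁻¹ * w * t = t * (g * w'⁻¹ * n⁻¹ * w) := by
      refine mul_inv_eq_iff_eq_mul.1 ?_
      calc g * w'⁻¹ * n⁻¹ * w * t * (g * w'⁻¹ * n⁻¹ * w)⁻¹
          = g * w'⁻¹ * (n⁻¹ * (w * t * w⁻¹) * n) * w' * g⁻¹ := by group
        _ = g * w'⁻¹ * (w' * (g⁻¹ * t * g) * w'⁻¹) * w' * g⁻¹ := by rw [← hne']; group
        _ = t := by group
    have h2 : w * (g * w'⁻¹ * n⁻¹ * w) * w⁻¹ ∈ d.maxM := hd.cent_E_le_M he (hne1 ((hord w t).trans ht2)) (by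
      rw [show w * (g * w'⁻¹ * n⁻¹ * w) * w⁻¹ * (w * t * w⁻¹) = w * (g * w'⁻¹ * n⁻¹ * w * t) * w⁻¹ by group, hc]
      group)
    have h3 : g * w'⁻¹ * n⁻¹ * w ∈ d.maxM := by
      have := mul_mem (mul_mem (inv_mem hw) h2) hw
      rwa [show w⁻¹ * (w * (g * w'⁻¹ * n⁻¹ * w) * w⁻¹) * w = g * w'⁻¹ * n⁻¹ * w by group] at this
    have := mul_mem (mul_mem (mul_mem h3 (inv_mem hw)) (hd.N_le_M hn)) hw'
    rwa [show g * w'⁻¹ * n⁻¹ * w * w⁻¹ * n * w' = g by group] at this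
  have ha : d.Pt (d.s.φ 256) := ⟨256, isPt_iff.2 (by simp [ptL]), rfl⟩
  have hb : d.Pt (d.s.φ 832) := ⟨832, isPt_iff.2 (by simp [ptL]), rfl⟩
  obtain ⟨h1, h2⟩ := hd.pair_not_conj ha hb (d.s.inj.ne (by decide))
  exact h2 (Invol.isConj_involutions hse d.orderOf_z h1)

/-- The cores at the elements of `E` are trivial. -/
theorem Fused.θ_eq_bot (hd : d.Fused) {e : G} (he : e ∈ d.subE) (h1 : e ≠ 1) : θ e = ⊥ :=
  le_bot_iff.1 (hd.closE_eq_bot ▸ θ_le_closE he h1)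

/-- The structure of the centralisers. -/
theorem Fused.centr (hd : d.Fused) : d.Centr := by
  have hz := hd.θ_eq_bot d.z_mem_E d.z_ne_one
  refine ⟨fun a b g ha hb hne hg => ?_, fun a g ha haz hgz hga => ?_, fun g hg x hx => ?_, fun g hg h => ?_⟩
  · obtain ⟨o, ho, hn⟩ := hd.split_q ha hb hne hg
    rw [hd.θ_eq_bot (d.pair_mem_E ha hb) (fun e => by
      have := (hd.pair_not_conj ha hb hne).1
      rw [e, orderOf_one] at this; norm_num at this), mem_bot] at ho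
    rwa [ho, one_mul] at hn
  · obtain ⟨o, ho, -, hn⟩ := hd.split_za ha haz hgz hga
    rw [hz, mem_bot] at ho
    rwa [ho, one_mul] at hn
  · have := hd.conj_Q (d.mem_C.2 hg) hx
    rwa [hz, sup_bot_eq] at this
  · have := hd.self_Q (d.mem_C.2 hg) fun x hx => by
      rcases h x hx with e | e
      · exact Or.inl (e ▸ one_mem _)
      · exact Or.inr (by rw [e, d.z_sq]; exact one_mem _)
    rwa [hz, sup_bot_eq] at this

end Setting

end Cfsg.Agent.Spor.U52Type
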