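import Mathlib

/-!
# Counting pairs of involutions from two classes

A copy of the general part of `Lib/Fus/HeUniq/Pairs`, which imports the tables of the Held group.
-/

set_option autoImplicit false
set_option linter.style.haveILetI false
set_option linter.unusedSectionVars false

namespace Cfsg.Agent.Spor.U52Type.PairCount

variable {G : Type*} [Group G]

/-- The centraliser of an element. -/
abbrev CC (z : G) : Subgroup G := Subgroup.centralizer ({z} : Set G)

theorem cc_comm {z : G} (x : CC z) : (x : G) * z = z * (x : G) := Subgroup.mem_centralizer_singleton_iff.1 x.2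

theorem cjg_mul (g x y : G) : g * (x * y) * g⁻¹ = g * x * g⁻¹ * (g * y * g⁻¹) := by group

theorem conj_symm_iff {x y : G} : IsConj x y ↔ IsConj y x := ⟨IsConj.symm, IsConj.symm⟩

theorem isConj_cj (g x : G) : IsConj x (g * x * g⁻¹) := _root_.isConj_iff.2 ⟨g, rfl⟩

theorem isConj_cj_iff (g x y : G) : IsConj (g * x * g⁻¹) y ↔ IsConj x y :=
  ⟨fun h => (isConj_cj g x).trans h, fun h => (isConj_cj g x).symm.trans h⟩

theorem cj_mem_iff {z g h : G} : g * z * g⁻¹ = h * z * h⁻¹ ↔ h⁻¹ * g ∈ CC z := by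
  rw [Subgroup.mem_centralizer_singleton_iff]
  constructor
  · intro e
    calc h⁻¹ * g * z = h⁻¹ * (g * z * g⁻¹) * g := by group
      _ = z * (h⁻¹ * g) := by rw [e]; group
  · intro e
    calc g * z * g⁻¹ = h * (h⁻¹ * g * z) * g⁻¹ := by group
      _ = h * z * h⁻¹ := by rw [e]; group

/-- The elements sending `t` to an element with a property, counted along the conjugates. -/
theorem card_cj_fibre (t : G) (P : G → Prop) :
    Nat.card {g : G // P (g * t * g⁻¹)} = Nat.card {y : G // IsConj t y ∧ P y} * Nat.card (CC t) := by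
  classical
  have hch : ∀ y : {y : G // IsConj t y ∧ P y}, ∃ g : G, g * t * g⁻¹ = y.1 := fun y =>
    _root_.isConj_iff.1 y.2.1
  choose h hh using hch
  rw [← Nat.card_prod]
  refine Nat.card_congr
    { toFun := fun g => (⟨g.1 * t * g.1⁻¹, isConj_cj _ _, g.2⟩, ⟨(h ⟨g.1 * t * g.1⁻¹, isConj_cj _ _, g.2⟩)⁻¹ * g.1,
        cj_mem_iff.1 (hh ⟨g.1 * t * g.1⁻¹, isConj_cj _ _, g.2⟩).symm⟩)
      invFun := fun p => ⟨h p.1 * p.2.1, ?_⟩
      left_inv := fun g => Subtype.ext (by simp)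
      right_inv := fun p => ?_ }
  · have : h p.1 * p.2.1 * t * (h p.1 * p.2.1)⁻¹ = p.1.1 := by
      rw [show h p.1 * p.2.1 * t * (h p.1 * p.2.1)⁻¹ = h p.1 * (p.2.1 * t) * p.2.1⁻¹ * (h p.1)⁻¹ by group,
        cc_comm p.2, show h p.1 * (t * p.2.1) * p.2.1⁻¹ * (h p.1)⁻¹ = h p.1 * t * (h p.1)⁻¹ by group, hh]
    rw [this]; exact p.1.2.2
  · obtain ⟨y, c⟩ := p
    have hy : h y * c.1 * t * (h y * c.1)⁻¹ = y.1 := by
      rw [show h y * c.1 * t * (h y * c.1)⁻¹ = h y * (c.1 * t) * c.1⁻¹ * (h y)⁻¹ by group,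
        cc_comm c, show h y * (t * c.1) * c.1⁻¹ * (h y)⁻¹ = h y * t * (h y)⁻¹ by group, hh]
    have hy' : (⟨h y * c.1 * t * (h y * c.1)⁻¹, isConj_cj _ _, hy ▸ y.2.2⟩ : {y : G // IsConj t y ∧ P y}) = y :=
      Subtype.ext hy
    refine Prod.ext hy' (Subtype.ext ?_)
    show (h _)⁻¹ * (h y * c.1) = c.1
    rw [hy', inv_mul_cancel_left]

/-- Counting pairs of conjugates in two ways. -/
theorem double_count (s t : G) (P : G → G → Prop) (hP : ∀ g x y, P x y → P (g * x * g⁻¹) (g * y * g⁻¹)) :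
    Nat.card {y : G // IsConj t y ∧ P s y} * Nat.card (CC t) =
      Nat.card {x : G // IsConj s x ∧ P x t} * Nat.card (CC s) := by
  rw [← card_cj_fibre t (fun y => P s y), ← card_cj_fibre s (fun x => P x t)]
  refine Nat.card_congr ((Equiv.inv G).subtypeEquiv fun g => ?_)
  simp only [Equiv.inv_apply, inv_inv]
  constructor
  · intro h
    have := hP g⁻¹ _ _ h
    simpa [mul_assoc] using this
  · intro h
    have := hP g _ _ h
    simpa [mul_assoc] using this

theorem card_class (t : G) : Nat.card {y : G // IsConj t y} * Nat.card (CC t) = Nat.card G := by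
  have h := card_cj_fibre t (fun _ => True)
  simp only [and_true] at h
  rw [← h]
  exact Nat.card_congr (Equiv.subtypeUnivEquiv fun _ => trivial)

/-- A nontrivial power of a product equal to an element. -/
def Root (w x y : G) : Prop := ∃ i : ℕ, (x * y) ^ i = w

/-- Pairs of conjugates of two elements with a given involution among the powers of the product. -/
noncomputable def nPairs (s t w : G) : ℕ :=
  Nat.card {p : G × G // IsConj s p.1 ∧ IsConj t p.2 ∧ Root w p.1 p.2}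

theorem Root.cj {w x y : G} (h : Root w x y) (g : G) : Root (g * w * g⁻¹) (g * x * g⁻¹) (g * y * g⁻¹) := by
  obtain ⟨i, hi⟩ := h
  exact ⟨i, by rw [← cjg_mul, conj_pow, hi]⟩

theorem inv_of_ord {x : G} (hx : orderOf x = 2) : x * x = 1 := by
  have h := pow_orderOf_eq_one x
  rwa [hx, pow_two] at h

theorem root_unique [Finite G] {w w' x y : G} (hw : orderOf w = 2) (hw' : orderOf w' = 2) (h : Root w x y)
    (h' : Root w' x y) : w = w' := by
  obtain ⟨i, hi⟩ := h
  obtain ⟨j, hj⟩ := h'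
  have key : ∀ k : ℕ, orderOf ((x * y) ^ k) = 2 → (x * y) ^ k = (x * y) ^ (orderOf (x * y) / 2) := by
    intro k hk
    set n := orderOf (x * y)
    have hn : 0 < n := orderOf_pos _
    have h2 : n ∣ 2 * k := by
      rw [orderOf_dvd_iff_pow_eq_one, mul_comm, pow_mul, pow_two, inv_of_ord hk]
    have h1 : ¬ n ∣ k := fun hd => by
      rw [orderOf_dvd_iff_pow_eq_one.1 hd, orderOf_one] at hk; omega
    obtain ⟨c, hc⟩ := h2
    rcases Nat.even_or_odd c with ⟨q, rfl⟩ | ⟨q, rfl⟩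
    · exact absurd ⟨q, by rw [Nat.mul_add] at hc; omega⟩ h1
    · have hk' : k = n / 2 + n * q := by
        rw [Nat.mul_add, Nat.mul_one, show n * (2 * q) = 2 * (n * q) by ring] at hc
        omega
      rw [hk', pow_add, pow_mul, pow_orderOf_eq_one, one_pow, mul_one]
  rw [← hi, ← hj, key i (hi ▸ hw), key j (hj ▸ hw')]

theorem root_comm {w x y : G} (hx : orderOf x = 2) (hy : orderOf y = 2) (hw : orderOf w = 2) (h : Root w x y) :
    x * w = w * x ∧ y * w = w * y := by
  have hxx := inv_of_ord hx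
  have hyy := inv_of_ord hy
  obtain ⟨i, rfl⟩ := h
  have hwi : ((x * y) ^ i)⁻¹ = (x * y) ^ i := inv_eq_of_mul_eq_one_right (inv_of_ord hw)
  have hinv : (x * y)⁻¹ = y * x :=
    inv_eq_of_mul_eq_one_right (by rw [show x * y * (y * x) = x * (y * y) * x by group, hyy, mul_one, hxx])
  have h1 : x * (x * y) ^ i * x⁻¹ = (x * y) ^ i := by
    rw [← conj_pow, show x * (x * y) * x⁻¹ = y * x by
      rw [inv_eq_of_mul_eq_one_right hxx, ← mul_assoc x x y, hxx, one_mul], ← hinv, inv_pow, hwi]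
  have h1' : x * (x * y) ^ i = (x * y) ^ i * x := mul_inv_eq_iff_eq_mul.1 h1
  refine ⟨h1', ?_⟩
  have h2 : (x * y) * (x * y) ^ i = (x * y) ^ i * (x * y) := (Commute.self_pow _ _).eq
  calc y * (x * y) ^ i = x * ((x * y) * (x * y) ^ i) := by
        rw [← mul_assoc, ← mul_assoc, hxx, one_mul]
    _ = x * (x * y) ^ i * (x * y) := by rw [h2, mul_assoc]
    _ = (x * y) ^ i * y := by rw [h1', mul_assoc, ← mul_assoc x x y, hxx, one_mul]

theorem exists_root [Finite G] {x y : G} (hx : orderOf x = 2) (hy : orderOf y = 2) (hxy : ¬ IsConj x y) :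
    ∃ w, orderOf w = 2 ∧ Root w x y := by
  have hxx := inv_of_ord hx
  have hyy := inv_of_ord hy
  rcases Nat.even_or_odd (orderOf (x * y)) with ⟨k, hk⟩ | ⟨k, hk⟩
  · have hpos := orderOf_pos (x * y)
    exact ⟨(x * y) ^ (orderOf (x * y) / 2), orderOf_pow_orderOf_div hpos.ne' ⟨k, by omega⟩, _, rfl⟩
  · exfalso
    apply hxy
    refine _root_.isConj_iff.2 ⟨(x * y) ^ k, ?_⟩
    have hinv : (x * y)⁻¹ = y * x :=
      inv_eq_of_mul_eq_one_right (by rw [show x * y * (y * x) = x * (y * y) * x by group, hyy, mul_one, hxx])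
    have h1 : x * ((x * y) ^ k)⁻¹ = (x * y) ^ k * x := by
      rw [← inv_pow, hinv]
      refine mul_inv_eq_iff_eq_mul.1 ?_
      rw [← conj_pow, show x * (y * x) * x⁻¹ = x * y by group]
    rw [mul_assoc, h1, ← mul_assoc, ← pow_add]
    calc (x * y) ^ (k + k) * x = (x * y) ^ orderOf (x * y) * (x * y)⁻¹ * x := by
          rw [show orderOf (x * y) = k + k + 1 by omega, pow_succ, mul_inv_cancel_right]
      _ = y := by rw [pow_orderOf_eq_one, one_mul, hinv, mul_assoc, hxx, mul_one]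

variable [Finite G]

theorem pairs_fibre {s t w : G} (hw : orderOf w = 2) :
    Nat.card {p : G × G // IsConj s p.1 ∧ IsConj t p.2 ∧ ∃ v, IsConj w v ∧ Root v p.1 p.2} * Nat.card (CC w) =
      Nat.card G * nPairs s t w := by
  classical
  have hch : ∀ p : {p : G × G // IsConj s p.1 ∧ IsConj t p.2 ∧ ∃ v, IsConj w v ∧ Root v p.1 p.2},
      ∃ g : G, Root (g * w * g⁻¹) p.1.1 p.1.2 := fun p => by
    obtain ⟨v, hv, hr⟩ := p.2.2.2
    obtain ⟨g, rfl⟩ := _root_.isConj_iff.1 hv
    exact ⟨g, hr⟩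
  choose h hh using hch
  have ho : ∀ g : G, orderOf (g * w * g⁻¹) = 2 := fun g => by
    rw [← hw]; exact ((MulAut.conj g).orderOf_eq w)
  rw [nPairs, ← Nat.card_prod, ← Nat.card_prod]
  refine Nat.card_congr
    { toFun := fun pc => (h pc.1 * pc.2.1, ⟨((h pc.1 * pc.2.1)⁻¹ * pc.1.1.1 * (h pc.1 * pc.2.1),
        (h pc.1 * pc.2.1)⁻¹ * pc.1.1.2 * (h pc.1 * pc.2.1)), ?_, ?_, ?_⟩)
      invFun := fun gp => (⟨(gp.1 * gp.2.1.1 * gp.1⁻¹, gp.1 * gp.2.1.2 * gp.1⁻¹),
          gp.2.2.1.trans (isConj_cj _ _), gp.2.2.2.1.trans (isConj_cj _ _),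
          gp.1 * w * gp.1⁻¹, isConj_cj _ _, gp.2.2.2.2.cj _⟩,
        ⟨(h ⟨(gp.1 * gp.2.1.1 * gp.1⁻¹, gp.1 * gp.2.1.2 * gp.1⁻¹),
          gp.2.2.1.trans (isConj_cj _ _), gp.2.2.2.1.trans (isConj_cj _ _),
          gp.1 * w * gp.1⁻¹, isConj_cj _ _, gp.2.2.2.2.cj _⟩)⁻¹ * gp.1,
          cj_mem_iff.1 (root_unique (ho _) (ho _) (gp.2.2.2.2.cj _) (hh _))⟩)
      left_inv := fun pc => ?_
      right_inv := fun gp => ?_ }
  · have := isConj_cj (h pc.1 * pc.2.1)⁻¹ pc.1.1.1
    rw [inv_inv] at this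
    exact pc.1.2.1.trans this
  · have := isConj_cj (h pc.1 * pc.2.1)⁻¹ pc.1.1.2
    rw [inv_inv] at this
    exact pc.1.2.2.1.trans this
  · have e : h pc.1 * pc.2.1 * w * (h pc.1 * pc.2.1)⁻¹ = h pc.1 * w * (h pc.1)⁻¹ :=
      cj_mem_iff.2 (by rw [inv_mul_cancel_left]; exact pc.2.2)
    have := (hh pc.1).cj (h pc.1 * pc.2.1)⁻¹
    rw [inv_inv, ← e, show (h pc.1 * pc.2.1)⁻¹ * (h pc.1 * pc.2.1 * w * (h pc.1 * pc.2.1)⁻¹) *
      (h pc.1 * pc.2.1) = w by group] at this
    exact this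
  · obtain ⟨p, c⟩ := pc
    refine Prod.ext (Subtype.ext (Prod.ext ?_ ?_)) (Subtype.ext ?_) <;> simp [mul_assoc]
  · obtain ⟨g, p⟩ := gp
    refine Prod.ext ?_ (Subtype.ext (Prod.ext ?_ ?_)) <;> simp [mul_assoc]

/-- The order formula for two classes of involutions. -/
theorem order_formula {z a : G} (hz : orderOf z = 2) (ha : orderOf a = 2) (hza : ¬ IsConj z a)
    (hall : ∀ w : G, orderOf w = 2 → IsConj z w ∨ IsConj a w) :
    Nat.card G = nPairs z a z * Nat.card (CC a) + nPairs z a a * Nat.card (CC z) := by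
  classical
  have hord : ∀ {s x : G}, orderOf s = 2 → IsConj s x → orderOf x = 2 := fun {s x} hs h => by
    obtain ⟨g, rfl⟩ := _root_.isConj_iff.1 h
    rw [← hs]; exact (MulAut.conj g).orderOf_eq s
  let P := {p : G × G // IsConj z p.1 ∧ IsConj a p.2}
  let Pw := fun s : G => {p : G × G // IsConj z p.1 ∧ IsConj a p.2 ∧ ∃ v, IsConj s v ∧ Root v p.1 p.2}
  have hP : Nat.card P * Nat.card (CC z) * Nat.card (CC a) = Nat.card G * Nat.card G := by
    have e : P ≃ {x : G // IsConj z x} × {y : G // IsConj a y} := Equiv.subtypeProdEquivProd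
    rw [Nat.card_congr e, Nat.card_prod]
    conv_rhs => rw [← card_class z]; arg 2; rw [card_class z, ← card_class a]
    ring
  have hsum : Nat.card P = Nat.card (Pw z) + Nat.card (Pw a) := by
    rw [← Nat.card_sum]
    refine (Nat.card_congr (Equiv.ofBijective (fun q : Pw z ⊕ Pw a => (match q with
      | .inl p => ⟨p.1, p.2.1, p.2.2.1⟩
      | .inr p => ⟨p.1, p.2.1, p.2.2.1⟩ : P)) ⟨?_, ?_⟩)).symm
    · have clash : ∀ (p : Pw z) (q : Pw a), p.1 ≠ q.1 := by
        rintro ⟨p, hp1, hp2, v, hv, hr⟩ ⟨q, -, -, v', hv', hr'⟩ (rfl : p = q)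
        have := root_unique (hord hz hv) (hord ha hv') hr hr'
        subst this
        exact hza (hv.trans hv'.symm)
      rintro (p | p) (q | q) h
      · exact congrArg Sum.inl (Subtype.ext (congrArg Subtype.val h :))
      · exact absurd (congrArg Subtype.val h :) (clash p q)
      · exact absurd (congrArg Subtype.val h.symm :) (clash q p)
      · exact congrArg Sum.inr (Subtype.ext (congrArg Subtype.val h :))
    · rintro ⟨p, h1, h2⟩
      obtain ⟨w, hw, hr⟩ := exists_root (hord hz h1) (hord ha h2) fun h => hza (h1.trans (h.trans h2.symm))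
      rcases hall w hw with h | h
      · exact ⟨.inl ⟨p, h1, h2, w, h, hr⟩, rfl⟩
      · exact ⟨.inr ⟨p, h1, h2, w, h, hr⟩, rfl⟩
  have e1 : Nat.card (Pw z) * Nat.card (CC z) = Nat.card G * nPairs z a z := pairs_fibre hz
  have e2 : Nat.card (Pw a) * Nat.card (CC a) = Nat.card G * nPairs z a a := pairs_fibre ha
  have h : Nat.card G * Nat.card G =
      Nat.card G * (nPairs z a z * Nat.card (CC a) + nPairs z a a * Nat.card (CC z)) := by
    rw [← hP, hsum, Nat.mul_add, ← Nat.mul_assoc, ← Nat.mul_assoc (Nat.card G) (nPairs z a a), ← e1, ← e2]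
    ring
  exact Nat.eq_of_mul_eq_mul_left Nat.card_pos h

end Cfsg.Agent.Spor.U52Type.PairCount
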