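import Cfsg.Agent.Lib.Spor.U52Type.FusedProof
import Cfsg.Agent.Lib.Spor.U52Type.PairCount

/-!
# Counting in the centralisers: points, stabilisers and products of odd order
-/

set_option autoImplicit false
set_option linter.unusedSectionVars false
set_option maxRecDepth 100000
set_option maxHeartbeats 1000000

namespace Cfsg.Agent.Spor.U52Type

open Subgroup Equiv
open Cfsg.Agent.Spor.JTwoType (cI mem_cI card_cI align conj_into)

universe u

theorem pts_pair_uniq : ∀ i j k l : Fin 5, i ≠ j → k ≠ l → mulS (pts i) (pts j) = mulS (pts k) (pts l) →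
    (i = k ∧ j = l) ∨ (i = l ∧ j = k) := by
  decide +kernel

variable {G : Type u} [Group G] [Finite G]

/-- The elements conjugate to a given one under the centraliser of another, counted. -/
theorem orbit_card {z x : G} (hx : x * z = z * x) :
    Nat.card {y : G // ∃ g : G, g * z = z * g ∧ g * x * g⁻¹ = y} *
        Nat.card ↥(centralizer ({z} : Set G) ⊓ centralizer ({x} : Set G)) =
      Nat.card ↥(centralizer ({z} : Set G)) := by
  set C := centralizer ({z} : Set G)
  let t : ↥C := ⟨x, mem_centralizer_singleton_iff.2 hx⟩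
  rw [← PairCount.card_class t]
  congr 1
  · refine (Nat.card_congr (Equiv.ofBijective
      (fun p : {y : ↥C // IsConj t y} => (⟨(p.1 : G), ?_⟩ : {y : G // ∃ g : G, g * z = z * g ∧ g * x * g⁻¹ = y}))
      ⟨?_, ?_⟩)).symm
    · obtain ⟨g, hg⟩ := isConj_iff.1 p.2
      exact ⟨g, mem_centralizer_singleton_iff.1 g.2, congrArg Subtype.val hg⟩
    · exact fun p q h => Subtype.ext (Subtype.ext (congrArg Subtype.val h :))
    · rintro ⟨y, g, hg, rfl⟩
      exact ⟨⟨⟨g * x * g⁻¹, mul_mem (mul_mem (mem_centralizer_singleton_iff.2 hg) t.2)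
        (inv_mem (mem_centralizer_singleton_iff.2 hg))⟩,
        isConj_iff.2 ⟨⟨g, mem_centralizer_singleton_iff.2 hg⟩, rfl⟩⟩, rfl⟩
  · refine Nat.card_congr
      { toFun := fun g => ⟨⟨(g : G), g.2.1⟩, mem_centralizer_singleton_iff.2
          (Subtype.ext (mem_centralizer_singleton_iff.1 g.2.2))⟩
        invFun := fun g => ⟨((g : ↥C) : G), (g : ↥C).2, mem_centralizer_singleton_iff.2
          (congrArg Subtype.val (mem_centralizer_singleton_iff.1 g.2) :)⟩
        left_inv := fun _ => rfl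
        right_inv := fun _ => rfl }

/-- The 2-group generated by two involutions whose product has 2-power order. -/
theorem two_group_of_prod {x y : G} (hx : orderOf x = 2) (hy : orderOf y = 2) {s : ℕ} (h : (x * y) ^ 2 ^ s = 1) :
    IsPGroup 2 ↥(zpowers x ⊔ zpowers (x * y)) := by
  haveI : Fact (Nat.Prime 2) := ⟨Nat.prime_two⟩
  have hxx := PairCount.inv_of_ord hx
  have hyy := PairCount.inv_of_ord hy
  refine IsPGroup.to_sup_of_normal_right' (IsPGroup.of_card (n := 1) (by rw [Nat.card_zpowers, hx, pow_one])) ?_ ?_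
  · obtain ⟨k, -, hk⟩ := (Nat.dvd_prime_pow Nat.prime_two).1 (orderOf_dvd_of_pow_eq_one h)
    exact IsPGroup.of_card (n := k) (by rw [Nat.card_zpowers, hk])
  · refine zpowers_le.2 (mem_normalizer_fintype ?_)
    intro w hw
    obtain ⟨k, rfl⟩ := mem_zpowers_iff.1 hw
    rw [SetLike.mem_coe, ← conj_zpow,
      show x * (x * y) * x⁻¹ = (x * y)⁻¹ by
        rw [mul_inv_rev, inv_eq_of_mul_eq_one_right hxx, inv_eq_of_mul_eq_one_right hyy, ← mul_assoc, hxx, one_mul],
      inv_zpow]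
    exact inv_mem (zpow_mem (mem_zpowers _) k)

namespace Setting

variable {d : Setting G}

theorem Pt_iff {x : G} : d.Pt x ↔ ∃ i, x = d.pt i := by
  constructor
  · rintro ⟨n, hn, rfl⟩
    rw [isPt_eq_isP] at hn
    obtain ⟨i, rfl⟩ := (isP_iff n).1 hn
    exact ⟨i, rfl⟩
  · rintro ⟨i, rfl⟩
    exact ⟨pts i, by rw [isPt_eq_isP]; exact (isP_iff _).2 ⟨i, rfl⟩, rfl⟩

theorem pt_Pt (i : Fin 5) : d.Pt (d.pt i) := Pt_iff.2 ⟨i, rfl⟩

theorem pt_ord (i : Fin 5) : orderOf (d.pt i) = 2 := d.s.orderOf_two.2 (pts_facts.2 i).1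

theorem pt_sq (i : Fin 5) : d.pt i * d.pt i = 1 := PairCount.inv_of_ord (pt_ord i)

theorem pt_comm (i j : Fin 5) : d.pt i * d.pt j = d.pt j * d.pt i := d.comm_E_E (d.pt_mem i) (d.pt_mem j)

theorem pt_pair_uniq {i j k l : Fin 5} (hij : i ≠ j) (hkl : k ≠ l) (h : d.pt i * d.pt j = d.pt k * d.pt l) :
    (i = k ∧ j = l) ∨ (i = l ∧ j = k) := by
  unfold Setting.pt at h
  rw [d.s.mul, d.s.mul] at h
  exact pts_pair_uniq i j k l hij hkl (d.s.inj h)

theorem pt_pair_not_z {i j : Fin 5} (hij : i ≠ j) : ¬ IsConj d.z (d.pt i * d.pt j) :=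
  (d.fused.pair_not_conj (pt_Pt i) (pt_Pt j) fun e => hij (d.pt_inj e)).2

theorem pt_pair_ord {i j : Fin 5} (hij : i ≠ j) : orderOf (d.pt i * d.pt j) = 2 :=
  (d.fused.pair_not_conj (pt_Pt i) (pt_Pt j) fun e => hij (d.pt_inj e)).1

theorem ord_D {x : G} (h : IsConj d.z x) : orderOf x = 2 := by
  obtain ⟨g, rfl⟩ := isConj_iff.1 h
  rw [show g * d.z * g⁻¹ = MulAut.conj g d.z from rfl, MulEquiv.orderOf_eq, d.orderOf_z]

theorem isConj_cj {x : G} (g : G) (h : IsConj d.z x) : IsConj d.z (g * x * g⁻¹) :=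
  h.trans (isConj_iff.2 ⟨g, rfl⟩)

/-- A conjugate of the centre in the normaliser is a point. -/
theorem pt_of_mem_N {x : G} (hxN : x ∈ normalizer (d.subE : Set G)) (h : IsConj d.z x) : ∃ i, x = d.pt i := by
  haveI : Fact (Nat.Prime 2) := ⟨Nat.prime_two⟩
  obtain ⟨n, hn, P, hP, -, hSP, hxP⟩ := align (normalizer (d.subE : Set G)) (zpowers x) (d.S : Subgroup G)
    (IsPGroup.of_card (n := 1) (by rw [Nat.card_zpowers, ord_D h, pow_one])) (zpowers_le.2 hxN)
    d.S.isPGroup' d.S_le_normalizer_E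
  rw [d.S.3 hP hSP] at hxP
  obtain ⟨i, hi⟩ := Pt_iff.1 (d.fused.pt_of_conj (hxP (mem_cI (mem_zpowers x))) (isConj_cj n h))
  refine ⟨d.act ⟨n⁻¹, inv_mem hn⟩ i, ?_⟩
  rw [← d.act_spec, ← hi]
  group

/-- Two commuting distinct conjugates of the centre can be moved to any two points. -/
theorem to_pts {x y : G} (hx : IsConj d.z x) (hy : IsConj d.z y) (hne : x ≠ y) (hc : x * y = y * x)
    {i j : Fin 5} (hij : i ≠ j) : ∃ g : G, g * x * g⁻¹ = d.pt i ∧ g * y * g⁻¹ = d.pt j := by
  have h2 : (x * y) ^ 2 ^ 1 = 1 := by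
    rw [pow_one, pow_two, mul_assoc, ← mul_assoc y x y, ← hc, mul_assoc x y y, PairCount.inv_of_ord (ord_D hy),
      mul_one, PairCount.inv_of_ord (ord_D hx)]
  obtain ⟨g, hg⟩ := conj_into d.S (two_group_of_prod (ord_D hx) (ord_D hy) h2)
  have hxm : g * x * g⁻¹ ∈ (d.S : Subgroup G) := hg (mem_cI (mem_sup_left (mem_zpowers x)))
  have hym : g * y * g⁻¹ ∈ (d.S : Subgroup G) := hg (mem_cI (by
    have : x * (x * y) ∈ zpowers x ⊔ zpowers (x * y) :=
      mul_mem (mem_sup_left (mem_zpowers x)) (mem_sup_right (mem_zpowers _))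
    rwa [← mul_assoc, PairCount.inv_of_ord (ord_D hx), one_mul] at this))
  obtain ⟨k, hk⟩ := Pt_iff.1 (d.fused.pt_of_conj hxm (isConj_cj g hx))
  obtain ⟨l, hl⟩ := Pt_iff.1 (d.fused.pt_of_conj hym (isConj_cj g hy))
  have hkl : k ≠ l := fun e => hne (mul_left_cancel (mul_right_cancel (hk.trans (e ▸ hl.symm))))
  obtain ⟨p, hp, h1, h2⟩ := two_pts_even k l i j hkl hij
  obtain ⟨m, -, hm⟩ := d.exists_map hp
  refine ⟨m * g, ?_, ?_⟩
  · rw [← h1, ← hm k, ← hk]; group
  · rw [← h2, ← hm l, ← hl]; group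

theorem mem_N_of_comm_pair (hc : d.Centr) {g : G} {i j : Fin 5} (hij : i ≠ j)
    (h : g * (d.pt i * d.pt j) = d.pt i * d.pt j * g) : g ∈ normalizer (d.subE : Set G) :=
  hc.cent_q _ _ g (pt_Pt i) (pt_Pt j) (fun e => hij (d.pt_inj e)) h

/-- The conjugates of the centre commuting with a product of two points are points. -/
theorem D_cent_pair (hc : d.Centr) {x : G} (hx : IsConj d.z x) {i j : Fin 5} (hij : i ≠ j)
    (h : x * (d.pt i * d.pt j) = d.pt i * d.pt j * x) : ∃ k, x = d.pt k :=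
  pt_of_mem_N (mem_N_of_comm_pair hc hij h) hx

/-- Non-commuting conjugates of the centre have product of odd order. -/
theorem odd_prod (hc : d.Centr) {x y : G} (hx : IsConj d.z x) (hy : IsConj d.z y) (hne : x * y ≠ y * x) :
    Odd (orderOf (x * y)) := by
  by_contra hev
  rw [Nat.not_odd_iff_even] at hev
  have hxx := PairCount.inv_of_ord (ord_D hx)
  have hyy := PairCount.inv_of_ord (ord_D hy)
  have hn0 : orderOf (x * y) ≠ 0 := (orderOf_pos _).ne'
  obtain ⟨s, t, ht, hst⟩ := Nat.exists_eq_two_pow_mul_odd hn0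
  obtain ⟨u, hu⟩ := ht
  set w := (x * y) ^ t with hw
  have hx' : IsConj d.z (x * w) := by
    have e : x * w = ((x * y) ^ u)⁻¹ * y * (x * y) ^ u := by
      have hinv : ((x * y) ^ u)⁻¹ = x * (x * y) ^ u * x := by
        rw [← inv_pow, show (x * y)⁻¹ = x * (x * y) * x⁻¹ by
          rw [mul_inv_rev, inv_eq_of_mul_eq_one_right hxx, inv_eq_of_mul_eq_one_right hyy, ← mul_assoc, hxx, one_mul],
          conj_pow, inv_eq_of_mul_eq_one_right hxx]
      rw [hinv, hw, hu, show 2 * u + 1 = u + 1 + u by ring, pow_add, pow_succ]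
      group
    rw [e]
    simpa using isConj_cj ((x * y) ^ u)⁻¹ hy
  have hws : w ^ 2 ^ s = 1 := by rw [hw, ← pow_mul, mul_comm, ← hst, pow_orderOf_eq_one]
  have hxw : x * (x * w) = w := by rw [← mul_assoc, hxx, one_mul]
  obtain ⟨g, hg⟩ := conj_into d.S (two_group_of_prod (ord_D hx) (ord_D hx') (s := s) (by rw [hxw]; exact hws))
  rw [hxw] at hg
  obtain ⟨k, hk⟩ := Pt_iff.1 (d.fused.pt_of_conj (hg (mem_cI (mem_sup_left (mem_zpowers x)))) (isConj_cj g hx))
  obtain ⟨l, hl⟩ := Pt_iff.1 (d.fused.pt_of_conj (hg (mem_cI (mul_mem (mem_sup_left (mem_zpowers x))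
    (mem_sup_right (mem_zpowers w))))) (isConj_cj g hx'))
  have hgw : g * w * g⁻¹ = d.pt k * d.pt l := by
    rw [← hk, ← hl]
    conv_lhs => rw [← hxw]
    group
  have hs : 1 ≤ s := by
    rcases Nat.eq_zero_or_pos s with rfl | h
    · rw [pow_zero, one_mul] at hst
      rw [hst, hu] at hev
      obtain ⟨c, hc'⟩ := hev
      omega
    · exact h
  have hw1 : w ≠ 1 := fun e => by
    have h1 := orderOf_dvd_of_pow_eq_one (show (x * y) ^ t = 1 from e)
    rw [hst] at h1
    have h2 := Nat.le_of_dvd (by omega) h1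
    have : 2 ≤ 2 ^ s := le_self_pow (by norm_num) (by omega)
    nlinarith
  have hkl : k ≠ l := fun e => hw1 (by
    have : g * w * g⁻¹ = 1 := by rw [hgw, e, pt_sq]
    rwa [← MulAut.conj_apply, MulEquiv.map_eq_one_iff] at this)
  have hxcomm : x * w = w * x := by
    apply mul_left_cancel (a := g)
    apply mul_right_cancel (b := g⁻¹)
    calc g * (x * w) * g⁻¹ = (g * x * g⁻¹) * (g * w * g⁻¹) := by group
      _ = d.pt k * (d.pt k * d.pt l) := by rw [hk, hgw]
      _ = d.pt k * d.pt l * d.pt k := by rw [mul_assoc, pt_comm l k]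
      _ = (g * w * g⁻¹) * (g * x * g⁻¹) := by rw [hk, hgw]
      _ = g * (w * x) * g⁻¹ := by group
  have hpw : (x * y) * w = w * (x * y) := (Commute.self_pow (x * y) t).eq
  have hycomm : y * w = w * y := by
    calc y * w = x * ((x * y) * w) := by rw [← mul_assoc, ← mul_assoc, hxx, one_mul]
      _ = x * w * (x * y) := by rw [hpw, mul_assoc]
      _ = w * y := by rw [hxcomm, mul_assoc, ← mul_assoc x x y, hxx, one_mul]
  have hpt : ∀ v : G, IsConj d.z v → v * w = w * v → ∃ i, g * v * g⁻¹ = d.pt i := fun v hv hvw =>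
    D_cent_pair hc (isConj_cj g hv) hkl (by
      rw [← hgw]
      calc g * v * g⁻¹ * (g * w * g⁻¹) = g * (v * w) * g⁻¹ := by group
        _ = g * (w * v) * g⁻¹ := by rw [hvw]
        _ = _ := by group)
  obtain ⟨i, hi⟩ := hpt x hx hxcomm
  obtain ⟨j, hj⟩ := hpt y hy hycomm
  refine hne (mul_left_cancel (a := g) (mul_right_cancel (b := g⁻¹) ?_))
  calc g * (x * y) * g⁻¹ = (g * x * g⁻¹) * (g * y * g⁻¹) := by group
    _ = (g * y * g⁻¹) * (g * x * g⁻¹) := by rw [hi, hj, pt_comm]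
    _ = g * (y * x) * g⁻¹ := by group

/-- The kernel of the action on the points. -/
noncomputable def kerCard (d : Setting G) : ℕ := Nat.card ↥d.act.ker

/-- The order of a subgroup of the normaliser cut out by a condition on the action. -/
theorem card_stab (H : Subgroup G) (hH : H ≤ normalizer (d.subE : Set G)) (P : Perm (Fin 5) → Prop)
    [DecidablePred P] (hmem : ∀ g : ↥(normalizer (d.subE : Set G)), (g : G) ∈ H ↔ P (d.act g)) :
    Nat.card ↥H = (Finset.univ.filter fun p => Perm.sign p = 1 ∧ P p).card * d.kerCard := by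
  classical
  let N := normalizer (d.subE : Set G)
  rw [← Nat.card_congr (subgroupOfEquivOfLe hH).toEquiv]
  set T := {p : Perm (Fin 5) // Perm.sign p = 1 ∧ P p}
  let f : ↥(H.subgroupOf N) → T := fun g => ⟨d.act g.1, d.sign_act _, (hmem g.1).1 g.2⟩
  have hfib : ∀ t : T, Nat.card {g // f g = t} = d.kerCard := by
    rintro ⟨p, hp, hP⟩
    obtain ⟨n, hn⟩ := d.exists_act hp
    refine Nat.card_congr
      { toFun := fun g => ⟨n⁻¹ * g.1.1, by
          have := congrArg Subtype.val g.2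
          rw [MonoidHom.mem_ker, map_mul, map_inv, show d.act g.1.1 = p from this, hn, inv_mul_cancel]⟩
        invFun := fun k => ⟨⟨n * k.1, mem_subgroupOf.2 ((hmem (n * k.1)).2 (by rw [map_mul, MonoidHom.mem_ker.1 k.2, mul_one, hn]; exact hP))⟩,
          Subtype.ext (by
            show d.act (n * k.1) = p
            rw [map_mul, MonoidHom.mem_ker.1 k.2, mul_one, hn])⟩
        left_inv := fun g => Subtype.ext (Subtype.ext (mul_inv_cancel_left n g.1.1))
        right_inv := fun k => Subtype.ext (inv_mul_cancel_left n k.1) }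
  rw [← Nat.card_congr (Equiv.sigmaFiberEquiv f), Nat.card_sigma, Finset.sum_congr rfl fun t _ => hfib t,
    Finset.sum_const, smul_eq_mul, Finset.card_univ, Fintype.card_subtype]

theorem comm_pt_iff (g : ↥(normalizer (d.subE : Set G))) (i : Fin 5) :
    (g : G) * d.pt i = d.pt i * g ↔ d.act g i = i := by
  rw [← mul_inv_eq_iff_eq_mul, d.act_spec, d.pt_inj.eq_iff]

theorem comm_pair_iff (g : ↥(normalizer (d.subE : Set G))) {i j : Fin 5} (hij : i ≠ j) :
    (g : G) * (d.pt i * d.pt j) = d.pt i * d.pt j * g ↔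
      (d.act g i = i ∧ d.act g j = j) ∨ (d.act g i = j ∧ d.act g j = i) := by
  have e : (g : G) * (d.pt i * d.pt j) * (g : G)⁻¹ = d.pt (d.act g i) * d.pt (d.act g j) := by
    rw [← d.act_spec, ← d.act_spec]; group
  rw [← mul_inv_eq_iff_eq_mul, e]
  constructor
  · exact pt_pair_uniq ((d.act g).injective.ne hij) hij
  · rintro (⟨a, b⟩ | ⟨a, b⟩) <;> rw [a, b]
    rw [pt_comm]

end Setting

end Cfsg.Agent.Spor.U52Type
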