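import Cfsg.Agent.Lib.Spor.U52Type.FusionFacts
import Cfsg.Agent.Lib.Spor.U52Type.QFacts

/-!
# Finite facts for the counts
-/

set_option autoImplicit false
set_option maxRecDepth 100000
set_option maxHeartbeats 4000000

namespace Cfsg.Agent.Spor.U52Type

theorem uq_count : (List.range 1024).countP (fun i => (fun n : Fin 1024 => inQ n && isInv n && !eqC n 512)
    ⟨i % 1024, Nat.mod_lt _ (by norm_num)⟩) = 54 := by
  decide +kernel

theorem swap_count : (List.range 1024).countP (fun i => (fun n : Fin 1024 =>
    inQ n && isInv n && commS n 576 && Nat.beq ((n : ℕ) % 4) 1) ⟨i % 1024, Nat.mod_lt _ (by norm_num)⟩) = 16 := by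
  decide +kernel

theorem apair_ok : allCodes (fun n => !(inQ n && isInv n && !eqC n 512) ||
    let k := mulS 256 n
    (eqC (mulS (mulS k k) (mulS k k)) 0 && !eqC k 512 && !eqC (mulS k k) 512 &&
      !eqC (mulS (mulS k k) k) 512)) = true := by
  decide +kernel

theorem q_facts : mulS (pts 1) (pts 2) = 576 ∧ inQ 576 = true ∧ isInv 576 = true ∧ pts 0 = 512 ∧ pts 1 = 256 := by
  decide +kernel

theorem pair_inQ : ∀ i j : Fin 5, i ≠ j → (inQ (mulS (pts i) (pts j)) = true ↔ i ≠ 0 ∧ j ≠ 0) := by
  decide +kernel

theorem Q_isP_ok : allCodes (fun n => !(inQ n && isInv n && isP n) || eqC n 512) = true := by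
  decide +kernel

/-- A member of the list of codes in the intersection of the subgroups of orders 128 and 256. -/
def inQ2 (n : Fin 1024) : Bool := inQ n && inW n

/-- A member of the list of codes in the intersection with the elementary subgroup. -/
def inQE (n : Fin 1024) : Bool := inQ n && inE n

theorem Q2_count : (List.range 1024).countP (fun i => inQ2 ⟨i % 1024, Nat.mod_lt _ (by norm_num)⟩) = 32 := by
  decide +kernel

theorem QE_count : (List.range 1024).countP (fun i => inQE ⟨i % 1024, Nat.mod_lt _ (by norm_num)⟩) = 8 := by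
  decide +kernel

theorem card_filter_codes (p : Fin 1024 → Bool) :
    (Finset.univ.filter fun n => p n = true).card =
      (List.range 1024).countP fun i => p ⟨i % 1024, Nat.mod_lt _ (by norm_num)⟩ := by
  have h : (List.range 1024).countP (fun i => p ⟨i % 1024, Nat.mod_lt _ (by norm_num)⟩) =
      (List.finRange 1024).countP p := by
    rw [← List.map_coe_finRange_eq_range, List.countP_map]
    refine List.countP_congr fun n _ => ?_
    simp [Function.comp, Nat.mod_eq_of_lt n.2]
  rw [h, List.countP_eq_length_filter,
    ← List.toFinset_card_of_nodup ((List.nodup_finRange 1024).filter p)]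
  congr 1
  ext x
  simp

end Cfsg.Agent.Spor.U52Type
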