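import Cfsg.Agent.Lib.Spor.U52Type.CountZ

/-!
# At most 165 conjugates of the centre, by the order formula
-/

set_option autoImplicit false
set_option linter.unusedSectionVars false
set_option maxRecDepth 100000
set_option maxHeartbeats 1000000

namespace Cfsg.Agent.Spor.U52Type

open Subgroup Equiv
open Cfsg.Agent.Spor.JTwoType (cI mem_cI card_cI align)
open PairCount (Root nPairs)

universe u

theorem swap_perm : ∀ p : Perm (Fin 5), Perm.sign p = 1 ∧ p * p = 1 ∧ p ≠ 1 ∧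
    ((p 1 = 1 ∧ p 2 = 2) ∨ (p 1 = 2 ∧ p 2 = 1)) →
    p 1 = 2 ∧ p 2 = 1 ∧ (p 0 = 0 ∨ p 3 = 3 ∨ p 4 = 4) := by
  decide +kernel

theorem vP_swap : ∀ c : Fin 4, vP c 1 = 2 → c = 1 := by decide +kernel

variable {G : Type u} [Group G] [Finite G]

namespace Setting

variable {d : Setting G}

theorem ord_U {y : G} (h : IsConj d.q y) : orderOf y = 2 := by
  obtain ⟨g, rfl⟩ := isConj_iff.1 h
  rw [show g * d.q * g⁻¹ = MulAut.conj g d.q from rfl, MulEquiv.orderOf_eq, q_ord]

theorem U_not_D {y : G} (h : IsConj d.q y) : ¬ IsConj d.z y := fun h' => q_not_z (h'.trans h.symm)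

theorem pt_inDz {i : Fin 5} (hi : i ≠ 0) : d.InDz (d.pt i) :=
  ⟨d.isConj_pts i, fun e => hi (d.pt_inj (e.trans d.pt_zero.symm)), pt_comm_z i⟩

theorem InDz.conj {x g : G} (hg : g * d.z = d.z * g) (hx : d.InDz x) : d.InDz (g * x * g⁻¹) := by
  obtain ⟨h, hh, rfl⟩ := Dz_iff.1 hx
  exact Dz_iff.2 ⟨g * h, by rw [mul_assoc, hh, ← mul_assoc, hg, mul_assoc], by group⟩

/-- The partners of the point `a` with the centre among the powers of the product. -/
theorem fibre_z (hc : d.Centr) : {y : G | IsConj d.q y ∧ Root d.z (d.pt 1) y}.ncard ≤ 33 := by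
  have hsub : (fun y => d.z * y) '' {y : G | IsConj d.q y ∧ Root d.z (d.pt 1) y} ⊆
      {x | d.InDz x} \ (d.pt '' {2, 3, 4}) := by
    rintro _ ⟨y, ⟨hy, hr⟩, rfl⟩
    have hyz := (PairCount.root_comm (pt_ord 1) (ord_U hy) d.orderOf_z hr).2
    obtain ⟨i, hi⟩ := hr
    rcases cent_z_cases hc (ord_U hy) (U_not_D hy) hyz with h | ⟨x, hx, rfl⟩
    · exfalso
      obtain ⟨n, hn, rfl⟩ := (q_orbit_iff hc).1 h
      have hk := of_allCodes apair_ok n
      simp only [hn, Bool.not_true, Bool.false_or, Bool.and_eq_true, Bool.not_eq_true', ← Bool.not_eq_true,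
        eqC_iff] at hk
      obtain ⟨⟨⟨h4, h1⟩, h2⟩, h3⟩ := hk
      set k := mulS 256 n
      have hak : d.pt 1 * d.s.φ n = d.s.φ k := d.s.mul 256 n
      rw [hak] at hi
      have hk4 : d.s.φ k ^ 4 = 1 := by
        rw [pow_succ, pow_succ, pow_two, mul_assoc, d.s.mul, d.s.mul, h4, d.s.one]
      rw [← Nat.mod_add_div i 4, pow_add, pow_mul, hk4, one_pow, mul_one] at hi
      have : i % 4 = 0 ∨ i % 4 = 1 ∨ i % 4 = 2 ∨ i % 4 = 3 := by omega
      rcases this with e | e | e | e <;> rw [e] at hi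
      · exact d.z_ne_one (by rw [← hi, pow_zero])
      · exact h1 (d.s.inj (by rw [← pow_one (d.s.φ k)]; exact hi))
      · exact h2 (d.s.inj (by rw [← d.s.mul, ← pow_two]; exact hi))
      · exact h3 (d.s.inj (by rw [← d.s.mul, ← d.s.mul, ← pow_two, ← pow_succ]; exact hi))
    · have e : d.z * (d.z * x) = x := by rw [← mul_assoc, d.z_sq, one_mul]
      refine ⟨by simpa only [e, Set.mem_setOf_eq] using hx, ?_⟩
      rintro ⟨j, hj, hjx⟩
      simp only [e] at hjx
      subst hjx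
      have hj1 : j ≠ 1 := by rintro rfl; simp at hj
      set w := d.pt 1 * (d.z * d.pt j) with hw
      have hwE : w ∈ d.subE := mul_mem (d.pt_mem 1) (mul_mem d.z_mem_E (d.pt_mem j))
      rw [← Nat.mod_add_div i 2, pow_add, pow_mul, pow_two, d.sq_E hwE, one_pow, mul_one] at hi
      rcases Nat.mod_two_eq_zero_or_one i with e' | e' <;> rw [e'] at hi
      · exact d.z_ne_one (by rw [← hi, pow_zero])
      · rw [pow_one, hw, ← mul_assoc, pt_comm_z, mul_assoc] at hi
        have h1 := mul_left_cancel (hi.trans (mul_one d.z).symm)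
        exact hj1 (d.pt_inj (mul_left_cancel (h1.trans (pt_sq 1).symm)))
  have h36 : {x : G | d.InDz x}.ncard = 36 := by rw [← Nat.card_coe_set_eq]; exact card_Dz hc
  have h3 : (d.pt '' ({2, 3, 4} : Set (Fin 5))).ncard = 3 := by
    rw [Set.ncard_image_of_injective _ d.pt_inj,
      show ({2, 3, 4} : Set (Fin 5)) = (({2, 3, 4} : Finset (Fin 5)) : Set (Fin 5)) by simp, Set.ncard_coe_finset]
    decide
  have h := Set.ncard_le_ncard hsub (Set.toFinite _)
  rw [Set.ncard_image_of_injective _ (mul_right_injective d.z), Set.ncard_sdiff (by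
    rintro _ ⟨j, hj, rfl⟩
    exact pt_inDz (by rintro rfl; simp at hj)) (Set.toFinite _), h36, h3] at h
  omega

theorem pairs_z (hc : d.Centr) : nPairs d.z d.q d.z ≤ 36 * 33 := by
  classical
  have : Fintype {x : G // d.InDz x} := Fintype.ofFinite _
  let f : {p : G × G // IsConj d.z p.1 ∧ IsConj d.q p.2 ∧ Root d.z p.1 p.2} →
      (Σ x : {x : G // d.InDz x}, {y : G // IsConj d.q y ∧ Root d.z x.1 y}) := fun p =>
    ⟨⟨p.1.1, p.2.1, fun e => by
      obtain ⟨i, hi⟩ := p.2.2.2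
      rw [e] at hi
      have hyz : p.1.2 * d.z = d.z * p.1.2 := (PairCount.root_comm (ord_D p.2.1) (ord_U p.2.2.1) d.orderOf_z p.2.2.2).2
      have hw : (d.z * p.1.2) ^ 2 = 1 := by
        rw [pow_two, mul_assoc, ← mul_assoc p.1.2, hyz, mul_assoc d.z p.1.2, PairCount.inv_of_ord (ord_U p.2.2.1),
          mul_one, d.z_sq]
      rw [← Nat.mod_add_div i 2, pow_add, pow_mul, hw, one_pow, mul_one] at hi
      rcases Nat.mod_two_eq_zero_or_one i with e' | e' <;> rw [e'] at hi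
      · exact d.z_ne_one (by rw [← hi, pow_zero])
      · rw [pow_one] at hi
        have h1 := mul_left_cancel (hi.trans (mul_one d.z).symm)
        have := ord_U p.2.2.1
        rw [h1, orderOf_one] at this
        norm_num at this,
      (PairCount.root_comm (ord_D p.2.1) (ord_U p.2.2.1) d.orderOf_z p.2.2.2).1⟩, ⟨p.1.2, p.2.2.1, p.2.2.2⟩⟩
  have hf : Function.Injective f := fun p p' h => Subtype.ext (Prod.ext
    (congrArg (fun s => s.1.1) h :) (congrArg (fun s => (s.2 : G)) h :))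
  refine (Nat.card_le_card_of_injective f hf).trans ?_
  rw [Nat.card_sigma]
  refine (Finset.sum_le_card_nsmul _ _ 33 fun x _ => ?_).trans ?_
  · obtain ⟨g, hg, hgx⟩ := Dz_iff.1 x.2
    refine le_trans (le_of_eq (Nat.card_congr ((MulAut.conj g⁻¹).toEquiv.subtypeEquiv fun y => ?_))) (fibre_z hc)
    show IsConj d.q y ∧ Root d.z x.1 y ↔ IsConj d.q (g⁻¹ * y * (g⁻¹)⁻¹) ∧ Root d.z (d.pt 1) (g⁻¹ * y * (g⁻¹)⁻¹)
    have hgz : g * d.z * g⁻¹ = d.z := by rw [hg, mul_inv_cancel_right]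
    constructor
    · rintro ⟨hy, hr⟩
      refine ⟨hy.trans (isConj_iff.2 ⟨g⁻¹, rfl⟩), ?_⟩
      have := hr.cj g⁻¹
      rwa [← hgx, show g⁻¹ * (g * d.pt 1 * g⁻¹) * (g⁻¹)⁻¹ = d.pt 1 by group,
        show g⁻¹ * d.z * (g⁻¹)⁻¹ = d.z by nth_rw 1 [← hgz]; group] at this
    · rintro ⟨hy, hr⟩
      refine ⟨hy.trans (isConj_iff.2 ⟨g, by group⟩), ?_⟩
      have := hr.cj g
      rwa [hgz, hgx, show g * (g⁻¹ * y * (g⁻¹)⁻¹) * g⁻¹ = y by group] at this
  · rw [Finset.card_univ, ← Nat.card_eq_fintype_card, card_Dz hc, smul_eq_mul]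

/-- An involution of the normaliser fixing all points lies in the elementary subgroup. -/
theorem mem_E_of_act_one {y : G} (hy : y ∈ normalizer (d.subE : Set G)) (h2 : orderOf y = 2)
    (h1 : d.act ⟨y, hy⟩ = 1) : y ∈ d.subE := by
  haveI : Fact (Nat.Prime 2) := ⟨Nat.prime_two⟩
  obtain ⟨n, hn, P, hP, -, hSP, hxP⟩ := align (normalizer (d.subE : Set G)) (zpowers y) (d.S : Subgroup G)
    (IsPGroup.of_card (n := 1) (by rw [Nat.card_zpowers, h2, pow_one])) (zpowers_le.2 hy)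
    d.S.isPGroup' d.S_le_normalizer_E
  rw [d.S.3 hP hSP] at hxP
  obtain ⟨k, hk⟩ := d.s.surj _ (hxP (mem_cI (mem_zpowers y)))
  have hact : d.act (d.sN k) = 1 := by
    rw [show d.sN k = ⟨n, hn⟩ * ⟨y, hy⟩ * (⟨n, hn⟩)⁻¹ from Subtype.ext hk, map_mul, map_mul, h1, mul_one,
      map_inv, mul_inv_cancel]
  rw [d.act_sN_eq, ← vP_facts.1] at hact
  have hW : inW k = true := by
    have := congrArg Fin.val (vP_facts.2.1 hact)
    simpa [inW, res4] using this
  have hkI : isInv k = true := by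
    rw [← d.s.orderOf_two, hk, show n * y * n⁻¹ = MulAut.conj n y from rfl, MulEquiv.orderOf_eq, h2]
  simp only [isInv, Bool.and_eq_true, beq_iff_eq] at hkI
  have hE : n * y * n⁻¹ ∈ d.subE := hk ▸ d.mem_E.2 ((inW_sq k hW).1 hkI.2)
  exact (mem_normalizer_iff.1 hn y).2 hE

/-- Involutions of the second class commuting with `q` that swap its two points and fix a given one. -/
def Yset (d : Setting G) (i : Fin 5) : Set G :=
  {y | IsConj d.q y ∧ y * d.q = d.q * y ∧ y * d.pt 1 * y⁻¹ = d.pt 2 ∧ y * d.pt i * y⁻¹ = d.pt i}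

theorem card_Y0 (hc : d.Centr) : (d.Yset 0).ncard ≤ 16 := by
  have hsub : d.Yset 0 ⊆ d.s.φ '' {n | (inQ n && isInv n && commS n 576 && Nat.beq ((n : ℕ) % 4) 1) = true} := by
    rintro y ⟨hy, hyq, h12, h0⟩
    rw [d.pt_zero] at h0
    have hyz : y * d.z = d.z * y := mul_inv_eq_iff_eq_mul.1 h0
    rcases cent_z_cases hc (ord_U hy) (U_not_D hy) hyz with h | ⟨x, hx, rfl⟩
    · obtain ⟨n, hn, rfl⟩ := (q_orbit_iff hc).1 h
      refine ⟨n, ?_, rfl⟩
      simp only [Bool.and_eq_true] at hn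
      simp only [Set.mem_setOf_eq, Bool.and_eq_true]
      rw [q_eq] at hyq
      refine ⟨⟨hn.1, d.s.commute.1 hyq⟩, ?_⟩
      have ha : d.act (d.sN n) 1 = 2 := d.act_eq h12
      rw [d.act_sN] at ha
      have hr := congrArg Fin.val (vP_swap (res4 n) ha)
      rw [show (n : ℕ) % 4 = 1 from hr]
      rfl
    · exfalso
      obtain ⟨j, rfl⟩ := D_cent_pair hc hx.1 (by decide : (1 : Fin 5) ≠ 2) (by
        show x * d.q = d.q * x
        apply mul_left_cancel (a := d.z)
        rw [← mul_assoc, hyq, ← mul_assoc, q_comm_z, mul_assoc])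
      rw [d.comm_E_E (mul_mem d.z_mem_E (d.pt_mem j)) (d.pt_mem 1), mul_inv_cancel_right] at h12
      exact absurd (d.pt_inj h12) (by decide)
  refine (Set.ncard_le_ncard hsub (Set.toFinite _)).trans ?_
  rw [Set.ncard_image_of_injective _ d.s.inj, ← swap_count,
    ← (card_filter_codes fun n => inQ n && isInv n && commS n 576 && Nat.beq ((n : ℕ) % 4) 1),
    ← Set.ncard_coe_finset]
  simp

theorem card_Y (hc : d.Centr) {i : Fin 5} (hi : i = 3 ∨ i = 4) : (d.Yset i).ncard ≤ 16 := by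
  obtain ⟨p, hp, h1, h2, h0⟩ := three_pts_even 1 2 0 i (by rcases hi with rfl | rfl <;> decide)
  obtain ⟨m, -, hm⟩ := d.exists_map hp
  have hmq : m * d.q * m⁻¹ = d.q := by
    rw [Setting.q, show m * (d.pt 1 * d.pt 2) * m⁻¹ = (m * d.pt 1 * m⁻¹) * (m * d.pt 2 * m⁻¹) by group,
      hm, hm, h1, h2]
  have e1 : m * d.pt 1 * m⁻¹ = d.pt 1 := by rw [hm, h1]
  have e2 : m * d.pt 2 * m⁻¹ = d.pt 2 := by rw [hm, h2]
  have e0 : m * d.pt 0 * m⁻¹ = d.pt i := by rw [hm, h0]
  have hsub : d.Yset i ⊆ (fun y => m * y * m⁻¹) '' d.Yset 0 := by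
    rintro y ⟨hy, hyq, h12, hfix⟩
    refine ⟨m⁻¹ * y * m, ⟨hy.trans (isConj_iff.2 ⟨m⁻¹, by group⟩), ?_, ?_, ?_⟩, by group⟩
    · calc m⁻¹ * y * m * d.q = m⁻¹ * (y * (m * d.q * m⁻¹)) * m := by group
        _ = m⁻¹ * ((m * d.q * m⁻¹) * y) * m := by rw [hmq, hyq]
        _ = _ := by group
    · calc m⁻¹ * y * m * d.pt 1 * (m⁻¹ * y * m)⁻¹ = m⁻¹ * (y * (m * d.pt 1 * m⁻¹) * y⁻¹) * m := by group
        _ = m⁻¹ * (m * d.pt 2 * m⁻¹) * m := by rw [e1, h12, e2]
        _ = _ := by group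
    · calc m⁻¹ * y * m * d.pt 0 * (m⁻¹ * y * m)⁻¹ = m⁻¹ * (y * (m * d.pt 0 * m⁻¹) * y⁻¹) * m := by group
        _ = m⁻¹ * (m * d.pt 0 * m⁻¹) * m := by rw [e0, hfix]
        _ = _ := by group
  exact ((Set.ncard_le_ncard hsub (Set.toFinite _)).trans (Set.ncard_image_le (Set.toFinite _))).trans (card_Y0 hc)

theorem pairs_q (hc : d.Centr) : nPairs d.z d.q d.q ≤ 99 := by
  have hsub : {p : G × G | IsConj d.z p.1 ∧ IsConj d.q p.2 ∧ Root d.q p.1 p.2} ⊆
      (fun i => (d.pt i, d.pt i * d.q)) '' {0, 3, 4} ∪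
        (d.pt '' {1, 2}) ×ˢ (d.Yset 0 ∪ d.Yset 3 ∪ d.Yset 4) := by
    rintro ⟨x, y⟩ ⟨hx, hy, hr⟩
    obtain ⟨hxq, hyq⟩ := PairCount.root_comm (ord_D hx) (ord_U hy) q_ord hr
    obtain ⟨i, rfl⟩ := D_cent_pair hc hx (by decide : (1 : Fin 5) ≠ 2) hxq
    obtain ⟨k, hk⟩ := hr
    have hyy := PairCount.inv_of_ord (ord_U hy)
    have hxx := pt_sq (d := d) i
    by_cases hxy : d.pt i * y = y * d.pt i
    · left
      have hw : (d.pt i * y) ^ 2 = 1 := by
        rw [pow_two, mul_assoc, ← mul_assoc y, ← hxy, mul_assoc (d.pt i) y, hyy, mul_one, hxx]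
      rw [← Nat.mod_add_div k 2, pow_add, pow_mul, hw, one_pow, mul_one] at hk
      rcases Nat.mod_two_eq_zero_or_one k with e | e <;> rw [e] at hk
      · exfalso
        have := q_ord (d := d)
        rw [← hk, pow_zero, orderOf_one] at this
        norm_num at this
      · rw [pow_one] at hk
        have hye : y = d.pt i * d.q := by rw [← hk, ← mul_assoc, hxx, one_mul]
        refine ⟨i, ?_, by rw [hye]⟩
        have hne : ∀ j, y ≠ d.pt j := fun j e => U_not_D hy (e ▸ d.isConj_pts j)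
        rcases (by decide : ∀ i : Fin 5, i = 0 ∨ i = 3 ∨ i = 4 ∨ i = 1 ∨ i = 2) i with rfl | rfl | rfl | rfl | rfl
        · simp
        · simp
        · simp
        · exact absurd (by rw [hye, Setting.q, ← mul_assoc, pt_sq, one_mul]) (hne 2)
        · exact absurd (by rw [hye, Setting.q, pt_comm 1 2, ← mul_assoc, pt_sq, one_mul]) (hne 1)
    · right
      have hyN := mem_N_of_comm_pair hc (by decide : (1 : Fin 5) ≠ 2) hyq
      have hact : d.act ⟨y, hyN⟩ ≠ 1 := fun e =>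
        hxy (d.comm_E_E (d.pt_mem i) (mem_E_of_act_one hyN (ord_U hy) e))
      have hsq : d.act ⟨y, hyN⟩ * d.act ⟨y, hyN⟩ = 1 := by
        rw [← map_mul, show (⟨y, hyN⟩ * ⟨y, hyN⟩ : ↥(normalizer (d.subE : Set G))) = 1 from Subtype.ext hyy,
          map_one]
      obtain ⟨s1, s2, hfix⟩ := swap_perm _ ⟨d.sign_act _, hsq, hact, (comm_pair_iff _ (by decide)).1 hyq⟩
      have h12 : y * d.pt 1 * y⁻¹ = d.pt 2 := by rw [← s1]; exact d.act_spec ⟨y, hyN⟩ 1
      refine Set.mem_prod.2 ⟨?_, ?_⟩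
      · have hyi : y⁻¹ = y := inv_eq_of_mul_eq_one_right hyy
        have himg : y * d.pt i * y⁻¹ = d.pt (d.act ⟨y, hyN⟩ i) := d.act_spec ⟨y, hyN⟩ i
        set j := d.act ⟨y, hyN⟩ i
        have hji : j ≠ i := fun e => hxy (mul_inv_eq_iff_eq_mul.1 (himg.trans (by rw [e]))).symm
        have hw2 : (d.pt i * y) ^ 2 = d.pt i * d.pt j := by
          rw [pow_two, ← himg, hyi]; group
        have hk4 : (d.pt i * y) ^ 4 = 1 := by
          rw [show 4 = 2 * 2 from rfl, pow_mul, hw2, pow_two, d.sq_E (mul_mem (d.pt_mem i) (d.pt_mem j))]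
        rw [← Nat.mod_add_div k 4, pow_add, pow_mul, hk4, one_pow, mul_one] at hk
        have : k % 4 = 0 ∨ k % 4 = 1 ∨ k % 4 = 2 ∨ k % 4 = 3 := by omega
        have hqi : d.q * d.pt i = d.pt i * d.q := hxq.symm
        rcases this with e | e | e | e <;> rw [e] at hk
        · exfalso
          have := q_ord (d := d)
          rw [← hk, pow_zero, orderOf_one] at this
          norm_num at this
        · exfalso
          rw [pow_one] at hk
          exact hxy (by
            have hye : y = d.pt i * d.q := by rw [← hk, ← mul_assoc, hxx, one_mul]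
            rw [hye, ← mul_assoc, hxx, one_mul, mul_assoc, hqi, ← mul_assoc, hxx, one_mul])
        · rw [hw2] at hk
          rcases pt_pair_uniq hji.symm (by decide : (1 : Fin 5) ≠ 2) hk with ⟨a, -⟩ | ⟨a, -⟩
          · exact ⟨1, by simp, by rw [a]⟩
          · exact ⟨2, by simp, by rw [a]⟩
        · exfalso
          rw [pow_succ, hw2] at hk
          refine hxy ?_
          have h3 : d.pt i * d.pt j * (d.pt i * y) = d.pt j * y := by
            rw [pt_comm i j, mul_assoc, ← mul_assoc (d.pt i) (d.pt i), hxx, one_mul]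
          rw [h3] at hk
          have hye : y = d.pt j * d.q := by rw [← hk, ← mul_assoc, pt_sq, one_mul]
          exact d.comm_E_E (d.pt_mem i) (hye ▸ mul_mem (d.pt_mem j) (mul_mem (d.pt_mem 1) (d.pt_mem 2)))
      · have key : ∀ l, d.act ⟨y, hyN⟩ l = l → y ∈ d.Yset l := fun l hl =>
          ⟨hy, hyq, h12, (d.act_spec ⟨y, hyN⟩ l).trans (by rw [hl])⟩
        rcases hfix with e | e | e
        · exact Or.inl (Or.inl (key _ e))
        · exact Or.inl (Or.inr (key _ e))
        · exact Or.inr (key _ e)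
  have h := Set.ncard_le_ncard hsub (Set.toFinite _)
  have e : nPairs d.z d.q d.q = {p : G × G | IsConj d.z p.1 ∧ IsConj d.q p.2 ∧ Root d.q p.1 p.2}.ncard :=
    (Nat.card_coe_set_eq _)
  rw [e]
  refine h.trans ((Set.ncard_union_le _ _).trans ?_)
  rw [Set.ncard_prod]
  have h3 : ((fun i => (d.pt i, d.pt i * d.q)) '' ({0, 3, 4} : Set (Fin 5))).ncard ≤ 3 :=
    (Set.ncard_image_le (Set.toFinite _)).trans (by
      rw [show ({0, 3, 4} : Set (Fin 5)) = (({0, 3, 4} : Finset (Fin 5)) : Set (Fin 5)) by simp,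
        Set.ncard_coe_finset]
      exact le_of_eq (by decide))
  have h2 : (d.pt '' ({1, 2} : Set (Fin 5))).ncard ≤ 2 :=
    (Set.ncard_image_le (Set.toFinite _)).trans (by
      rw [show ({1, 2} : Set (Fin 5)) = (({1, 2} : Finset (Fin 5)) : Set (Fin 5)) by simp, Set.ncard_coe_finset]
      exact le_of_eq (by decide))
  have hY := (Set.ncard_union_le (d.Yset 0 ∪ d.Yset 3) (d.Yset 4)).trans (Nat.add_le_add
    ((Set.ncard_union_le _ _).trans (Nat.add_le_add (card_Y0 hc) (card_Y hc (Or.inl rfl))))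
    (card_Y hc (Or.inr rfl)))
  calc _ ≤ 3 + 2 * (16 + 16 + 16) := Nat.add_le_add h3 (Nat.mul_le_mul h2 hY)
    _ = 99 := by norm_num

/-- There are at most 165 conjugates of the centre. -/
theorem card_D_le (hc : d.Centr) : Nat.card {x : G // IsConj d.z x} ≤ 165 := by
  have hall : ∀ w : G, orderOf w = 2 → IsConj d.z w ∨ IsConj d.q w := fun w hw =>
    (d.two_classes hw).imp_right fun h => by
      rcases d.two_classes (q_ord (d := d)) with h' | h'
      · exact absurd h' q_not_z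
      · exact h'.symm.trans h
  have h := PairCount.order_formula d.orderOf_z (q_ord (d := d)) q_not_z hall
  rw [show Nat.card ↥(PairCount.CC d.q) = 6 * d.kerCard from card_q hc,
    show Nat.card ↥(PairCount.CC d.z) = 108 * d.kerCard from card_z hc] at h
  have hcl := PairCount.card_class d.z
  rw [show Nat.card ↥(PairCount.CC d.z) = 108 * d.kerCard from card_z hc] at hcl
  have h1 := pairs_z hc
  have h2 := pairs_q hc
  have hk := kerCard_pos (d := d)
  by_contra hgt
  have h166 : 166 * (108 * d.kerCard) ≤ Nat.card G := hcl ▸ Nat.mul_le_mul_right _ (by omega)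
  have a1 : nPairs d.z d.q d.z * (6 * d.kerCard) ≤ 36 * 33 * (6 * d.kerCard) := Nat.mul_le_mul_right _ h1
  have a2 : nPairs d.z d.q d.q * (108 * d.kerCard) ≤ 99 * (108 * d.kerCard) := Nat.mul_le_mul_right _ h2
  omega

end Setting

end Cfsg.Agent.Spor.U52Type
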