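import Cfsg.Agent.Lib.Spor.U52Type.CountBase
import Cfsg.Agent.Lib.Spor.U52Type.CountFacts

/-!
# The orders of the centralisers of the two involutions
-/

set_option autoImplicit false
set_option linter.unusedSectionVars false
set_option maxRecDepth 100000
set_option maxHeartbeats 1000000

namespace Cfsg.Agent.Spor.U52Type

open Subgroup Equiv
open Cfsg.Agent.Spor.JTwoType (cI mem_cI card_cI)

universe u

theorem perm_counts :
    (Finset.univ.filter fun p : Perm (Fin 5) => Perm.sign p = 1 ∧ (p 0 = 0 ∧ p 1 = 1)).card = 3 ∧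
    (Finset.univ.filter fun p : Perm (Fin 5) =>
      Perm.sign p = 1 ∧ (p 0 = 0 ∧ ((p 1 = 1 ∧ p 2 = 2) ∨ (p 1 = 2 ∧ p 2 = 1)))).card = 2 ∧
    (Finset.univ.filter fun p : Perm (Fin 5) =>
      Perm.sign p = 1 ∧ ((p 1 = 1 ∧ p 2 = 2) ∨ (p 1 = 2 ∧ p 2 = 1))).card = 6 := by
  decide +kernel

theorem pair_to_12 : ∀ i j : Fin 5, i ≠ 0 → j ≠ 0 → i ≠ j →
    ∃ p : Perm (Fin 5), Perm.sign p = 1 ∧ p 0 = 0 ∧ ((p 1 = i ∧ p 2 = j) ∨ (p 1 = j ∧ p 2 = i)) := by
  decide +kernel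

variable {G : Type u} [Group G] [Finite G]

namespace Setting

/-- The representative of the second class. -/
def q (d : Setting G) : G := d.pt 1 * d.pt 2

/-- The conjugates of the centre commuting with it, other than itself. -/
def InDz (d : Setting G) (x : G) : Prop := IsConj d.z x ∧ x ≠ d.z ∧ x * d.z = d.z * x

variable {d : Setting G}

theorem q_eq : d.q = d.s.φ 576 := by
  unfold Setting.q Setting.pt
  rw [d.s.mul, q_facts.1]

theorem q_ord : orderOf d.q = 2 := pt_pair_ord (by decide)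

theorem q_not_z : ¬ IsConj d.z d.q := pt_pair_not_z (by decide)

theorem q_comm_z : d.q * d.z = d.z * d.q := by
  rw [q_eq]; exact d.comm_z (d.s.mem 576)

theorem pt_comm_z (i : Fin 5) : d.pt i * d.z = d.z * d.pt i := d.comm_z (d.s.mem _)

theorem card_za (hc : d.Centr) :
    Nat.card ↥(centralizer ({d.z} : Set G) ⊓ centralizer ({d.pt 1} : Set G)) = 3 * d.kerCard := by
  classical
  rw [card_stab (d := d) (centralizer ({d.z} : Set G) ⊓ centralizer ({d.pt 1} : Set G)) (fun g hg => hc.cent_za _ g (pt_Pt 1) (fun e => by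
      exact absurd (d.pt_inj (e.trans d.pt_zero.symm)) (by decide))
    (mem_centralizer_singleton_iff.1 hg.1) (mem_centralizer_singleton_iff.1 hg.2))
    (fun p => p 0 = 0 ∧ p 1 = 1) fun g => by
      rw [mem_inf, mem_centralizer_singleton_iff, mem_centralizer_singleton_iff, ← comm_pt_iff, ← comm_pt_iff]
      exact Iff.rfl]
  rw [perm_counts.1]

theorem card_zq (hc : d.Centr) :
    Nat.card ↥(centralizer ({d.z} : Set G) ⊓ centralizer ({d.q} : Set G)) = 2 * d.kerCard := by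
  classical
  rw [card_stab (d := d) (centralizer ({d.z} : Set G) ⊓ centralizer ({d.q} : Set G))
      (fun g hg => mem_N_of_comm_pair hc (by decide : (1 : Fin 5) ≠ 2) (mem_centralizer_singleton_iff.1 hg.2))
    (fun p => p 0 = 0 ∧ ((p 1 = 1 ∧ p 2 = 2) ∨ (p 1 = 2 ∧ p 2 = 1))) fun g => by
      rw [mem_inf, mem_centralizer_singleton_iff, mem_centralizer_singleton_iff, ← comm_pt_iff,
        ← comm_pair_iff g (by decide : (1 : Fin 5) ≠ 2)]
      exact Iff.rfl]
  rw [perm_counts.2.1]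

theorem card_q (hc : d.Centr) : Nat.card ↥(centralizer ({d.q} : Set G)) = 6 * d.kerCard := by
  classical
  rw [card_stab (d := d) (centralizer ({d.q} : Set G))
      (fun g hg => mem_N_of_comm_pair hc (by decide : (1 : Fin 5) ≠ 2) (mem_centralizer_singleton_iff.1 hg))
    (fun p => (p 1 = 1 ∧ p 2 = 2) ∨ (p 1 = 2 ∧ p 2 = 1)) fun g => by
      rw [mem_centralizer_singleton_iff, ← comm_pair_iff g (by decide : (1 : Fin 5) ≠ 2)]
      exact Iff.rfl]
  rw [perm_counts.2.2]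

theorem Dz_iff {x : G} : d.InDz x ↔ ∃ g : G, g * d.z = d.z * g ∧ g * d.pt 1 * g⁻¹ = x := by
  constructor
  · rintro ⟨hx, hne, hc⟩
    obtain ⟨g, h1, h2⟩ := to_pts (IsConj.refl d.z) hx (Ne.symm hne) hc.symm (i := 0) (j := 1) (by decide)
    rw [d.pt_zero] at h1
    refine ⟨g⁻¹, ?_, by rw [← h2]; group⟩
    exact (Commute.inv_left (mul_inv_eq_iff_eq_mul.1 h1 : Commute g d.z)).eq
  · rintro ⟨g, hg, rfl⟩
    have hgz : g * d.z * g⁻¹ = d.z := by rw [hg, mul_inv_cancel_right]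
    refine ⟨isConj_cj g (d.isConj_pts 1), fun e => ?_, ?_⟩
    · have := mul_left_cancel (mul_right_cancel (e.trans hgz.symm))
      exact absurd (d.pt_inj (this.trans d.pt_zero.symm)) (by decide)
    · calc g * d.pt 1 * g⁻¹ * d.z = g * d.pt 1 * g⁻¹ * (g * d.z * g⁻¹) := by rw [hgz]
        _ = g * (d.pt 1 * d.z) * g⁻¹ := by group
        _ = g * (d.z * d.pt 1) * g⁻¹ := by rw [pt_comm_z]
        _ = g * d.z * g⁻¹ * (g * d.pt 1 * g⁻¹) := by group
        _ = _ := by rw [hgz]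

/-- The second class in the centraliser: conjugates of `q` there, or products with the centre. -/
theorem cent_z_cases (hc : d.Centr) {u : G} (hu : orderOf u = 2) (hnz : ¬ IsConj d.z u)
    (huz : u * d.z = d.z * u) :
    (∃ g : G, g * d.z = d.z * g ∧ g * d.q * g⁻¹ = u) ∨ ∃ x, d.InDz x ∧ u = d.z * x := by
  have hqu : IsConj d.q u := by
    rcases d.two_classes hu with h | h
    · exact absurd h hnz
    · rcases d.two_classes (q_ord (d := d)) with h' | h'
      · exact absurd h' q_not_z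
      · exact h'.symm.trans h
  obtain ⟨g, hg⟩ := isConj_iff.1 hqu
  obtain ⟨i, hi⟩ := D_cent_pair hc (x := g⁻¹ * d.z * g)
    (by simpa using isConj_cj g⁻¹ (IsConj.refl d.z)) (by decide : (1 : Fin 5) ≠ 2) (by
      show g⁻¹ * d.z * g * d.q = d.q * (g⁻¹ * d.z * g)
      rw [← hg] at huz
      calc g⁻¹ * d.z * g * d.q = g⁻¹ * (d.z * (g * d.q * g⁻¹)) * g := by group
        _ = g⁻¹ * (g * d.q * g⁻¹ * d.z) * g := by rw [huz]
        _ = _ := by group)
  obtain ⟨j, hji⟩ : ∃ j : Fin 5, j ≠ i := exists_ne i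
  obtain ⟨p, hp, hp0, -⟩ := two_pts_even i j 0 1 hji.symm (by decide)
  obtain ⟨n, -, hn⟩ := d.exists_map hp
  set h := g * n⁻¹ with hh
  have hhz : h * d.z = d.z * h := by
    have e0 : n * (g⁻¹ * d.z * g) * n⁻¹ = d.z := by rw [hi, hn i, hp0, d.pt_zero]
    have e : h * d.z * h⁻¹ = d.z := by
      rw [hh]
      conv_lhs => rw [← e0]
      group
    exact mul_inv_eq_iff_eq_mul.1 e
  have hu' : h * (d.pt (p 1) * d.pt (p 2)) * h⁻¹ = u := by
    rw [← hg, ← hn 1, ← hn 2, hh, Setting.q]; group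
  have hne12 : p 1 ≠ p 2 := p.injective.ne (by decide)
  by_cases h01 : p 1 = 0
  · refine Or.inr ⟨h * d.pt (p 2) * h⁻¹, ?_, ?_⟩
    · obtain ⟨r, hr, hr0, hr1⟩ := two_pts_even 0 1 0 (p 2) (by decide) (fun e => hne12 (h01.trans e))
      obtain ⟨m, -, hm⟩ := d.exists_map hr
      refine Dz_iff.2 ⟨h * m, ?_, by rw [← hr1, ← hm 1]; group⟩
      have hmz : m * d.z = d.z * m := mul_inv_eq_iff_eq_mul.1 (by rw [← d.pt_zero, hm 0, hr0])
      rw [mul_assoc, hmz, ← mul_assoc, hhz, mul_assoc]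
    · rw [← hu', h01, d.pt_zero]
      calc h * (d.z * d.pt (p 2)) * h⁻¹ = h * d.z * (d.pt (p 2) * h⁻¹) := by group
        _ = _ := by rw [hhz]; group
  by_cases h02 : p 2 = 0
  · refine Or.inr ⟨h * d.pt (p 1) * h⁻¹, ?_, ?_⟩
    · obtain ⟨r, hr, hr0, hr1⟩ := two_pts_even 0 1 0 (p 1) (by decide) (fun e => h01 e.symm)
      obtain ⟨m, -, hm⟩ := d.exists_map hr
      refine Dz_iff.2 ⟨h * m, ?_, by rw [← hr1, ← hm 1]; group⟩
      have hmz : m * d.z = d.z * m := mul_inv_eq_iff_eq_mul.1 (by rw [← d.pt_zero, hm 0, hr0])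
      rw [mul_assoc, hmz, ← mul_assoc, hhz, mul_assoc]
    · rw [← hu', h02, d.pt_zero, pt_comm_z]
      calc h * (d.z * d.pt (p 1)) * h⁻¹ = h * d.z * (d.pt (p 1) * h⁻¹) := by group
        _ = _ := by rw [hhz]; group
  · obtain ⟨r, hr, hr0, hr12⟩ := pair_to_12 (p 1) (p 2) h01 h02 hne12
    obtain ⟨m, -, hm⟩ := d.exists_map hr
    have hmz : m * d.z = d.z * m := mul_inv_eq_iff_eq_mul.1 (by rw [← d.pt_zero, hm 0, hr0])
    refine Or.inl ⟨h * m, by rw [mul_assoc, hmz, ← mul_assoc, hhz, mul_assoc], ?_⟩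
    have e : m * d.q * m⁻¹ = d.pt (p 1) * d.pt (p 2) := by
      rw [Setting.q, show m * (d.pt 1 * d.pt 2) * m⁻¹ = (m * d.pt 1 * m⁻¹) * (m * d.pt 2 * m⁻¹) by group, hm, hm]
      rcases hr12 with ⟨a, b⟩ | ⟨a, b⟩ <;> rw [a, b]
      rw [pt_comm]
    rw [← hu', ← e]; group

/-- The orbit of `q` under the centraliser of the centre consists of the involutions of the subgroup of order 128. -/
theorem q_orbit_iff (hc : d.Centr) {u : G} :
    (∃ g : G, g * d.z = d.z * g ∧ g * d.q * g⁻¹ = u) ↔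
      ∃ n : Fin 1024, (inQ n && isInv n && !eqC n 512) = true ∧ d.s.φ n = u := by
  constructor
  · rintro ⟨g, hg, rfl⟩
    have hgz : g * d.z * g⁻¹ = d.z := by rw [hg, mul_inv_cancel_right]
    obtain ⟨n, hn, hnu⟩ := hc.Q_normal g hg d.q (by rw [q_eq]; exact d.s.mem_sub.2 q_facts.2.1)
    refine ⟨n, ?_, hnu⟩
    simp only [Bool.and_eq_true, Bool.not_eq_true', ← Bool.not_eq_true, eqC_iff]
    refine ⟨⟨hn, d.s.orderOf_two.1 ?_⟩, ?_⟩
    · rw [hnu, show g * d.q * g⁻¹ = MulAut.conj g d.q from rfl, MulEquiv.orderOf_eq, q_ord]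
    · rintro rfl
      exact q_not_z ((isConj_iff.2 ⟨g, hnu.symm⟩ : IsConj d.q d.z).symm)
  · rintro ⟨n, hn, rfl⟩
    simp only [Bool.and_eq_true, Bool.not_eq_true', ← Bool.not_eq_true, eqC_iff] at hn
    obtain ⟨⟨hnQ, hni⟩, hn512⟩ := hn
    have hnz : ¬ IsConj d.z (d.s.φ n) := fun h => by
      have hP := d.isP_of_conj hni h
      have := of_allCodes Q_isP_ok n
      simp [hnQ, hni, hP, eqC_iff, hn512] at this
    rcases cent_z_cases hc (d.s.orderOf_two.2 hni) hnz (d.comm_z (d.s.mem n)) with h | ⟨x, hx, he⟩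
    · exact h
    · exfalso
      obtain ⟨g, hg, hgx⟩ := Dz_iff.1 hx
      obtain ⟨m, hm, hmu⟩ := hc.Q_normal g⁻¹ (Commute.inv_left (show Commute g d.z from hg)).eq _
        (d.s.mem_sub.2 hnQ : d.s.φ n ∈ d.subQ)
      have e : d.s.φ m = d.s.φ (mulS (pts 0) (pts 1)) := by
        rw [hmu, he, ← hgx, ← d.s.mul]
        show g⁻¹ * (d.z * (g * d.pt 1 * g⁻¹)) * (g⁻¹)⁻¹ = d.z * d.pt 1
        calc g⁻¹ * (d.z * (g * d.pt 1 * g⁻¹)) * (g⁻¹)⁻¹ = g⁻¹ * (d.z * g) * (d.pt 1) := by group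
          _ = g⁻¹ * (g * d.z) * d.pt 1 := by rw [hg]
          _ = _ := by group
      rw [d.s.inj e] at hm
      exact absurd ((pair_inQ 0 1 (by decide)).1 hm).1 (by simp)

theorem card_orbit_q (hc : d.Centr) :
    Nat.card {y : G // ∃ g : G, g * d.z = d.z * g ∧ g * d.q * g⁻¹ = y} = 54 := by
  rw [show {y : G // ∃ g : G, g * d.z = d.z * g ∧ g * d.q * g⁻¹ = y} =
    ↥{y : G | ∃ g : G, g * d.z = d.z * g ∧ g * d.q * g⁻¹ = y} from rfl, Nat.card_coe_set_eq,
    show {y : G | ∃ g : G, g * d.z = d.z * g ∧ g * d.q * g⁻¹ = y} =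
      d.s.φ '' {n | (inQ n && isInv n && !eqC n 512) = true} from Set.ext fun y => q_orbit_iff hc,
    Set.ncard_image_of_injective _ d.s.inj, ← uq_count]
  rw [← (card_filter_codes fun n => inQ n && isInv n && !eqC n 512), ← Set.ncard_coe_finset]
  simp

theorem card_z (hc : d.Centr) : Nat.card ↥(centralizer ({d.z} : Set G)) = 108 * d.kerCard := by
  rw [← orbit_card (x := d.q) q_comm_z, card_orbit_q hc, card_zq hc]
  ring

theorem kerCard_pos : 0 < d.kerCard := Nat.card_pos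

theorem card_Dz (hc : d.Centr) : Nat.card {x : G // d.InDz x} = 36 := by
  have h := orbit_card (z := d.z) (x := d.pt 1) (pt_comm_z 1)
  rw [card_za hc, card_z hc, ← Nat.card_congr (Equiv.subtypeEquivRight fun x => Dz_iff (d := d) (x := x))] at h
  have hk := kerCard_pos (d := d)
  have : Nat.card {x : G // d.InDz x} * (3 * d.kerCard) = 36 * (3 * d.kerCard) := by rw [h]; ring
  exact Nat.eq_of_mul_eq_mul_right (by omega) this

end Setting

end Cfsg.Agent.Spor.U52Type
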