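import Cfsg.Agent.Lib.Recog.PguThree.Ident
import Cfsg.Agent.S1614
import Cfsg.Agent.S1617
import Cfsg.Agent.S0280

/-!
# U5(2) from a class of involutions with three suborbits and a soluble centraliser
-/

set_option autoImplicit false
set_option linter.style.haveILetI false

open Cfsg Subgroup

namespace Cfsg.Agent.Spor.U52Type

universe u v

variable {G : Type u} [Group G] [Finite G]

/-- A simple group whose order is divisible by 1024 and in which the centraliser of an involution `z` is soluble and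
has two orbits on the other conjugates, one commuting with `z` and one not, is `U5(2)`. -/
theorem psu_of_suborbits [IsSimpleGroup G] {F : Type v} [Field F] [Fintype F] (hF : Fintype.card F = 4)
    (h1024 : 1024 ∣ Nat.card G) (z : G) (hz : orderOf z = 2)
    (hC : Group.IsSolvable ↥(centralizer ({z} : Set G)))
    (hcomm : ∃ x : G, IsConj z x ∧ x ≠ z ∧ x * z = z * x)
    (hapart : ∃ x : G, IsConj z x ∧ x * z ≠ z * x)
    (htc : ∀ x y : G, IsConj z x → IsConj z y → x ≠ z → y ≠ z → x * z = z * x → y * z = z * y →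
      ∃ g : G, g * z = z * g ∧ g * x * g⁻¹ = y)
    (hta : ∀ x y : G, IsConj z x → IsConj z y → x * z ≠ z * x → y * z ≠ z * y →
      ∃ g : G, g * z = z * g ∧ g * x * g⁻¹ = y) :
    Nonempty (G ≃* PSU 5 F 2) := by
  classical
  set D : Set G := conjugatesOf z
  have hD : ∀ x, x ∈ D ↔ IsConj z x := fun x => Iff.rfl
  have hord : ∀ x ∈ D, orderOf x = 2 := fun x hx => by
    obtain ⟨g, rfl⟩ := isConj_iff.1 hx
    rw [← hz]; exact (MulAut.conj g).orderOf_eq z
  have hnab : ¬ IsMulCommutative G := fun h => by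
    obtain ⟨x, -, hx⟩ := hapart
    exact hx (h.is_comm.comm x z)
  have hsol : ∀ N : Subgroup G, N.Normal → Group.IsSolvable ↥N → N = ⊥ := fun N hN h => by
    refine hN.eq_bot_or_eq_top.resolve_right fun e => hnab ?_
    subst e
    haveI : Group.IsSolvable G := Group.isSolvable_of_surjective (f := (Subgroup.topEquiv (G := G)).toMonoidHom)
      Subgroup.topEquiv.surjective
    exact ⟨⟨fun x y => IsSimpleGroup.comm_iff_isSolvable.mpr inferInstance x y⟩⟩
  have hgen : closure D = ⊤ := by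
    have hc : normalClosure ({z} : Set G) = closure D := by
      simp [normalClosure, Group.conjugatesOfSet, D]
    refine (hc ▸ (normalClosure_normal (s := ({z} : Set G)))).eq_bot_or_eq_top.resolve_left fun e => ?_
    · have : z = 1 := mem_bot.1 (e ▸ subset_closure ((hD z).2 (IsConj.refl z)))
      rw [this, orderOf_one] at hz
      norm_num at hz
  have hperf : ⁅commutator G, commutator G⁆ = commutator G := by
    have h : commutator G = ⊤ := (inferInstance : (commutator G).Normal).eq_bot_or_eq_top.resolve_left fun e =>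
      hnab ⟨⟨fun x y => commutatorElement_eq_one_iff_mul_comm.1
        (mem_bot.1 (e ▸ commutator_mem_commutator (mem_top x) (mem_top y)))⟩⟩
    rw [h, ← _root_.commutator_def, h]
  have hrank : ∀ x ∈ D, ∃ y ∈ D, ∃ w ∈ D,
      {v : G | ∃ g : G, Commute g x ∧ g * y * g⁻¹ = v} ≠ {v : G | ∃ g : G, Commute g x ∧ g * x * g⁻¹ = v} ∧
      {v : G | ∃ g : G, Commute g x ∧ g * w * g⁻¹ = v} ≠ {v : G | ∃ g : G, Commute g x ∧ g * x * g⁻¹ = v} ∧
      {v : G | ∃ g : G, Commute g x ∧ g * y * g⁻¹ = v} ≠ {v : G | ∃ g : G, Commute g x ∧ g * w * g⁻¹ = v} ∧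
      D = {v : G | ∃ g : G, Commute g x ∧ g * x * g⁻¹ = v} ∪ {v : G | ∃ g : G, Commute g x ∧ g * y * g⁻¹ = v} ∪
        {v : G | ∃ g : G, Commute g x ∧ g * w * g⁻¹ = v} := by
    intro x hx
    obtain ⟨k, rfl⟩ := isConj_iff.1 ((hD x).1 hx)
    obtain ⟨y0, hy0, hy1, hy2⟩ := hcomm
    obtain ⟨w0, hw0, hw2⟩ := hapart
    have hmv : ∀ t, IsConj z t → IsConj z (k * t * k⁻¹) := fun t ht => ht.trans (isConj_iff.2 ⟨k, rfl⟩)
    have horb : ∀ t v : G, v ∈ {v : G | ∃ g : G, Commute g (k * z * k⁻¹) ∧ g * (k * t * k⁻¹) * g⁻¹ = v} ↔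
        ∃ g : G, g * z = z * g ∧ k * (g * t * g⁻¹) * k⁻¹ = v := by
      intro t v
      constructor
      · rintro ⟨g, hg, rfl⟩
        refine ⟨k⁻¹ * g * k, ?_, by group⟩
        calc k⁻¹ * g * k * z = k⁻¹ * (g * (k * z * k⁻¹)) * k := by group
          _ = k⁻¹ * ((k * z * k⁻¹) * g) * k := by rw [hg.eq]
          _ = z * (k⁻¹ * g * k) := by group
      · rintro ⟨g, hg, rfl⟩
        refine ⟨k * g * k⁻¹, ?_, by group⟩
        show k * g * k⁻¹ * (k * z * k⁻¹) = k * z * k⁻¹ * (k * g * k⁻¹)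
        calc k * g * k⁻¹ * (k * z * k⁻¹) = k * (g * z) * k⁻¹ := by group
          _ = k * (z * g) * k⁻¹ := by rw [hg]
          _ = k * z * k⁻¹ * (k * g * k⁻¹) := by group
    have hgz : ∀ g : G, g * z = z * g → g * z * g⁻¹ = z := fun g hg => by rw [hg, mul_inv_cancel_right]
    have hinj : ∀ {s t : G}, k * s * k⁻¹ = k * t * k⁻¹ → s = t := fun h => by
      simpa [mul_assoc] using h
    have hcm : ∀ g t : G, g * z = z * g → t * z = z * t → g * t * g⁻¹ * z = z * (g * t * g⁻¹) := by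
      intro g t hg ht
      have e := hgz g hg
      calc g * t * g⁻¹ * z = g * t * g⁻¹ * (g * z * g⁻¹) := by rw [e]
        _ = g * (t * z) * g⁻¹ := by group
        _ = g * (z * t) * g⁻¹ := by rw [ht]
        _ = g * z * g⁻¹ * (g * t * g⁻¹) := by group
        _ = z * (g * t * g⁻¹) := by rw [e]
    have hself : ∀ t : G, k * t * k⁻¹ ∈
        {v : G | ∃ g : G, Commute g (k * z * k⁻¹) ∧ g * (k * t * k⁻¹) * g⁻¹ = v} := fun t =>
      (horb t _).2 ⟨1, by simp, by simp⟩
    refine ⟨_, hmv y0 hy0, _, hmv w0 hw0, fun e => ?_, fun e => ?_, fun e => ?_, ?_⟩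
    · obtain ⟨g, hg, h⟩ := (horb z _).1 (e ▸ hself y0)
      exact hy1 ((hinj h).symm.trans (hgz g hg))
    · obtain ⟨g, hg, h⟩ := (horb z _).1 (e ▸ hself w0)
      exact hw2 (by rw [← (hgz g hg).symm.trans (hinj h)])
    · obtain ⟨g, hg, h⟩ := (horb y0 _).1 (e ▸ hself w0)
      exact hw2 (hinj h ▸ hcm g y0 hg hy2)
    · refine Set.Subset.antisymm (fun v hv => ?_) ?_
      · obtain ⟨t, rfl⟩ : ∃ t, v = k * t * k⁻¹ := ⟨k⁻¹ * v * k, by group⟩
        have ht : IsConj z t := ((hD _).1 hv).trans (isConj_iff.2 ⟨k⁻¹, by group⟩)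
        by_cases h1 : t = z
        · subst h1; exact Or.inl (Or.inl (hself t))
        by_cases h2 : t * z = z * t
        · obtain ⟨g, hg, rfl⟩ := htc y0 t hy0 ht hy1 h1 hy2 h2
          exact Or.inl (Or.inr ((horb _ _).2 ⟨g, hg, rfl⟩))
        · obtain ⟨g, hg, rfl⟩ := hta w0 t hw0 ht hw2 h2
          exact Or.inr ((horb _ _).2 ⟨g, hg, rfl⟩)
      · rintro v ((h | h) | h) <;> obtain ⟨g, -, rfl⟩ := h
        · exact (hD _).2 (((hD _).1 hx).trans (isConj_iff.2 ⟨g, rfl⟩))
        · exact (hD _).2 ((hmv y0 hy0).trans (isConj_iff.2 ⟨g, rfl⟩))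
        · exact (hD _).2 ((hmv w0 hw0).trans (isConj_iff.2 ⟨g, rfl⟩))
  have h3 : IsThreeTranspositionClass D :=
    S1617.result hsol hord ⟨z, (hD z).2 (IsConj.refl z), rfl⟩ hgen hrank
  have hle : closure {y : G | y ∈ D ∧ y ≠ z ∧ Commute z y} ≤ centralizer ({z} : Set G) :=
    (closure_le _).2 fun y hy => mem_centralizer_singleton_iff.2 hy.2.2.eq.symm
  haveI : Group.IsSolvable ↥(centralizer ({z} : Set G)) := hC
  have hs : Group.IsSolvable ↥(closure {y : G | y ∈ D ∧ y ≠ z ∧ Commute z y}) :=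
    Group.isSolvable_of_isSolvable_injective (Subgroup.inclusion_injective hle)
  rcases S1614.result hsol hperf h3 z ((hD z).2 (IsConj.refl z)) hs with he | he | ⟨K, iK, iK', hK, he | he⟩
  · obtain ⟨e⟩ := he
    rw [Nat.card_congr e.toEquiv, Nat.card_perm, Nat.card_eq_fintype_card, Fintype.card_fin] at h1024
    norm_num [Nat.factorial] at h1024
  · obtain ⟨e⟩ := he
    rw [Nat.card_congr e.toEquiv, Nat.card_perm, Nat.card_eq_fintype_card, Fintype.card_fin] at h1024
    norm_num [Nat.factorial] at h1024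
  · obtain ⟨e⟩ := he
    have h := S0280.result (F := K) (q := 2) (hK.trans (by norm_num)) 4 (by norm_num)
    norm_num [Finset.prod_range_succ, Nat.even_iff] at h
    simp only [← Nat.card_eq_fintype_card] at h
    have hc : Nat.card (PSU 4 K 2) = 25920 := by omega
    rw [Nat.card_congr e.toEquiv, hc] at h1024
    norm_num at h1024
  · obtain ⟨e⟩ := he
    obtain ⟨k⟩ := Recog.PguThree.psu_congr 5 2 (FiniteField.ringEquivOfCardEq (hK.trans hF.symm) : K ≃+* F)
    exact ⟨e.trans k⟩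

end Cfsg.Agent.Spor.U52Type
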