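import Cfsg.Agent.Lib.Spor.U52Type.CountPairs
import Cfsg.Agent.Lib.Spor.U52Type.End
import Cfsg.Agent.S0144

/-!
# The centraliser of the centre is soluble, its orbits on the class, and the recognition
-/

set_option autoImplicit false
set_option linter.unusedSectionVars false
set_option maxRecDepth 100000
set_option maxHeartbeats 1000000

namespace Cfsg.Agent.Spor.U52Type

open Subgroup Equiv

universe u v

variable {G : Type u} [Group G] [Finite G]

/-- An element of prime order at least five centralises a 2-group step of index at most four. -/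
theorem centralise_step {g : G} {p : ℕ} (hp : p.Prime) (h5 : 5 ≤ p) (hg : orderOf g = p) {H L : Subgroup G}
    (hHL : H ≤ L) (hcard : Nat.card ↥L ≤ 4 * Nat.card ↥H) (hL : ∀ x ∈ L, g * x * g⁻¹ ∈ L)
    (hH : ∀ x ∈ H, g * x = x * g) (h2 : IsPGroup 2 ↥H) : ∀ x ∈ L, g * x = x * g := by
  intro x hx
  have hpow : ∀ k : ℕ, g ^ k * x * (g ^ k)⁻¹ ∈ L := by
    intro k
    induction k with
    | zero => simpa using hx
    | succ k ih => rw [pow_succ']; simpa [mul_assoc] using hL _ ih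
  let f : Fin 5 → ↥L ⧸ H.subgroupOf L := fun k => QuotientGroup.mk ⟨g ^ (k : ℕ) * x * (g ^ (k : ℕ))⁻¹, hpow k⟩
  have hq : Nat.card (↥L ⧸ H.subgroupOf L) ≤ 4 := by
    have h := Subgroup.card_eq_card_quotient_mul_card_subgroup (H.subgroupOf L)
    rw [Nat.card_congr (subgroupOfEquivOfLe hHL).toEquiv] at h
    exact Nat.le_of_mul_le_mul_right (h ▸ hcard) Nat.card_pos
  haveI : Fintype (↥L ⧸ H.subgroupOf L) := Fintype.ofFinite _
  obtain ⟨a, b, hab, hf⟩ := Fintype.exists_ne_map_eq_of_card_lt f (by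
    rw [Fintype.card_fin, ← Nat.card_eq_fintype_card]; omega)
  obtain ⟨j, k, hjk, hk, hf⟩ : ∃ j k : ℕ, j < k ∧ k < 5 ∧
      (g ^ j * x * (g ^ j)⁻¹)⁻¹ * (g ^ k * x * (g ^ k)⁻¹) ∈ H := by
    have h1 : ((g ^ (a : ℕ) * x * (g ^ (a : ℕ))⁻¹)⁻¹ * (g ^ (b : ℕ) * x * (g ^ (b : ℕ))⁻¹)) ∈ H :=
      mem_subgroupOf.1 ((QuotientGroup.eq (s := H.subgroupOf L)).1 hf)
    rcases lt_or_gt_of_ne (Fin.val_ne_of_ne hab) with h | h
    · exact ⟨a, b, h, b.2, h1⟩
    · refine ⟨b, a, h, a.2, ?_⟩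
      simpa using inv_mem h1
  obtain ⟨n, rfl⟩ := Nat.exists_eq_add_of_le hjk.le
  set e := x⁻¹ * (g ^ n * x * (g ^ n)⁻¹) with he
  have heH : e ∈ H := by
    have h1 : (g ^ j * x * (g ^ j)⁻¹)⁻¹ * (g ^ (j + n) * x * (g ^ (j + n))⁻¹) = g ^ j * e * (g ^ j)⁻¹ := by
      rw [he, pow_add]; group
    rw [h1] at hf
    have hc : ∀ i : ℕ, g ^ i * (g ^ j * e * (g ^ j)⁻¹) = (g ^ j * e * (g ^ j)⁻¹) * g ^ i := fun i =>
      (Commute.pow_left (hH _ hf) i).eq
    have e2 : e = g ^ j * e * (g ^ j)⁻¹ := by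
      apply mul_left_cancel (a := g ^ j)
      apply mul_right_cancel (b := (g ^ j)⁻¹)
      rw [hc j]; group
    rw [e2]; exact hf
  have hce : ∀ t : ℕ, (g ^ n) ^ t * x * ((g ^ n) ^ t)⁻¹ = x * e ^ t := by
    intro t
    induction t with
    | zero => simp
    | succ t ih =>
      have hge : g ^ n * e ^ t * (g ^ n)⁻¹ = e ^ t := by
        rw [mul_inv_eq_iff_eq_mul]
        exact (Commute.pow_left (Commute.pow_right (hH e heH) t) n).eq
      calc (g ^ n) ^ (t + 1) * x * ((g ^ n) ^ (t + 1))⁻¹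
          = g ^ n * ((g ^ n) ^ t * x * ((g ^ n) ^ t)⁻¹) * (g ^ n)⁻¹ := by rw [pow_succ']; group
        _ = g ^ n * x * (g ^ n)⁻¹ * (g ^ n * e ^ t * (g ^ n)⁻¹) := by rw [ih]; group
        _ = x * e * e ^ t := by rw [hge, he, mul_inv_cancel_left]
        _ = x * e ^ (t + 1) := by rw [mul_assoc, ← pow_succ']
  have hep : e ^ p = 1 := by
    have h := hce p
    rw [← pow_mul, mul_comm, pow_mul, ← hg, pow_orderOf_eq_one, one_pow, one_mul, inv_one, mul_one] at h
    rw [← hg]
    exact mul_left_cancel (h.symm.trans (mul_one x).symm)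
  have he1 : e = 1 := by
    obtain ⟨s, hs⟩ := h2 ⟨e, heH⟩
    have hs' : e ^ 2 ^ s = 1 := congrArg Subtype.val hs
    have h := Nat.dvd_gcd (orderOf_dvd_of_pow_eq_one hep) (orderOf_dvd_of_pow_eq_one hs')
    rw [(Nat.Coprime.pow_right s ((Nat.coprime_primes hp Nat.prime_two).2 (by omega))).gcd_eq_one, Nat.dvd_one,
      orderOf_eq_one_iff] at h
    exact h
  have hcn : g ^ n * x = x * g ^ n := by
    have h := hce 1
    rw [pow_one, he1, one_pow, mul_one] at h
    exact mul_inv_eq_iff_eq_mul.1 h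
  obtain ⟨m, hm⟩ := exists_pow_eq_self_of_coprime (n := n) (x := g) (by
    rw [hg]
    exact Nat.coprime_comm.1 (hp.coprime_iff_not_dvd.2 fun hd => by
      have := Nat.le_of_dvd (by omega) hd; omega))
  rw [← hm]
  exact (Commute.pow_left hcn m).eq

namespace Setting

variable {d : Setting G}

theorem subQ_pgroup : IsPGroup 2 ↥d.subQ := d.S.isPGroup'.to_le d.subQ_le_S

theorem card_codes {H : Subgroup G} {p : Fin 1024 → Bool} (h : (H : Set G) = d.s.φ '' {n | p n = true}) :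
    Nat.card ↥H = (List.range 1024).countP fun i => p ⟨i % 1024, Nat.mod_lt _ (by norm_num)⟩ := by
  rw [← card_filter_codes p, ← SetLike.coe_sort_coe, Nat.card_coe_set_eq, h,
    Set.ncard_image_of_injective _ d.s.inj, ← Set.ncard_coe_finset]
  simp

theorem card_subQ : Nat.card ↥d.subQ = 128 := (card_codes (p := inQ) rfl).trans Q_count.2.2.2

theorem card_Q2 : Nat.card ↥(d.subQ ⊓ d.subW) = 32 := by
  refine (card_codes (d := d) (p := inQ2) (Set.ext fun x => ?_)).trans Q2_count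
  simp only [Subgroup.coe_inf, Set.mem_inter_iff, SetLike.mem_coe, Set.mem_image, Set.mem_setOf_eq, inQ2,
    Bool.and_eq_true]
  constructor
  · rintro ⟨⟨n, hn, rfl⟩, hW⟩
    exact ⟨n, ⟨hn, d.mem_W.1 hW⟩, rfl⟩
  · rintro ⟨n, ⟨h1, h2⟩, rfl⟩
    exact ⟨d.s.mem_sub.2 h1, d.mem_W.2 h2⟩

theorem card_QE : Nat.card ↥(d.subQ ⊓ d.subE) = 8 := by
  refine (card_codes (d := d) (p := inQE) (Set.ext fun x => ?_)).trans QE_count
  simp only [Subgroup.coe_inf, Set.mem_inter_iff, SetLike.mem_coe, Set.mem_image, Set.mem_setOf_eq, inQE,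
    Bool.and_eq_true]
  constructor
  · rintro ⟨⟨n, hn, rfl⟩, hW⟩
    exact ⟨n, ⟨hn, d.mem_E.1 hW⟩, rfl⟩
  · rintro ⟨n, ⟨h1, h2⟩, rfl⟩
    exact ⟨d.s.mem_sub.2 h1, d.mem_E.2 h2⟩

theorem kerCard_primes (hc : d.Centr) {p : ℕ} (hp : p.Prime) (h5 : 5 ≤ p) : ¬ p ∣ d.kerCard := by
  intro hd
  haveI : Fact p.Prime := ⟨hp⟩
  obtain ⟨⟨g, hgk⟩, hgo⟩ := exists_prime_orderOf_dvd_card' (G := ↥d.act.ker) p hd
  rw [Subgroup.orderOf_mk] at hgo
  have ho : orderOf (g : G) = p := by rw [Subgroup.orderOf_coe]; exact hgo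
  have hpt : ∀ i, (g : G) * d.pt i = d.pt i * g := fun i => (comm_pt_iff g i).2 (by
    rw [MonoidHom.mem_ker.1 hgk]; rfl)
  have hE : ∀ x ∈ d.subE, (g : G) * x = x * g := by
    intro x hx
    rcases d.E_cases hx with rfl | hP | ⟨a, b, ha, hb, -, rfl⟩
    · rw [mul_one, one_mul]
    · obtain ⟨i, rfl⟩ := Pt_iff.1 hP; exact hpt i
    · obtain ⟨i, rfl⟩ := Pt_iff.1 ha
      obtain ⟨j, rfl⟩ := Pt_iff.1 hb
      exact (Commute.mul_right (hpt i) (hpt j)).eq
  have hgz : (g : G) * d.z = d.z * g := hpt 0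
  have hQ : ∀ x ∈ d.subQ, (g : G) * x * (g : G)⁻¹ ∈ d.subQ := fun x hx => hc.Q_normal _ hgz x hx
  have h1 := centralise_step hp h5 ho (H := d.subQ ⊓ d.subE) (L := d.subQ ⊓ d.subW)
    (inf_le_inf_left _ d.subE_le_subW) (by rw [card_Q2, card_QE])
    (fun x hx => ⟨hQ x hx.1, d.mem_W_of_comm (d.subQ_le_S (hQ x hx.1)) fun y hy => by
      have hxy := d.comm_W_E hx.2 hy
      have hgy := hE y hy
      calc (g : G) * x * (g : G)⁻¹ * y = g * x * ((g : G)⁻¹ * y) := by group
        _ = g * x * (y * (g : G)⁻¹) := by rw [(Commute.inv_left (show Commute (g : G) y from hgy)).eq]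
        _ = g * (x * y) * (g : G)⁻¹ := by group
        _ = g * (y * x) * (g : G)⁻¹ := by rw [hxy]
        _ = g * y * (x * (g : G)⁻¹) := by group
        _ = y * (g * x * (g : G)⁻¹) := by rw [hgy]; group⟩)
    (fun x hx => hE x hx.2) (subQ_pgroup.to_le inf_le_left)
  have h2 := centralise_step hp h5 ho (H := d.subQ ⊓ d.subW) (L := d.subQ) inf_le_left
    (by rw [card_Q2, card_subQ]) hQ h1 (subQ_pgroup.to_le inf_le_left)
  have hgQ : (g : G) ∈ d.subQ := hc.Q_self _ hgz fun x hx => Or.inl (by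
    rw [h2 x hx, mul_inv_cancel_right, mul_inv_cancel])
  obtain ⟨s, hs⟩ := subQ_pgroup (G := G) (d := d) ⟨g, hgQ⟩
  have hd2 : p ∣ 2 ^ s := ho ▸ orderOf_dvd_of_pow_eq_one (congrArg Subtype.val hs :)
  have := (Nat.prime_dvd_prime_iff_eq hp Nat.prime_two).1 (hp.dvd_of_dvd_pow hd2)
  omega

theorem solvable_cent (hc : d.Centr) : Group.IsSolvable ↥(centralizer ({d.z} : Set G)) := by
  set n := Nat.card ↥(centralizer ({d.z} : Set G)) with hn
  have hn0 : n ≠ 0 := Nat.card_pos.ne'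
  refine S0144.result 2 3 (n.factorization 2) (n.factorization 3) Nat.prime_two Nat.prime_three ?_
  have hsupp : ∀ p ∈ n.primeFactors, p = 2 ∨ p = 3 := by
    intro p hp
    obtain ⟨hpp, hpd, -⟩ := Nat.mem_primeFactors.1 hp
    by_contra hne
    push Not at hne
    have h5 : 5 ≤ p := by
      have := hpp.two_le
      rcases Nat.lt_or_ge p 5 with h | h
      · interval_cases p
        · exact absurd rfl hne.1
        · exact absurd rfl hne.2
        · norm_num at hpp
      · exact h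
    rw [hn, card_z hc] at hpd
    rcases hpp.dvd_mul.1 hpd with h | h
    · have : p ∣ 2 ^ 2 * 3 ^ 3 := by simpa using h
      rcases hpp.dvd_mul.1 this with h' | h'
      · have := (Nat.prime_dvd_prime_iff_eq hpp Nat.prime_two).1 (hpp.dvd_of_dvd_pow h'); omega
      · have := (Nat.prime_dvd_prime_iff_eq hpp Nat.prime_three).1 (hpp.dvd_of_dvd_pow h'); omega
    · exact kerCard_primes hc hpp h5 h
  show n = _
  conv_lhs => rw [← Nat.prod_factorization_pow_eq_self hn0]
  rw [Finsupp.prod, Nat.support_factorization]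
  have hsub : n.primeFactors ⊆ {2, 3} := fun p hp => by
    rcases hsupp p hp with rfl | rfl <;> simp
  rw [Finset.prod_subset hsub fun p _ hp => by
    rw [Finsupp.notMem_support_iff.1 (by rwa [Nat.support_factorization]), pow_zero]]
  simp

theorem regular_Q (hc : d.Centr) {x : G} (hx : IsConj d.z x) (hxz : x * d.z ≠ d.z * x) {t : G}
    (ht : t ∈ d.subQ) (htx : t * x = x * t) : t = 1 := by
  obtain ⟨n, hn, rfl⟩ := ht
  by_contra hne
  have hsq : mulS n n = 0 ∨ mulS n n = 512 := by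
    have h := of_allCodes Q_sq_ok n
    simp only [Set.mem_setOf_eq] at hn
    simp only [hn, Bool.not_true, Bool.false_or, Bool.and_eq_true, Bool.or_eq_true, eqC_iff] at h
    exact h.1
  rcases hsq with h | h
  · by_cases h512 : n = 512
    · subst h512; exact hxz htx.symm
    have hni : isInv n = true := by
      simp only [isInv, Bool.and_eq_true, bne_iff_ne, beq_iff_eq]
      exact ⟨fun e => hne (d.s.eq_one.2 e), h⟩
    have hn' : (inQ n && isInv n && !eqC n 512) = true := by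
      simp only [Set.mem_setOf_eq] at hn
      simp [hn, hni, ← Bool.not_eq_true, eqC_iff, h512]
    obtain ⟨g, hg, hgq⟩ := (q_orbit_iff hc).2 ⟨n, hn', rfl⟩
    obtain ⟨i, hi⟩ := D_cent_pair hc (x := g⁻¹ * x * g) (by simpa using isConj_cj g⁻¹ hx)
      (by decide : (1 : Fin 5) ≠ 2) (by
        show g⁻¹ * x * g * d.q = d.q * (g⁻¹ * x * g)
        calc g⁻¹ * x * g * d.q = g⁻¹ * (x * (g * d.q * g⁻¹)) * g := by group
          _ = g⁻¹ * (g * d.q * g⁻¹ * x) * g := by rw [hgq, htx]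
          _ = _ := by group)
    refine hxz ?_
    have hgz : g * d.z * g⁻¹ = d.z := by rw [hg, mul_inv_cancel_right]
    calc x * d.z = g * (g⁻¹ * x * g) * g⁻¹ * (g * d.z * g⁻¹) := by rw [hgz]; group
      _ = g * (g⁻¹ * x * g * d.z) * g⁻¹ := by group
      _ = g * (d.z * (g⁻¹ * x * g)) * g⁻¹ := by rw [hi, pt_comm_z]
      _ = g * d.z * g⁻¹ * x := by group
      _ = d.z * x := by rw [hgz]
  · refine hxz ?_
    have : d.s.φ n * d.s.φ n = d.z := by rw [d.s.mul, h]; rfl
    rw [← this]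
    exact (Commute.mul_right (show Commute x (d.s.φ n) from htx.symm) htx.symm).eq

/-- The orbit of the subgroup of order 128 is the whole set of conjugates not commuting with the centre. -/
theorem orbit_Q (hc : d.Centr) {x y : G} (hx : IsConj d.z x) (hxz : x * d.z ≠ d.z * x) (hy : IsConj d.z y)
    (hyz : y * d.z ≠ d.z * y) : ∃ g : G, g * d.z = d.z * g ∧ g * x * g⁻¹ = y := by
  have hQz : ∀ t ∈ d.subQ, t * d.z = d.z * t := fun t ht => d.comm_z (d.subQ_le_S ht)
  set Dn := {w : G | IsConj d.z w ∧ w * d.z ≠ d.z * w} with hDn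
  have hDle : Dn.ncard ≤ 128 := by
    have hsub : insert d.z {w | d.InDz w} ⊆ {w : G | IsConj d.z w} := by
      rintro w (rfl | hw)
      · exact IsConj.refl _
      · exact hw.1
    have hdiff : Dn ⊆ {w : G | IsConj d.z w} \ insert d.z {w | d.InDz w} := fun w ⟨hw, hwz⟩ =>
      ⟨hw, fun h => by rcases h with rfl | h; exacts [hwz rfl, hwz h.2.2]⟩
    have h := Set.ncard_le_ncard hdiff (Set.toFinite _)
    rw [Set.ncard_sdiff hsub (Set.toFinite _), Set.ncard_insert_of_notMem (fun h => h.2.1 rfl) (Set.toFinite _),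
      show {w : G | d.InDz w}.ncard = 36 by rw [← Nat.card_coe_set_eq]; exact card_Dz hc,
      show {w : G | IsConj d.z w}.ncard = Nat.card {w : G // IsConj d.z w} from (Nat.card_coe_set_eq _).symm] at h
    have := card_D_le hc
    omega
  set f := fun t : G => t * x * t⁻¹ with hf
  have hsub : f '' (d.subQ : Set G) ⊆ Dn := by
    rintro _ ⟨t, ht, rfl⟩
    refine ⟨isConj_cj t hx, fun e => hxz ?_⟩
    have htz : t * d.z * t⁻¹ = d.z := by rw [hQz t ht, mul_inv_cancel_right]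
    apply mul_left_cancel (a := t)
    apply mul_right_cancel (b := t⁻¹)
    calc t * (x * d.z) * t⁻¹ = t * x * t⁻¹ * (t * d.z * t⁻¹) := by group
      _ = t * x * t⁻¹ * d.z := by rw [htz]
      _ = d.z * (t * x * t⁻¹) := e
      _ = t * d.z * t⁻¹ * (t * x * t⁻¹) := by rw [htz]
      _ = t * (d.z * x) * t⁻¹ := by group
  have hinj : Set.InjOn f (d.subQ : Set G) := fun s hs t ht e => by
    have h := regular_Q hc hx hxz (mul_mem (inv_mem hs) ht) (by
      have : s⁻¹ * (s * x * s⁻¹) * t = s⁻¹ * (t * x * t⁻¹) * t := by rw [show s * x * s⁻¹ = t * x * t⁻¹ from e]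
      calc s⁻¹ * t * x = s⁻¹ * (t * x * t⁻¹) * t := by group
        _ = s⁻¹ * (s * x * s⁻¹) * t := this.symm
        _ = _ := by group)
    exact inv_mul_eq_one.1 h
  have heq := Set.eq_of_subset_of_ncard_le hsub (by
    rw [Set.InjOn.ncard_image hinj, show (d.subQ : Set G).ncard = 128 by
      rw [← Nat.card_coe_set_eq]; exact card_subQ]
    exact hDle) (Set.toFinite _)
  have hyD : y ∈ Dn := ⟨hy, hyz⟩
  rw [← heq] at hyD
  obtain ⟨t, ht, hty⟩ := hyD
  exact ⟨t, hQz t ht, hty⟩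

/-- Recognition from the structure of the centralisers. -/
theorem recognise (hc : d.Centr) {F : Type v} [Field F] [Fintype F] (hF : Fintype.card F = 4) :
    Nonempty (G ≃* Cfsg.PSU 5 F 2) := by
  haveI := d.simple
  refine psu_of_suborbits hF (d.card_S ▸ card_subgroup_dvd_card _) d.z d.orderOf_z (solvable_cent hc)
    ⟨d.pt 1, d.isConj_pts 1, (pt_inDz (by decide)).2.1, pt_comm_z 1⟩ ?_ ?_ (fun x y hx hy hxz hyz => orbit_Q hc hx hxz hy hyz)
  · by_contra hno
    push Not at hno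
    set N := normalClosure ({d.z} : Set G)
    have hN : N ≤ centralizer ({d.z} : Set G) := (closure_le _).2 fun w hw => by
      simp only [Group.conjugatesOfSet, Set.mem_iUnion, Set.mem_singleton_iff, exists_prop, exists_eq_left] at hw
      exact mem_centralizer_singleton_iff.2 (hno w hw)
    rcases IsSimpleGroup.eq_bot_or_eq_top_of_normal N normalClosure_normal with e | e
    · exact d.z_ne_one (mem_bot.1 (e ▸ subset_normalClosure (Set.mem_singleton d.z)))
    · have hz : d.z ∈ center G := mem_center_iff.2 fun g =>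
        mem_centralizer_singleton_iff.1 (hN (e.symm ▸ mem_top g))
      rcases IsSimpleGroup.eq_bot_or_eq_top_of_normal (center G) inferInstance with e' | e'
      · rw [e', mem_bot] at hz; exact d.z_ne_one hz
      · exact d.nc ⟨⟨fun a b => mem_center_iff.1 (e'.symm ▸ mem_top b : b ∈ center G) a⟩⟩
  · intro x y hx hy hxn hyn hxz hyz
    obtain ⟨g, hg, rfl⟩ := Dz_iff.1 (⟨hx, hxn, hxz⟩ : d.InDz x)
    obtain ⟨h, hh, rfl⟩ := Dz_iff.1 (⟨hy, hyn, hyz⟩ : d.InDz y)
    refine ⟨h * g⁻¹, ?_, by group⟩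
    rw [mul_assoc, (Commute.inv_left (show Commute g d.z from hg)).eq, ← mul_assoc, hh, mul_assoc]

end Setting

end Cfsg.Agent.Spor.U52Type
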