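import Cfsg.Agent.Lib.Spor.U52Type.Points
import Cfsg.Agent.S1169
import Cfsg.Agent.S1225

/-!
# The normaliser acts as the alternating group on the five points; there are two classes of involutions
-/

set_option autoImplicit false
set_option linter.unusedSectionVars false
set_option maxRecDepth 100000
set_option maxHeartbeats 4000000

namespace Cfsg.Agent.Spor.U52Type

open Subgroup Equiv

universe u

/-- The permutation of a residue. -/
def vP (c : Fin 4) : Perm (Fin 5) where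
  toFun := vF c
  invFun := vF c
  left_inv := (by decide : ∀ c : Fin 4, ∀ i, vF c (vF c i) = i) c
  right_inv := (by decide : ∀ c : Fin 4, ∀ i, vF c (vF c i) = i) c

theorem vP_facts : vP 0 = 1 ∧ Function.Injective vP ∧ (∀ a b, ∃ c, vP a * vP b = vP c) ∧
    (∀ c, Perm.sign (vP c) = 1 ∧ vP c 0 = 0) ∧ ∀ i j : Fin 5, i ≠ 0 → j ≠ 0 → ∃ c, vP c i = j := by
  decide +kernel

theorem five_cycle_vP : ∀ g : Perm (Fin 5), g ^ 5 = 1 → g ≠ 1 →
    ∃ c : Fin 4, ∀ k : Fin 5, vP c * g * vP c ≠ g ^ (k : ℕ) := by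
  decide +kernel

theorem two_pts_even : ∀ a b a' b' : Fin 5, a ≠ b → a' ≠ b' →
    ∃ p : Perm (Fin 5), Perm.sign p = 1 ∧ p a = a' ∧ p b = b' := by
  decide +kernel

theorem three_pts_even : ∀ i j k l : Fin 5, [i, j, k, l].Nodup →
    ∃ p : Perm (Fin 5), Perm.sign p = 1 ∧ p i = i ∧ p j = j ∧ p k = l := by
  decide +kernel

theorem perm_res : ∀ r r' : Fin 4, r ≠ 0 → r' ≠ 0 →
    ∃ p : Perm (Fin 5), Perm.sign p = 1 ∧ p 0 = 0 ∧ p * vP r = vP r' * p := by
  decide +kernel

/-- The involution of the second class. -/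
def qC : Fin 1024 := 768

theorem qC_facts : qC = mulS (pts 0) (pts 1) ∧ isInv qC = true ∧ inE qC = true ∧ isP qC = false ∧
    isInv 512 = true ∧ isP 512 = true := by
  decide +kernel

variable {G : Type u} [Group G] [Finite G]

namespace Setting

variable (d : Setting G)

theorem act_sN_eq (n : Fin 1024) : d.act (d.sN n) = vP (res4 n) := Equiv.ext (d.act_sN n)

theorem vP_mem (c : Fin 4) : vP c ∈ d.act.range :=
  ⟨d.sN (rF c), by rw [d.act_sN_eq]; exact congrArg vP ((by decide : ∀ c : Fin 4, res4 (rF c) = c) c)⟩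

/-- The image contains every even permutation and nothing else. -/
theorem range_act : d.act.range = alternatingGroup (Fin 5) := by
  classical
  haveI : Fact (Nat.Prime 2) := ⟨Nat.prime_two⟩
  haveI : Fact (Nat.Prime 5) := ⟨by norm_num⟩
  set L := d.act.range with hL
  -- transitivity
  have htr : ∀ i, ∃ p ∈ L, p 0 = i := by
    obtain ⟨g, hg⟩ := d.moves_z
    intro i
    rcases eq_or_ne i 0 with rfl | hi
    · exact ⟨1, one_mem _, rfl⟩
    obtain ⟨c, hc⟩ := vP_facts.2.2.2.2 _ i hg hi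
    exact ⟨vP c * d.act g, mul_mem (d.vP_mem c) ⟨g, rfl⟩, hc⟩
  have h5 : 5 ∣ Nat.card ↥L := by
    have hsurj : Function.Surjective (fun p : ↥L => (p : Perm (Fin 5)) 0) := fun i => by
      obtain ⟨p, hp, he⟩ := htr i
      exact ⟨⟨p, hp⟩, he⟩
    have e : Nat.card ↥L = 5 * Nat.card {p : ↥L // (p : Perm (Fin 5)) 0 = 0} := by
      have hf : ∀ i : Fin 5, Nat.card {p : ↥L // (p : Perm (Fin 5)) 0 = i} =
          Nat.card {p : ↥L // (p : Perm (Fin 5)) 0 = 0} := fun i => by
        obtain ⟨q, hq⟩ := hsurj i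
        refine Nat.card_congr ((Equiv.mulLeft q⁻¹).subtypeEquiv fun p => ?_)
        show (p : Perm (Fin 5)) 0 = i ↔ ((q⁻¹ * p : ↥L) : Perm (Fin 5)) 0 = 0
        rw [Subgroup.coe_mul, Subgroup.coe_inv, Perm.mul_apply, Perm.inv_eq_iff_eq]
        exact ⟨fun h => h.trans hq.symm, fun h => h.trans hq⟩
      rw [← Nat.card_congr (Equiv.sigmaFiberEquiv fun p : ↥L => (p : Perm (Fin 5)) 0), Nat.card_sigma,
        Finset.sum_congr rfl fun i _ => hf i]
      simp
    exact ⟨_, e⟩
  have h4 : 4 ∣ Nat.card ↥L := by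
    let V : Subgroup (Perm (Fin 5)) :=
      { carrier := Set.range vP
        one_mem' := ⟨0, vP_facts.1⟩
        mul_mem' := by
          rintro _ _ ⟨a, rfl⟩ ⟨b, rfl⟩
          obtain ⟨c, hc⟩ := vP_facts.2.2.1 a b
          exact ⟨c, hc.symm⟩
        inv_mem' := by
          rintro _ ⟨a, rfl⟩
          exact ⟨a, Equiv.ext fun _ => rfl⟩ }
    have hV : Nat.card ↥V = 4 := by
      show Nat.card ↥(Set.range vP) = 4
      rw [← Nat.card_congr (Equiv.ofInjective vP vP_facts.2.1), Nat.card_fin]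
    rw [← hV]
    exact Subgroup.card_dvd_of_le (by rintro _ ⟨c, rfl⟩; exact d.vP_mem c)
  have h8 : ¬ 8 ∣ Nat.card ↥L := by
    intro h8
    have hk : 256 ∣ Nat.card ↥d.act.ker := by
      have hle : d.subW.subgroupOf (normalizer (d.subE : Set G)) ≤ d.act.ker := by
        intro w hw
        rw [MonoidHom.mem_ker]
        refine Equiv.ext fun i => d.act_eq ?_
        show (w : G) * d.pt i * (w : G)⁻¹ = d.pt i
        rw [d.comm_W_E (w := (w : G)) hw (d.pt_mem i), mul_inv_cancel_right]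
      have h := Subgroup.card_dvd_of_le hle
      rwa [Nat.card_congr (Subgroup.subgroupOfEquivOfLe
        (d.subW_le.trans d.S_le_normalizer_E)).toEquiv, d.card_W] at h
    have hN := (mul_dvd_mul hk h8).trans (dvd_of_eq (b := Nat.card ↥(normalizer (d.subE : Set G))) (by
      rw [hL, ← Subgroup.index_ker]; exact Subgroup.card_mul_index _))
    have hG := hN.trans (Subgroup.card_subgroup_dvd_card _)
    have h2 : (d.S : Subgroup G).index * Nat.card ↥(d.S : Subgroup G) = Nat.card G := Subgroup.index_mul_card _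
    rw [← h2, d.card_S] at hG
    have hodd : ¬ 2 ∣ (d.S : Subgroup G).index := d.S.not_dvd_index
    omega
  have hdvd : Nat.card ↥L ∣ 120 := by
    have h := L.card_subgroup_dvd_card
    rwa [Nat.card_perm, Nat.card_fin] at h
  have h20 : Nat.card ↥L ≠ 20 := by
    intro h20
    obtain ⟨g, hg⟩ := exists_prime_orderOf_dvd_card' (G := ↥L) 5 (by rw [h20]; norm_num)
    have hg5 : (g : Perm (Fin 5)) ^ 5 = 1 := by
      have h := pow_orderOf_eq_one g
      rw [hg] at h
      rw [← Subgroup.coe_pow, h, Subgroup.coe_one]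
    have hg1 : (g : Perm (Fin 5)) ≠ 1 := fun e => by
      rw [orderOf_eq_one_iff.2 (Subtype.ext e : g = 1)] at hg
      norm_num at hg
    obtain ⟨c, hc⟩ := five_cycle_vP _ hg5 hg1
    obtain ⟨P, hP⟩ := (IsPGroup.of_card (p := 5) (n := 1)
      (show Nat.card ↥(Subgroup.zpowers g) = 5 ^ 1 by rw [Nat.card_zpowers, hg, pow_one])).exists_le_sylow
    have hidx : (P : Subgroup ↥L).index ∣ 4 := by
      have hcardP : Nat.card ↥(P : Subgroup ↥L) = 5 := by
        rw [P.card_eq_multiplicity, h20,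
          show (20 : ℕ).factorization 5 = 1 by
            rw [show (20 : ℕ) = 4 * 5 by norm_num, Nat.factorization_mul (by norm_num) (by norm_num),
              Finsupp.add_apply, Nat.Prime.factorization_self (by norm_num),
              Nat.factorization_eq_zero_of_not_dvd (show ¬ 5 ∣ 4 by norm_num)]]
        norm_num
      have h := (P : Subgroup ↥L).index_mul_card
      rw [hcardP, h20] at h
      exact ⟨1, by omega⟩
    have hn : Nat.card (Sylow 5 ↥L) = 1 := by
      have h1 := card_sylow_modEq_one 5 ↥L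
      have h2 : Nat.card (Sylow 5 ↥L) ∣ 4 := (Sylow.card_dvd_index P).trans hidx
      have h3 := Nat.le_of_dvd (by norm_num) h2
      unfold Nat.ModEq at h1
      omega
    have hzP : Subgroup.zpowers g = (P : Subgroup ↥L) := by
      refine Subgroup.eq_of_le_of_card_ge hP ?_
      rw [Nat.card_zpowers, hg, P.card_eq_multiplicity, h20,
        show (20 : ℕ).factorization 5 = 1 by
          rw [show (20 : ℕ) = 4 * 5 by norm_num, Nat.factorization_mul (by norm_num) (by norm_num),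
            Finsupp.add_apply, Nat.Prime.factorization_self (by norm_num),
            Nat.factorization_eq_zero_of_not_dvd (show ¬ 5 ∣ 4 by norm_num)]]
      norm_num
    haveI : Subsingleton (Sylow 5 ↥L) := (Nat.card_eq_one_iff_unique.1 hn).1
    have hnorm : (Subgroup.zpowers g).Normal := by
      rw [hzP]
      exact Sylow.normal_of_subsingleton P
    have hmem := hnorm.conj_mem g (mem_zpowers g) ⟨vP c, d.vP_mem c⟩
    rw [mem_zpowers_iff_mem_range_orderOf, Finset.mem_image] at hmem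
    obtain ⟨k, hk, he⟩ := hmem
    rw [Finset.mem_range, hg] at hk
    have he' := congrArg (fun x : ↥L => (x : Perm (Fin 5))) he
    simp only [Subgroup.coe_pow, Subgroup.coe_mul, Subgroup.coe_inv] at he'
    refine hc ⟨k, hk⟩ ?_
    rw [show (vP c)⁻¹ = vP c from Equiv.ext fun _ => rfl] at he'
    exact he'.symm
  have h60 : Nat.card ↥L = 60 := by
    have hpos : 0 < Nat.card ↥L := Nat.card_pos
    have hle := Nat.le_of_dvd (by norm_num) hdvd
    obtain ⟨a, ha⟩ : 20 ∣ Nat.card ↥L := by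
      have := Nat.Coprime.mul_dvd_of_dvd_of_dvd (by norm_num : Nat.Coprime 4 5) h4 h5
      simpa using this
    rw [ha] at h8 h20 hle hdvd hpos ⊢
    have : a = 1 ∨ a = 2 ∨ a = 3 ∨ a = 4 ∨ a = 5 ∨ a = 6 := by omega
    rcases this with rfl | rfl | rfl | rfl | rfl | rfl <;> norm_num at *
  refine Equiv.Perm.eq_alternatingGroup_of_index_eq_two ?_
  have h := L.index_mul_card
  rw [h60, Nat.card_perm, Nat.card_fin, show Nat.factorial 5 = 120 from rfl] at h
  omega

theorem exists_act {p : Perm (Fin 5)} (hp : Perm.sign p = 1) :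
    ∃ g : ↥(normalizer (d.subE : Set G)), d.act g = p :=
  MonoidHom.mem_range.1 (d.range_act ▸ (Perm.mem_alternatingGroup.2 hp : p ∈ alternatingGroup (Fin 5)))

theorem sign_act (g : ↥(normalizer (d.subE : Set G))) : Perm.sign (d.act g) = 1 :=
  Perm.mem_alternatingGroup.1 (d.range_act ▸ (⟨g, rfl⟩ : d.act g ∈ d.act.range))

theorem exists_map {p : Perm (Fin 5)} (hp : Perm.sign p = 1) :
    ∃ m ∈ normalizer (d.subE : Set G), ∀ i, m * d.pt i * m⁻¹ = d.pt (p i) := by
  obtain ⟨g, rfl⟩ := d.exists_act hp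
  exact ⟨g, g.2, d.act_spec g⟩

theorem isConj_pts (i : Fin 5) : IsConj d.z (d.pt i) := by
  obtain ⟨j, hj⟩ : ∃ j : Fin 5, j ≠ 0 := ⟨1, by decide⟩
  rcases eq_or_ne i 0 with rfl | hi
  · exact IsConj.refl _
  obtain ⟨p, hp, h0, -⟩ := two_pts_even 0 i i 0 (Ne.symm hi) hi
  obtain ⟨m, -, hm⟩ := d.exists_map hp
  exact isConj_iff.2 ⟨m, by rw [← h0, ← d.pt_zero, hm 0]⟩

theorem isConj_pair {i j : Fin 5} (hij : i ≠ j) : IsConj (d.s.φ qC) (d.s.φ (mulS (pts i) (pts j))) := by
  obtain ⟨p, hp, h0, h1⟩ := two_pts_even 0 1 i j (by decide) hij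
  obtain ⟨m, -, hm⟩ := d.exists_map hp
  refine isConj_iff.2 ⟨m, ?_⟩
  rw [qC_facts.1, ← d.s.mul, ← d.s.mul]
  show m * (d.pt 0 * d.pt 1) * m⁻¹ = d.pt i * d.pt j
  rw [← h0, ← h1, ← hm 0, ← hm 1]
  group

theorem qC_not_z : ¬ IsConj d.z (d.s.φ qC) := fun h => by
  have := d.isP_of_conj qC_facts.2.1 h
  rw [qC_facts.2.2.2.1] at this
  exact Bool.noConfusion this

/-- The involutions of the Sylow group conjugate to the centre. -/
theorem conj_z_iff {n : Fin 1024} (hn : isInv n = true) : IsConj d.z (d.s.φ n) ↔ isP n = true :=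
  ⟨d.isP_of_conj hn, fun h => by
    obtain ⟨i, rfl⟩ := (isP_iff n).1 h
    exact d.isConj_pts i⟩

theorem outside_conj {r r' : Fin 4} (hr : r ≠ 0) (hr' : r' ≠ 0) :
    IsConj (d.s.φ (rF r)) (d.s.φ (rF r')) := by
  obtain ⟨p, hp, -, hcm⟩ := perm_res r r' hr hr'
  obtain ⟨g, hg⟩ := d.exists_act hp
  let N := normalizer (d.subE : Set G)
  let H : Subgroup ↥N := (d.act.range ⊓ (Subgroup.closure (Set.range vP))).comap d.act
  set x : ↥N := g * d.sN (rF r) * g⁻¹ with hx
  have hxact : d.act x = vP r' := by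
    rw [hx, map_mul, map_mul, map_inv, hg, d.act_sN_eq,
      (rF_facts r hr).2, hcm, mul_inv_cancel_right]
  let SN : Subgroup ↥N := (d.S : Subgroup G).subgroupOf N
  have hSH : SN ≤ H := fun s hs => by
    obtain ⟨n, hn⟩ := d.s.surj _ hs
    have : s = d.sN n := Subtype.ext hn.symm
    rw [this, Subgroup.mem_comap, d.act_sN_eq]
    exact ⟨d.vP_mem _, Subgroup.subset_closure ⟨_, rfl⟩⟩
  have hxH : x ∈ H := by
    rw [Subgroup.mem_comap, hxact]
    exact ⟨d.vP_mem _, Subgroup.subset_closure ⟨_, rfl⟩⟩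
  have hx2 : (x : G) * x = 1 := by
    rw [← Subgroup.coe_mul, hx, show g * d.sN (rF r) * g⁻¹ * (g * d.sN (rF r) * g⁻¹) =
      g * (d.sN (rF r) * d.sN (rF r)) * g⁻¹ by group]
    have h2 : d.sN (rF r) * d.sN (rF r) = 1 := Subtype.ext (by
      show d.s.φ (rF r) * d.s.φ (rF r) = 1
      have := (rF_facts r hr).1
      simp only [isF, isInv, Bool.and_eq_true, beq_iff_eq] at this
      exact d.s.sq.2 this.1.2)
    rw [h2, mul_one, mul_inv_cancel, Subgroup.coe_one]
  have hzp : IsPGroup 2 ↥(Subgroup.zpowers x) := by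
    rintro ⟨y, hy⟩
    obtain ⟨k, rfl⟩ := mem_zpowers_iff.1 hy
    refine ⟨1, Subtype.ext ?_⟩
    have h2 : x ^ (2 : ℕ) = 1 := Subtype.ext (by rw [pow_two, Subgroup.coe_mul]; exact hx2)
    show (x ^ k) ^ (2 ^ 1) = 1
    rw [pow_one, ← zpow_natCast (x ^ k), ← zpow_mul, mul_comm, zpow_mul, zpow_natCast, h2, one_zpow]
  have hSNp : IsPGroup 2 ↥SN := d.S.isPGroup'.comap_of_injective _ N.subtype_injective
  obtain ⟨h, hhH, P, hP, hPH, hSP, hxP⟩ := JTwoType.align H (Subgroup.zpowers x) SN hzp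
    ((Subgroup.zpowers_le).2 hxH) hSNp hSH
  have hPS : P.map N.subtype = (d.S : Subgroup G) := d.S.3 (hP.map _) (fun s hs =>
    ⟨⟨s, d.S_le_normalizer_E hs⟩, hSP hs, rfl⟩)
  have hy : ((h * x * h⁻¹ : ↥N) : G) ∈ (d.S : Subgroup G) :=
    hPS ▸ mem_map_of_mem N.subtype (hxP (JTwoType.mem_cI (mem_zpowers x)))
  obtain ⟨n, hn⟩ := d.s.surj _ hy
  have hn' : d.sN n = h * x * h⁻¹ := Subtype.ext hn
  obtain ⟨c, hc⟩ : ∃ c, d.act h = vP c := by
    have hh := hhH.2
    refine Subgroup.closure_induction (p := fun p _ => ∃ c, p = vP c) (fun p hp => ?_) ⟨0, vP_facts.1.symm⟩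
      (fun p q _ _ hp hq => ?_) (fun p _ hp => ?_) hh
    · obtain ⟨c, rfl⟩ := hp; exact ⟨c, rfl⟩
    · obtain ⟨a, rfl⟩ := hp; obtain ⟨b, rfl⟩ := hq; exact vP_facts.2.2.1 a b
    · obtain ⟨a, rfl⟩ := hp; exact ⟨a, Equiv.ext fun _ => rfl⟩
  have hact : vP (res4 n) = vP r' := by
    rw [← d.act_sN_eq, hn', map_mul, map_mul, map_inv, hc, hxact,
      (by decide +kernel : ∀ a b : Fin 4, vP a * vP b * (vP a)⁻¹ = vP b) c r']
  have hres : res4 n = r' := vP_facts.2.1 hact
  have hninv : isInv n = true := by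
    rw [← d.s.orderOf_two, hn]
    refine orderOf_eq_prime (p := 2) ?_ ?_
    · rw [pow_two, ← Subgroup.coe_mul, show h * x * h⁻¹ * (h * x * h⁻¹) = h * (x * x) * h⁻¹ by group]
      simp only [Subgroup.coe_mul, Subgroup.coe_inv, hx2, mul_one, mul_inv_cancel]
    · intro e
      rw [← hn, d.s.eq_one] at e
      rw [e] at hres
      exact hr' (hres.symm.trans (by decide))
  have hnF : isF n = true := isF_of_res n hninv (hres ▸ hr')
  refine IsConj.trans (isConj_iff.2 ⟨(h : G) * g, ?_⟩) (hres ▸ d.conj_rep hnF)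
  rw [hn, hx]
  simp only [Subgroup.coe_mul, Subgroup.coe_inv]
  show (h : G) * g * d.s.φ (rF r) * ((h : G) * g)⁻¹ = _
  rw [show ((d.sN (rF r) : ↥N) : G) = d.s.φ (rF r) from rfl]
  group

theorem not_strongly_closed : ∃ r : Fin 4, r ≠ 0 ∧ IsConj (d.s.φ qC) (d.s.φ (rF r)) := by
  by_contra hno
  push Not at hno
  have hsc : Cfsg.IsStronglyClosed d.subE (d.S : Subgroup G) := by
    refine ⟨d.subE_le, fun x hx g hg => ?_⟩
    obtain ⟨n, hn, rfl⟩ := hx
    obtain ⟨m, hm⟩ := d.s.surj _ hg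
    have hc : IsConj (d.s.φ n) (d.s.φ m) := isConj_iff.2 ⟨g, hm.symm⟩
    rcases eq_or_ne n 0 with rfl | hn0
    · rw [d.s.one, mul_one, mul_inv_cancel]
      exact one_mem _
    have hni : isInv n = true := by
      simp only [isInv, Bool.and_eq_true, bne_iff_ne, beq_iff_eq]
      exact ⟨hn0, (E_sq n hn).1⟩
    have hmi : isInv m = true := by
      rw [← d.s.orderOf_two, hm, show g * d.s.φ n * g⁻¹ = MulAut.conj g (d.s.φ n) from rfl,
        (MulAut.conj g).orderOf_eq, d.s.orderOf_two]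
      exact hni
    rw [← hm]
    rcases E_cases n hn with h | h | ⟨i, j, hij, h⟩
    · exact absurd h hn0
    · obtain ⟨i, hi⟩ := (isP_iff m).1 (d.isP_of_conj hmi (((d.conj_z_iff hni).2 h).trans hc))
      rw [← hi]
      exact d.pt_mem i
    · by_cases hE : inE m = true
      · exact d.mem_E.2 hE
      · have hF : isF m = true := by simp [isF, hmi, Bool.not_eq_true _ ▸ hE]
        exact absurd (((h ▸ d.isConj_pair hij : IsConj (d.s.φ qC) (d.s.φ n)).trans hc).trans (d.conj_rep hF))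
          (hno _ (isF_rep m hF).1)
  have hne : d.subE ≠ ⊥ := fun e => by
    have := d.card_E
    rw [e, Subgroup.card_bot] at this
    norm_num at this
  have := d.simple
  rcases S1169.result d.S d.subE hne ⟨⟨fun a b => Subtype.ext (d.comm_E_E a.2 b.2)⟩⟩ hsc with h | ⟨H, hH⟩
  · have e : d.s.φ 1 * d.s.φ 4 = d.s.φ 4 * d.s.φ 1 :=
      congrArg (fun x : ↥(d.S : Subgroup G) => (x : G))
        (h.is_comm.comm (⟨_, d.s.mem 1⟩ : ↥(d.S : Subgroup G)) ⟨_, d.s.mem 4⟩)
    rw [d.s.commute, show commS 1 4 = false by decide +kernel] at e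
    exact Bool.noConfusion e
  · haveI : Fact (Nat.Prime 2) := ⟨Nat.prime_two⟩
    obtain ⟨⟨t, htH⟩, ht⟩ := exists_prime_orderOf_dvd_card' (G := ↥H) 2 (even_iff_two_dvd.1 hH.2.1)
    rw [Subgroup.orderOf_mk] at ht
    obtain ⟨u, hu, huH⟩ : ∃ u : G, orderOf u = 2 ∧ u ∉ H := by
      by_contra hall
      push Not at hall
      set T : Set G := {x | orderOf x = 2}
      have hT : (Subgroup.normalClosure T) ≤ H := by
        refine (Subgroup.closure_le H).2 fun x hx => ?_
        obtain ⟨y, hy, hc⟩ := Group.mem_conjugatesOfSet_iff.1 hx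
        obtain ⟨c, rfl⟩ := isConj_iff.1 hc
        exact hall _ (by rw [show c * y * c⁻¹ = MulAut.conj c y from rfl, (MulAut.conj c).orderOf_eq]; exact hy)
      rcases IsSimpleGroup.eq_bot_or_eq_top_of_normal _ (Subgroup.normalClosure_normal (s := T)) with e | e
      · have := Subgroup.subset_normalClosure (show t ∈ T from ht)
        rw [e, SetLike.mem_coe, mem_bot] at this
        rw [this, orderOf_one] at ht
        norm_num at ht
      · exact hH.1 (top_le_iff.1 (e ▸ hT))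
    exact d.qC_not_z ((S1225.result H hH u hu huH t t ht htH ht htH).2 _ _ d.orderOf_z
      (d.s.orderOf_two.2 qC_facts.2.1))

/-- The involutions of the Sylow group outside the points are conjugate. -/
theorem conj_q {n : Fin 1024} (hn : isInv n = true) (h : isP n = false) : IsConj (d.s.φ qC) (d.s.φ n) := by
  rcases not_P_cases n hn h with ⟨i, j, hij, rfl⟩ | hF
  · exact d.isConj_pair hij
  · obtain ⟨r, hr, hq⟩ := d.not_strongly_closed
    exact hq.trans ((d.outside_conj hr (isF_rep n hF).1).trans (d.conj_rep hF).symm)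

theorem two_classes {x : G} (hx : orderOf x = 2) : IsConj d.z x ∨ IsConj (d.s.φ qC) x := by
  haveI : Fact (Nat.Prime 2) := ⟨Nat.prime_two⟩
  obtain ⟨g, hg⟩ := JTwoType.conj_into d.S (P := Subgroup.zpowers x)
    (IsPGroup.of_card (n := 1) (by rw [Nat.card_zpowers, hx, pow_one]))
  obtain ⟨n, hn⟩ := d.s.surj _ (hg (JTwoType.mem_cI (mem_zpowers x)))
  have hc : IsConj x (d.s.φ n) := isConj_iff.2 ⟨g, hn.symm⟩
  have hni : isInv n = true := by
    rw [← d.s.orderOf_two, hn, show g * x * g⁻¹ = MulAut.conj g x from rfl, (MulAut.conj g).orderOf_eq, hx]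
  cases h : isP n with
  | false => exact Or.inr ((d.conj_q hni h).trans hc.symm)
  | true => exact Or.inl (((d.conj_z_iff hni).2 h).trans hc.symm)

theorem two_trans {a b a' b' : Fin 1024} (ha : isP a = true) (hb : isP b = true) (ha' : isP a' = true)
    (hb' : isP b' = true) (hab : a ≠ b) (hab' : a' ≠ b') :
    ∃ m ∈ normalizer (d.subE : Set G), m * d.s.φ a * m⁻¹ = d.s.φ a' ∧ m * d.s.φ b * m⁻¹ = d.s.φ b' := by
  obtain ⟨i, rfl⟩ := (isP_iff a).1 ha
  obtain ⟨j, rfl⟩ := (isP_iff b).1 hb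
  obtain ⟨i', rfl⟩ := (isP_iff a').1 ha'
  obtain ⟨j', rfl⟩ := (isP_iff b').1 hb'
  obtain ⟨p, hp, h1, h2⟩ := two_pts_even i j i' j' (fun e => hab (e ▸ rfl)) (fun e => hab' (e ▸ rfl))
  obtain ⟨m, hm, hspec⟩ := d.exists_map hp
  exact ⟨m, hm, by simpa [Setting.pt, h1] using hspec i, by simpa [Setting.pt, h2] using hspec j⟩

theorem three_cycle {i j k l : Fin 1024} (hi : isP i = true) (hj : isP j = true) (hk : isP k = true)
    (hl : isP l = true) (hij : i ≠ j) (hik : i ≠ k) (hil : i ≠ l) (hjk : j ≠ k) (hjl : j ≠ l) (hkl : k ≠ l) :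
    ∃ m ∈ normalizer (d.subE : Set G), m * d.s.φ i * m⁻¹ = d.s.φ i ∧ m * d.s.φ j * m⁻¹ = d.s.φ j ∧
      m * d.s.φ k * m⁻¹ = d.s.φ l := by
  obtain ⟨a, rfl⟩ := (isP_iff i).1 hi
  obtain ⟨b, rfl⟩ := (isP_iff j).1 hj
  obtain ⟨c, rfl⟩ := (isP_iff k).1 hk
  obtain ⟨e, rfl⟩ := (isP_iff l).1 hl
  obtain ⟨p, hp, h1, h2, h3⟩ := three_pts_even a b c e (by
    simp only [List.nodup_cons, List.mem_cons, List.not_mem_nil, or_false, not_or, List.nodup_nil, and_true,
      not_false_eq_true]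
    exact ⟨⟨fun h => hij (h ▸ rfl), fun h => hik (h ▸ rfl), fun h => hil (h ▸ rfl)⟩,
      ⟨fun h => hjk (h ▸ rfl), fun h => hjl (h ▸ rfl)⟩, fun h => hkl (h ▸ rfl)⟩)
  obtain ⟨m, hm, hspec⟩ := d.exists_map hp
  exact ⟨m, hm, by simpa [Setting.pt, h1] using hspec a, by simpa [Setting.pt, h2] using hspec b,
    by simpa [Setting.pt, h3] using hspec c⟩

/-- No element of the normaliser swaps two points and fixes the other three. -/
theorem no_swap {m : G} (hm : m ∈ normalizer (d.subE : Set G)) {a b : Fin 1024} (ha : isP a = true)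
    (hb : isP b = true) (hab : a ≠ b) (h1 : m * d.s.φ a * m⁻¹ = d.s.φ b) (h2 : m * d.s.φ b * m⁻¹ = d.s.φ a)
    (hfix : ∀ c, isP c = true → c ≠ a → c ≠ b → m * d.s.φ c * m⁻¹ = d.s.φ c) : False := by
  obtain ⟨i, rfl⟩ := (isP_iff a).1 ha
  obtain ⟨j, rfl⟩ := (isP_iff b).1 hb
  have hij : i ≠ j := fun e => hab (e ▸ rfl)
  have e : d.act ⟨m, hm⟩ = Equiv.swap i j := by
    refine Equiv.ext fun k => ?_
    rcases eq_or_ne k i with rfl | hki
    · rw [swap_apply_left]; exact d.act_eq h1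
    rcases eq_or_ne k j with rfl | hkj
    · rw [swap_apply_right]; exact d.act_eq h2
    · rw [swap_apply_of_ne_of_ne hki hkj]
      exact d.act_eq (hfix _ ((isP_iff _).2 ⟨k, rfl⟩) (fun h => hki (pts_facts.1 _ _ h))
        (fun h => hkj (pts_facts.1 _ _ h)))
  have := d.sign_act ⟨m, hm⟩
  rw [e, Perm.sign_swap hij] at this
  exact absurd this (by decide)

end Setting

end Cfsg.Agent.Spor.U52Type
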