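import Cfsg.Agent.Lib.Spor.U52Type.Fused
import Cfsg.Agent.Lib.Spor.U52Type.Fusion

/-!
# The fusion facts hold in the setting
-/

set_option autoImplicit false
set_option linter.unusedSectionVars false

namespace Cfsg.Agent.Spor.U52Type

open Subgroup

universe u

theorem isPt_eq_isP (n : Fin 1024) : isPt n = isP n := by
  rw [Bool.eq_iff_iff]
  simp [isPt, isP, eqC_iff, Fin.ext_iff]

variable {G : Type u} [Group G] [Finite G]

namespace Setting

theorem fused (d : Setting G) : d.Fused where
  cls n hn := by rw [isPt_eq_isP]; exact d.conj_z_iff hn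
  other n m hn hm h h' := by
    rw [isPt_eq_isP] at h h'
    exact (d.conj_q hn h).symm.trans (d.conj_q hm h')
  two i j k l hi hj hk hl hij hkl := by
    rw [isPt_eq_isP] at hi hj hk hl
    exact d.two_trans hi hj hk hl hij hkl
  three i j k l hi hj hk hl hij hik hjk hil hjl := by
    rw [isPt_eq_isP] at hi hj hk hl
    rcases eq_or_ne k l with rfl | hkl
    · exact ⟨1, one_mem _, by simp, by simp, by simp⟩
    · exact d.three_cycle hi hj hk hl hij hik hil hjk hjl hkl
  noswap g hg k l hk hl hkl h1 h2 h := by
    rw [isPt_eq_isP] at hk hl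
    exact d.no_swap hg hk hl hkl h1 h2 fun c hc => h c (by rw [isPt_eq_isP]; exact hc)

end Setting

end Cfsg.Agent.Spor.U52Type
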