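import Cfsg.Agent.Lib.Spor.U52Type.Code

/-!
# Finite facts on the 1024 codes used for the fusion
-/

set_option autoImplicit false
set_option maxRecDepth 100000
set_option maxHeartbeats 4000000

namespace Cfsg.Agent.Spor.U52Type

/-- The five transvections in the elementary subgroup. -/
def pts : Fin 5 → Fin 1024 := ![512, 256, 832, 896, 960]

/-- The central involution and the class of four. -/
def isP (n : Fin 1024) : Bool := (n : ℕ) == 512 || isA n

/-- The permutations of the five transvections by the Sylow group. -/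
def vF (c : Fin 4) (i : Fin 5) : Fin 5 :=
  ![![0, 1, 2, 3, 4], ![0, 2, 1, 4, 3], ![0, 3, 4, 1, 2], ![0, 4, 3, 2, 1]] c i

/-- The residue of a code. -/
def res4 (n : Fin 1024) : Fin 4 := ⟨(n : ℕ) % 4, Nat.mod_lt _ (by norm_num)⟩

/-- The centraliser of a representative `r` of the involutions outside. -/
def cR (r : Fin 4) (g : Fin 1024) : Bool :=
  inQ g && (((g : ℕ) >>> 6) % 4 == 0 || ((g : ℕ) >>> 6) % 4 == r)

/-- The representative of the involutions outside. -/
def rF (r : Fin 4) : Fin 1024 := ⟨r, by omega⟩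

/-- The elements of that centraliser. -/
def ck (r : Fin 4) (k : Fin 64) : Fin 1024 :=
  ⟨((k : ℕ) % 4 + 16 * ((k : ℕ) / 4 % 4) + 64 * ((k : ℕ) / 16 % 2) * (r : ℕ) + 512 * ((k : ℕ) / 32)) % 1024,
    Nat.mod_lt _ (by norm_num)⟩

/-- Conjugators for the involutions outside. -/
def fConj : List (Fin 1024) :=
  [0, 4, 8, 12, 256, 260, 264, 268, 5, 9, 13, 64, 257, 261, 265, 269, 6, 10, 14, 128, 258, 262, 266, 270]

theorem isP_iff : ∀ n : Fin 1024, isP n = true ↔ ∃ i, pts i = n := by decide +kernel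

theorem pts_facts : (∀ i j, pts i = pts j → i = j) ∧ (∀ i, isInv (pts i) = true ∧ inE (pts i) = true) := by
  decide +kernel

theorem vF_spec : ∀ g : Fin 1024, ∀ i : Fin 5, mulS g (pts i) = mulS (pts (vF (res4 g) i)) g := by
  decide +kernel

theorem inW_iff : ∀ n : Fin 1024, inW n = true ↔
    commS n 64 = true ∧ commS n 128 = true ∧ commS n 256 = true ∧ commS n 512 = true := by
  decide +kernel

theorem comm_E : ∀ n : Fin 1024, ∀ i : Fin 16, inW n = true →
    commS n ⟨64 * i, by omega⟩ = true := by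
  decide +kernel

theorem inW_sq : ∀ n : Fin 1024, inW n = true →
    (mulS n n = 0 → inE n = true) ∧ (mulS n n ≠ 0 → isP (mulS n n) = true) := by
  decide +kernel

theorem pts_sq : ∀ i, ∃ n : Fin 1024, inW n = true ∧ mulS n n = pts i := by decide +kernel

theorem E_sq : ∀ n : Fin 1024, inE n = true → mulS n n = 0 ∧ inW n = true := by decide +kernel

theorem E_cases : ∀ n : Fin 1024, inE n = true →
    n = 0 ∨ isP n = true ∨ ∃ i j, i ≠ j ∧ mulS (pts i) (pts j) = n := by
  decide +kernel

theorem not_P_cases : ∀ n : Fin 1024, isInv n = true → isP n = false →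
    (∃ i j, i ≠ j ∧ mulS (pts i) (pts j) = n) ∨ isF n = true := by
  decide +kernel

theorem isA_cent : ∀ i : Fin 5, i ≠ 0 → ∀ n : Fin 1024, commS (pts i) n = true → inW n = true := by
  decide +kernel

theorem cR_spec : ∀ r : Fin 4, r ≠ 0 → ∀ g : Fin 1024, commS (rF r) g = cR r g := by decide +kernel

theorem cR_ck : ∀ r : Fin 4, r ≠ 0 → ∀ g : Fin 1024, cR r g = true → ∃ k, ck r k = g := by decide +kernel

theorem isF_rep : ∀ n : Fin 1024, isF n = true →
    res4 n ≠ 0 ∧ ∃ g ∈ fConj, mulS g n = mulS (rF (res4 n)) g := by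
  decide +kernel

theorem isF_of_res : ∀ n : Fin 1024, isInv n = true → res4 n ≠ 0 → isF n = true := by decide +kernel

theorem rF_facts : ∀ r : Fin 4, r ≠ 0 → isF (rF r) = true ∧ res4 (rF r) = r := by decide +kernel

theorem comm_cR : ∀ r : Fin 4, r ≠ 0 → ∀ k l : Fin 64,
    mulS (ck r k) (ck r l) = mulS (ck r l) (ck r k) ∨
      mulS (ck r k) (ck r l) = mulS 512 (mulS (ck r l) (ck r k)) := by
  decide +kernel

theorem witness_cR : ∀ r : Fin 4, r ≠ 0 → ∃ a ∈ ([1, 2] : List (Fin 1024)), ∃ b ∈ ([64, 128, 192] : List (Fin 1024)),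
    isInv a = true ∧ isInv b = true ∧ cR r a = true ∧ cR r b = true ∧ commS a b = false ∧
      mulS a b = mulS 512 (mulS b a) := by
  decide +kernel

theorem elem_bound : ∀ r : Fin 4, r ≠ 0 → ∀ k : Fin 64, mulS (ck r k) (ck r k) = 0 →
    ck r k ∈ ([0, rF r, 512, mulS (rF r) 512] : List (Fin 1024)) ∨
      ((List.finRange 64).filter fun l => mulS (ck r l) (ck r l) == 0 && commS (ck r k) (ck r l)).length ≤ 8 := by
  decide +kernel

end Cfsg.Agent.Spor.U52Type
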