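import Cfsg.Agent.Lib.Spor.U52Type.Shape

/-!
# The setting: a simple group with a Sylow 2-subgroup of the shape
-/

set_option autoImplicit false
set_option linter.unusedSectionVars false
set_option maxRecDepth 100000
set_option maxHeartbeats 4000000

namespace Cfsg.Agent.Spor.U52Type

open Subgroup

universe u

/-- A simple group with a Sylow 2-subgroup of the shape. -/
structure Setting (G : Type u) [Group G] [Finite G] where
  S : Sylow 2 G
  s : Shape (S : Subgroup G)
  simple : IsSimpleGroup G
  nc : ¬ IsMulCommutative G

theorem inE_closed : ∀ i j : Fin 16, inE (mulS ⟨64 * i, by omega⟩ ⟨64 * j, by omega⟩) = true := by decide +kernel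

theorem inE_inv : ∀ n : Fin 1024, inE n = true → invS n = n := by decide +kernel

theorem inW_mul (n m : Fin 1024) (hn : inW n = true) (hm : inW m = true) : inW (mulS n m) = true := by
  simp only [inW, beq_iff_eq] at hn hm ⊢
  have h1 : cA (n : ℕ) = 0 := hn
  have h2 : cA (m : ℕ) = 0 := hm
  show mulN n m % 1024 % 4 = 0
  rw [Nat.mod_mod_of_dvd _ (by norm_num : 4 ∣ 1024), mulN, h1, h2]
  simp [Nat.add_mod, Nat.mul_mod]

theorem inW_inv : ∀ n : Fin 1024, inW n = true → inW (invS n) = true := by decide +kernel

variable {G : Type u} [Group G] [Finite G]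

namespace Setting

variable (d : Setting G)

/-- The elementary subgroup of order sixteen. -/
def subE : Subgroup G :=
  d.s.sub inE (by decide) (fun n m hn hm => by
    simp only [inE, beq_iff_eq] at hn hm
    have h := inE_closed ⟨(n : ℕ) / 64, by omega⟩ ⟨(m : ℕ) / 64, by omega⟩
    convert h using 4 <;> (dsimp only; omega)) (fun n hn => by rw [inE_inv n hn]; exact hn)

/-- The centraliser of that subgroup in the Sylow group. -/
def subW : Subgroup G := d.s.sub inW (by decide) inW_mul inW_inv

/-- The central involution. -/
def z : G := d.s.φ 512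

theorem orderOf_z : orderOf d.z = 2 := d.s.orderOf_two.2 (by decide +kernel)

theorem card_S : Nat.card ↥(d.S : Subgroup G) = 1024 := d.s.card

theorem comm_z_code : ∀ n : Fin 1024, commS n 512 = true := by decide +kernel

theorem comm_z {x : G} (hx : x ∈ (d.S : Subgroup G)) : x * d.z = d.z * x := by
  obtain ⟨n, rfl⟩ := d.s.surj x hx
  exact d.s.commute.2 (comm_z_code n)

theorem z_mem_E : d.z ∈ d.subE := d.s.mem_sub.2 (by decide +kernel)

end Setting

end Cfsg.Agent.Spor.U52Type
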