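import Cfsg.Agent.Lib.Spor.U52Type.Shape
import Cfsg.Agent.Lib.Spor.SUFieldCongr
import Cfsg.Agent.S0280
import Cfsg.Agent.Lib.Spor.USixTwo.K4

/-!
# A Sylow 2-subgroup of the unitary group of dimension five over four elements has the shape
-/

set_option autoImplicit false
set_option maxRecDepth 100000
set_option maxHeartbeats 4000000

open Cfsg Matrix Cfsg.Agent.Spor.USixTwo

namespace Cfsg.Agent.Spor.U52Type

/-- The conjugation of the field. -/
def conjK : K4 →+* K4 where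
  toFun x := x * x
  map_one' := by decide +kernel
  map_mul' := by decide +kernel
  map_zero' := by decide +kernel
  map_add' := by decide +kernel

theorem conjK_apply (x : K4) : conjK x = x * x := rfl

/-- The high bit of the entry (0,4). -/
def cT (n : ℕ) : ℕ :=
  mF (cD' n) (cA n) ^^^ mF (cC' n) (sF (cC' n)) ^^^ sF (mF (cD' n) (cA n))

/-- The entry (0,4). -/
def cZ (n : ℕ) : ℕ := (n >>> 9) % 2 + 2 * cT n

/-- The matrix of a code. -/
def mat (n : ℕ) : Matrix (Fin 5) (Fin 5) K4 :=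
  !![1, K4.of (cA n), K4.of (cC n), K4.of (cD n), K4.of (cZ n);
     0, 1, K4.of (cB n), K4.of (cX n), K4.of (cD' n);
     0, 0, 1, K4.of (sF (cB n)), K4.of (cC' n);
     0, 0, 0, 1, K4.of (sF (cA n));
     0, 0, 0, 0, 1]

/-- The antidiagonal matrix. -/
def Jm : Matrix (Fin 5) (Fin 5) K4 :=
  !![0, 0, 0, 0, 1; 0, 0, 0, 1, 0; 0, 0, 1, 0, 0; 0, 1, 0, 0, 0; 1, 0, 0, 0, 0]

/-- The columns of an isotropic basis for the diagonal form. -/
def Pb : Matrix (Fin 5) (Fin 5) K4 :=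
  !![0, 0, 1, 0, 0; 0, 1, 0, K4.of 2, 0; 0, 1, 0, K4.of 3, 0; 1, 0, 0, 0, K4.of 2; 1, 0, 0, 0, K4.of 3]

/-- Its inverse. -/
def Qb : Matrix (Fin 5) (Fin 5) K4 :=
  !![0, 0, 0, K4.of 3, K4.of 2; 0, K4.of 3, K4.of 2, 0, 0; 1, 0, 0, 0, 0; 0, 1, 1, 0, 0; 0, 0, 0, 1, 1]

/-- Preserving the antidiagonal form. -/
def IsJ (A : Matrix (Fin 5) (Fin 5) K4) : Prop := Aᵀ * Jm * A.map conjK = Jm

theorem basis_facts : Pbᵀ * Pb.map conjK = Jm ∧ Qb * Pb = 1 ∧ Pb * Qb = 1 ∧
    Qbᵀ * Jm * Qb.map conjK = 1 ∧ Jmᵀ * Jm * Jm.map conjK = Jm ∧ Jm * Jm = 1 := by decide +kernel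

theorem isJ_mul {A B : Matrix (Fin 5) (Fin 5) K4} (hA : IsJ A) (hB : IsJ B) : IsJ (A * B) := by
  unfold IsJ at *
  rw [Matrix.transpose_mul, Matrix.map_mul]
  calc Bᵀ * Aᵀ * Jm * (A.map conjK * B.map conjK) = Bᵀ * (Aᵀ * Jm * A.map conjK) * B.map conjK := by
        simp only [Matrix.mul_assoc]
    _ = Jm := by rw [hA, hB]

/-- The entries of a matrix of a code, as numbers. -/
def entN (n : ℕ) (i j : Fin 5) : ℕ :=
  [1, cA n, cC n, cD n, cZ n, 0, 1, cB n, cX n, cD' n, 0, 0, 1, sF (cB n), cC' n, 0, 0, 0, 1, sF (cA n),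
    0, 0, 0, 0, 1].getD (5 * i.val + j.val) 0 % 4

/-- An entry of the transformed form, as a number. -/
def formN (n : ℕ) (i j : Fin 5) : ℕ :=
  mF (entN n 4 i) (sF (entN n 0 j)) ^^^ mF (entN n 3 i) (sF (entN n 1 j)) ^^^
    mF (entN n 2 i) (sF (entN n 2 j)) ^^^ mF (entN n 1 i) (sF (entN n 3 j)) ^^^
    mF (entN n 0 i) (sF (entN n 4 j))

theorem formN_ok : ∀ n : Fin 1024, ∀ i j : Fin 5, formN n i j = if i.val + j.val = 4 then 1 else 0 := by
  decide +kernel

theorem of_mod (a : ℕ) : K4.of (a % 4) = K4.of a := congrArg K4.mk (Fin.ext (Nat.mod_mod a 4))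

theorem of_xor : ∀ a b : Fin 4, K4.of ((a : ℕ) ^^^ (b : ℕ)) = K4.of a + K4.of b := by decide +kernel

theorem of_mF : ∀ a b : Fin 4, K4.of (mF a b) = K4.of a * K4.of b := by decide +kernel

theorem of_sF : ∀ a : Fin 4, K4.of (sF a) = K4.of a * K4.of a := by decide +kernel

theorem of_xor' {a b : ℕ} (ha : a < 4) (hb : b < 4) : K4.of (a ^^^ b) = K4.of a + K4.of b :=
  of_xor ⟨a, ha⟩ ⟨b, hb⟩

theorem of_mF' {a b : ℕ} (ha : a < 4) (hb : b < 4) : K4.of (mF a b) = K4.of a * K4.of b :=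
  of_mF ⟨a, ha⟩ ⟨b, hb⟩

theorem xor_lt_four {a b : ℕ} (ha : a < 4) (hb : b < 4) : a ^^^ b < 4 :=
  Nat.xor_lt_two_pow (n := 2) ha hb

theorem mF_lt (a b : ℕ) : mF a b < 4 := Nat.mod_lt _ (by norm_num)

theorem sF_lt (a : ℕ) : sF a < 4 := Nat.mod_lt _ (by norm_num)

theorem mat_entN (n : ℕ) (i j : Fin 5) : mat n i j = K4.of (entN n i j) := by
  rw [entN, of_mod]
  fin_cases i <;> fin_cases j <;> rfl

theorem mat_ok (n : Fin 1024) : IsJ (mat n) := by
  have hlt : ∀ i j, entN n i j < 4 := fun i j => Nat.mod_lt _ (by norm_num)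
  refine Matrix.ext fun i j => ?_
  have hJ : Jm i j = K4.of (formN n i j) := by
    rw [formN_ok n i j]
    fin_cases i <;> fin_cases j <;> rfl
  rw [hJ, formN, of_xor' (xor_lt_four (xor_lt_four (xor_lt_four (mF_lt _ _) (mF_lt _ _)) (mF_lt _ _)) (mF_lt _ _))
      (mF_lt _ _), of_xor' (xor_lt_four (xor_lt_four (mF_lt _ _) (mF_lt _ _)) (mF_lt _ _)) (mF_lt _ _),
    of_xor' (xor_lt_four (mF_lt _ _) (mF_lt _ _)) (mF_lt _ _), of_xor' (mF_lt _ _) (mF_lt _ _)]
  simp only [of_mF' (hlt _ _) (sF_lt _), of_sF ⟨_, hlt _ _⟩, ← mat_entN]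
  simp [Matrix.mul_apply, Fin.sum_univ_five, Jm, conjK_apply]

/-- Upper unitriangular. -/
def IsUni (A : Matrix (Fin 5) (Fin 5) K4) : Prop :=
  A 0 0 = 1 ∧ A 1 1 = 1 ∧ A 2 2 = 1 ∧ A 3 3 = 1 ∧ A 4 4 = 1 ∧ A 1 0 = 0 ∧ A 2 0 = 0 ∧ A 2 1 = 0 ∧ A 3 0 = 0 ∧
    A 3 1 = 0 ∧ A 3 2 = 0 ∧ A 4 0 = 0 ∧ A 4 1 = 0 ∧ A 4 2 = 0 ∧ A 4 3 = 0

theorem mat_uni (n : ℕ) : IsUni (mat n) := by simp [IsUni, mat]

theorem uni_mul {A B : Matrix (Fin 5) (Fin 5) K4} (hA : IsUni A) (hB : IsUni B) : IsUni (A * B) := by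
  obtain ⟨a0, a1, a2, a3, a4, a10, a20, a21, a30, a31, a32, a40, a41, a42, a43⟩ := hA
  obtain ⟨b0, b1, b2, b3, b4, b10, b20, b21, b30, b31, b32, b40, b41, b42, b43⟩ := hB
  simp [IsUni, Matrix.mul_apply, Fin.sum_univ_five, *]

theorem uni_det {A : Matrix (Fin 5) (Fin 5) K4} (hA : IsUni A) : A.det = 1 := by
  obtain ⟨a0, a1, a2, a3, a4, a10, a20, a21, a30, a31, a32, a40, a41, a42, a43⟩ := hA
  rw [Matrix.det_of_upperTriangular]
  · simp [Fin.prod_univ_five, *]
  · intro i j h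
    fin_cases i <;> fin_cases j <;> simp_all

/-- The low bit. -/
def low (x : K4) : ℕ := x.v.val % 2

theorem eq_of_trace : ∀ x y : K4, x + x * x = y + y * y → low x = low y → x = y := by decide +kernel

theorem add_self' : ∀ x : K4, x + x = 0 := by decide +kernel

theorem sq_eq_iff : ∀ x y : K4, x * x = y ↔ x = y * y := by decide +kernel

/-- The remaining entries follow from six free ones. -/
theorem uni_ext {A B : Matrix (Fin 5) (Fin 5) K4} (hA : IsUni A) (hB : IsUni B) (fA : IsJ A) (fB : IsJ B)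
    (e01 : A 0 1 = B 0 1) (e12 : A 1 2 = B 1 2) (e02 : A 0 2 = B 0 2) (e03 : A 0 3 = B 0 3)
    (e13 : low (A 1 3) = low (B 1 3)) (e04 : low (A 0 4) = low (B 0 4)) : A = B := by
  obtain ⟨a0, a1, a2, a3, a4, a10, a20, a21, a30, a31, a32, a40, a41, a42, a43⟩ := hA
  obtain ⟨b0, b1, b2, b3, b4, b10, b20, b21, b30, b31, b32, b40, b41, b42, b43⟩ := hB
  have eq : ∀ i j : Fin 5, (Aᵀ * Jm * A.map conjK) i j = (Bᵀ * Jm * B.map conjK) i j := fun i j => by rw [fA, fB]
  have q41 := eq 4 1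
  have q32 := eq 3 2
  have q42 := eq 4 2
  have q33 := eq 3 3
  have q43 := eq 4 3
  have q44 := eq 4 4
  simp [Matrix.mul_apply, Fin.sum_univ_five, Jm, conjK_apply, a0, a1, a2, a3, a4, a10, a20, a21, a30, a31, a32, a40,
    a41, a42, a43, b0, b1, b2, b3, b4, b10, b20, b21, b30, b31, b32, b40, b41, b42, b43, e01, e12, e02, e03]
    at q41 q32 q42 q33 q43 q44
  have e34 : A 3 4 = B 3 4 := q41
  have e23 : A 2 3 = B 2 3 := q32
  rw [e34] at q42 q43 q44
  rw [e23] at q33 q43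
  have e24 : A 2 4 = B 2 4 := by simpa using q42
  rw [e24] at q43 q44
  have e13' : A 1 3 = B 1 3 := eq_of_trace _ _ (by
    linear_combination q33) e13
  rw [e13'] at q43
  have e14 : A 1 4 = B 1 4 := by linear_combination q43
  rw [e14] at q44
  have e04' : A 0 4 = B 0 4 := eq_of_trace _ _ (by linear_combination q44) e04
  ext i j
  fin_cases i <;> fin_cases j <;> simp_all

theorem low_of (a : ℕ) : low (K4.of a) = a % 2 := by
  show a % 4 % 2 = a % 2
  omega

theorem low_add : ∀ x y : K4, low (x + y) = (low x + low y) % 2 := by decide +kernel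

/-- The fields of a packed number. -/
theorem unpack {a b c d e f N : ℕ} (ha : a < 4) (hb : b < 4) (hc : c < 4) (hd : d < 4) (he : e < 2) (hf : f < 2)
    (hN : N = a + 4 * b + 16 * c + 64 * d + 256 * e + 512 * f) :
    N < 1024 ∧ N % 4 = a ∧ (N >>> 2) % 4 = b ∧ (N >>> 4) % 4 = c ∧ (N >>> 6) % 4 = d ∧ (N >>> 8) % 2 = e ∧
      (N >>> 9) % 2 = f := by
  simp only [Nat.shiftRight_eq_div_pow]
  omega

theorem low_mul {a b : ℕ} (ha : a < 4) (hb : b < 4) : low (K4.of a * K4.of b) = mF a b % 2 := by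
  rw [← of_mF' ha hb, low_of]

theorem cX_mod (n : ℕ) : cX n % 2 = (n >>> 8) % 2 := by unfold cX; omega

theorem cZ_mod (n : ℕ) : cZ n % 2 = (n >>> 9) % 2 := by unfold cZ; omega

theorem mat_mul (n m : Fin 1024) : mat n * mat m = mat (mulS n m) := by
  have hlt : ∀ k : ℕ, cA k < 4 ∧ cB k < 4 ∧ cC k < 4 ∧ cD k < 4 := fun k => by
    refine ⟨?_, ?_, ?_, ?_⟩ <;> exact Nat.mod_lt _ (by norm_num)
  obtain ⟨nA, nB, nC, nD⟩ := hlt n
  obtain ⟨mA, mB, mC, mD⟩ := hlt m
  have nX : cX n < 4 := by unfold cX; split <;> omega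
  have mX : cX m < 4 := by unfold cX; split <;> omega
  obtain ⟨hN, hA, hB, hC, hD, hE, hF⟩ := unpack (a := cA n ^^^ cA m) (b := cB n ^^^ cB m)
    (c := cC n ^^^ cC m ^^^ mF (cA n) (cB m)) (d := cD n ^^^ cD m ^^^ mF (cA n) (cX m) ^^^ mF (cC n) (sF (cB m)))
    (xor_lt_four nA mA) (xor_lt_four nB mB) (xor_lt_four (xor_lt_four nC mC) (mF_lt _ _))
    (xor_lt_four (xor_lt_four (xor_lt_four nD mD) (mF_lt _ _)) (mF_lt _ _))
    (Nat.mod_lt _ (by norm_num)) (Nat.mod_lt _ (by norm_num)) (rfl : mulN n m = _)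
  have hv : ((mulS n m : Fin 1024) : ℕ) = mulN n m := Nat.mod_eq_of_lt hN
  rw [hv]
  refine uni_ext (uni_mul (mat_uni _) (mat_uni _)) (mat_uni _) (isJ_mul (mat_ok _) (mat_ok _))
    (by simpa using mat_ok ⟨mulN n m, hN⟩) ?_ ?_ ?_ ?_ ?_ ?_
  · simp [Matrix.mul_apply, Fin.sum_univ_five, mat, show cA (mulN n m) = _ from hA, of_xor' nA mA]
    abel
  · simp [Matrix.mul_apply, Fin.sum_univ_five, mat, show cB (mulN n m) = _ from hB, of_xor' nB mB]
    abel
  · simp [Matrix.mul_apply, Fin.sum_univ_five, mat, show cC (mulN n m) = _ from hC,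
      of_xor' (xor_lt_four nC mC) (mF_lt _ _), of_xor' nC mC, of_mF' nA mB]
    abel
  · simp [Matrix.mul_apply, Fin.sum_univ_five, mat, show cD (mulN n m) = _ from hD,
      of_xor' (xor_lt_four (xor_lt_four nD mD) (mF_lt _ _)) (mF_lt _ _),
      of_xor' (xor_lt_four nD mD) (mF_lt _ _), of_xor' nD mD, of_mF' nA mX, of_mF' nC (sF_lt _)]
    abel
  · simp only [Matrix.mul_apply, Fin.sum_univ_five]
    simp [mat, low_add, low_of, low_mul nB (sF_lt _), cX_mod, hE]
    have := @Nat.xor_mod_two_eq ((n : ℕ) >>> 8) ((m : ℕ) >>> 8)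
    omega
  · simp only [Matrix.mul_apply, Fin.sum_univ_five]
    simp [mat, low_add, low_of, low_mul nA (show cD' (m : ℕ) < 4 from sF_lt _),
      low_mul nC (show cC' (m : ℕ) < 4 from sF_lt _), low_mul nD (sF_lt _), cZ_mod, hF]
    have := @Nat.xor_mod_two_eq ((n : ℕ) >>> 9) ((m : ℕ) >>> 9)
    have := @Nat.xor_mod_two_eq ((n : ℕ) >>> 9 ^^^ (m : ℕ) >>> 9) (mF (cA n) (cD' m))
    have := @Nat.xor_mod_two_eq ((n : ℕ) >>> 9 ^^^ (m : ℕ) >>> 9 ^^^ mF (cA n) (cD' m)) (mF (cC n) (cC' m))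
    omega

/-- The code of a matrix. -/
def codeOf (A : Matrix (Fin 5) (Fin 5) K4) : ℕ :=
  (A 0 1).v + 4 * (A 1 2).v + 16 * (A 0 2).v + 64 * (A 0 3).v + 256 * low (A 1 3) + 512 * low (A 0 4)

theorem codeOf_mat : ∀ n : Fin 1024, codeOf (mat n) = n := by decide +kernel

theorem mat_inj {n m : Fin 1024} (h : mat n = mat m) : n = m :=
  Fin.ext (by rw [← codeOf_mat n, h, codeOf_mat])

/-- The matrix in the orthonormal basis. -/
def gmat (n : ℕ) : Matrix (Fin 5) (Fin 5) K4 := Pb * mat n * Qb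

theorem gmat_mul (n m : Fin 1024) : gmat n * gmat m = gmat (mulS n m) := by
  unfold gmat
  calc Pb * mat n * Qb * (Pb * mat m * Qb) = Pb * mat n * (Qb * Pb) * mat m * Qb := by simp only [Matrix.mul_assoc]
    _ = Pb * (mat n * mat m) * Qb := by rw [basis_facts.2.1, Matrix.mul_one]; simp only [Matrix.mul_assoc]
    _ = _ := by rw [mat_mul]

/-- An element of the special unitary group from a matrix preserving the antidiagonal form. -/
def mkSU (A : Matrix (Fin 5) (Fin 5) K4) (hA : IsJ A) (hd : A.det = 1) : SU 5 K4 2 :=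
  ⟨⟨Pb * A * Qb, by
    rw [Matrix.det_mul, Matrix.det_mul, hd, mul_one, ← Matrix.det_mul, basis_facts.2.2.1, Matrix.det_one]⟩, by
    intro u v
    have hherm : ∀ a b : Fin 5 → K4, hermForm 5 K4 2 a b = a ⬝ᵥ (conjK ∘ b) := fun a b =>
      Finset.sum_congr rfl fun i _ => by rw [pow_two]; rfl
    show hermForm 5 K4 2 ((Pb * A * Qb) *ᵥ u) ((Pb * A * Qb) *ᵥ v) = hermForm 5 K4 2 u v
    rw [hherm, hherm]
    have hmap : conjK ∘ ((Pb * A * Qb) *ᵥ v) = (Pb * A * Qb).map conjK *ᵥ (conjK ∘ v) :=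
      funext fun i => RingHom.map_mulVec conjK _ v i
    rw [hmap, Matrix.dotProduct_mulVec, ← Matrix.mulVec_transpose, Matrix.mulVec_mulVec]
    have e : ((Pb * A * Qb).map conjK)ᵀ * (Pb * A * Qb) = 1 := by
      have h1 : (Pb * A * Qb)ᵀ * (Pb * A * Qb).map conjK = 1 := by
        rw [Matrix.transpose_mul, Matrix.transpose_mul, Matrix.map_mul, Matrix.map_mul]
        calc Qbᵀ * (Aᵀ * Pbᵀ) * (Pb.map conjK * A.map conjK * Qb.map conjK)
            = Qbᵀ * (Aᵀ * (Pbᵀ * Pb.map conjK) * A.map conjK) * Qb.map conjK := by simp only [Matrix.mul_assoc]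
          _ = 1 := by rw [basis_facts.1, hA, basis_facts.2.2.2.1]
      rw [← Matrix.transpose_transpose (Pb * A * Qb), ← Matrix.transpose_mul, Matrix.transpose_transpose, h1,
        Matrix.transpose_one]
    rw [e, Matrix.one_mulVec]⟩

/-- The image of a code. -/
def suOf (n : Fin 1024) : SU 5 K4 2 := mkSU (mat n) (mat_ok n) (uni_det (mat_uni n))

theorem suOf_mul (n m : Fin 1024) : suOf n * suOf m = suOf (mulS n m) :=
  Subtype.ext (Subtype.ext (gmat_mul n m))

/-- An element moving the central involution. -/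
def moveSU : SU 5 K4 2 :=
  mkSU (Jm * mat 512 * Jm) (isJ_mul (isJ_mul basis_facts.2.2.2.2.1 (mat_ok 512)) basis_facts.2.2.2.2.1) (by
    rw [Matrix.det_mul_right_comm, basis_facts.2.2.2.2.2, Matrix.one_mul]
    exact uni_det (mat_uni _))

theorem center_facts : (∀ n : Fin 1024, (∀ i : Fin 10, commS n ⟨2 ^ (i : ℕ),
      Nat.pow_lt_pow_right (by norm_num : 1 < 2) i.2⟩ = true) → n = 0 ∨ n = 512) ∧
    Jm * mat 512 * Jm * mat 512 ≠ mat 512 * (Jm * mat 512 * Jm) := by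
  decide +kernel

theorem suOf_inj {n m : Fin 1024} (h : suOf n = suOf m) : n = m := by
  have h2 : gmat n = gmat m := congrArg (fun x : SU 5 K4 2 => x.1.1) h
  have h3 := congrArg (fun X => Qb * X * Pb) h2
  simp only [gmat, Matrix.mul_assoc, basis_facts.2.1, Matrix.mul_one] at h3
  rw [← Matrix.mul_assoc, ← Matrix.mul_assoc, basis_facts.2.1, Matrix.one_mul, Matrix.one_mul] at h3
  exact mat_inj h3

theorem suOf_zero : suOf 0 = 1 := by
  have h := suOf_mul 0 0
  rw [(inv_spec 0).2.2.1] at h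
  exact mul_eq_left.1 h

theorem suOf_inv (n : Fin 1024) : (suOf n)⁻¹ = suOf (invS n) :=
  inv_eq_of_mul_eq_one_right (by rw [suOf_mul, (inv_spec n).1, suOf_zero])

/-- The image in the projective group. -/
def psuOf (n : Fin 1024) : PSU 5 K4 2 := QuotientGroup.mk (suOf n)

theorem psuOf_mul (n m : Fin 1024) : psuOf n * psuOf m = psuOf (mulS n m) := by
  rw [psuOf, psuOf, psuOf, ← QuotientGroup.mk_mul, suOf_mul]

theorem coe_move (e : moveSU * suOf 512 = suOf 512 * moveSU) :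
    Pb * (Jm * mat 512 * Jm) * Qb * (Pb * mat 512 * Qb) =
      Pb * mat 512 * Qb * (Pb * (Jm * mat 512 * Jm) * Qb) :=
  congrArg (fun x : SU 5 K4 2 => x.1.1) e

theorem commS_of_eq {n m : Fin 1024} (h : suOf n * suOf m = suOf m * suOf n) : commS n m = true := by
  rw [suOf_mul, suOf_mul] at h
  exact beq_iff_eq.2 (suOf_inj h)

attribute [local irreducible] suOf mulS in
theorem psuOf_inj : Function.Injective psuOf := by
  intro n m h
  have hc : (suOf n)⁻¹ * suOf m ∈ Subgroup.center (SU 5 K4 2) := QuotientGroup.eq.1 h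
  rw [suOf_inv, suOf_mul] at hc
  set k := mulS (invS n) m with hk
  have hk0 : k = 0 := by
    rcases center_facts.1 k (fun i => commS_of_eq (Subgroup.mem_center_iff.1 hc _).symm) with h0 | h0
    · exact h0
    · exfalso
      rw [h0] at hc
      have e := Subgroup.mem_center_iff.1 hc moveSU
      have e2 := coe_move e
      have e3 := congrArg (fun X => Qb * X * Pb) e2
      have hQP : ∀ X, Qb * (Pb * X) = X := fun X => by rw [← Matrix.mul_assoc, basis_facts.2.1, Matrix.one_mul]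
      simp only [Matrix.mul_assoc, hQP, basis_facts.2.1, Matrix.mul_one] at e3
      refine center_facts.2 ?_
      simpa only [Matrix.mul_assoc] using e3
  have e : suOf n * suOf k = suOf m := by
    rw [hk, ← suOf_mul, ← suOf_inv, mul_inv_cancel_left]
  rw [hk0, suOf_zero, mul_one] at e
  exact suOf_inj e

/-- Fields of four elements give the same group. -/
theorem psuFive_congr {F : Type*} [Field F] [Fintype F] (φ : K4 ≃+* F) : Nonempty (PSU 5 K4 2 ≃* PSU 5 F 2) := by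
  classical
  let e : SU 5 K4 2 ≃* SU 5 F 2 := Spor.SUCongr.equiv 2 φ
  refine ⟨QuotientGroup.congr _ _ e ?_⟩
  ext y
  constructor
  · rintro ⟨x, hx, rfl⟩
    refine Subgroup.mem_center_iff.2 fun w => ?_
    obtain ⟨w, rfl⟩ := e.surjective w
    show e w * e x = e x * e w
    rw [← map_mul, ← map_mul, Subgroup.mem_center_iff.1 hx w]
  · intro hy
    refine ⟨e.symm y, Subgroup.mem_center_iff.2 fun w => e.injective ?_, e.apply_symm_apply y⟩
    rw [map_mul, map_mul, e.apply_symm_apply, Subgroup.mem_center_iff.1 hy (e w)]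

/-- A Sylow 2-subgroup of the unitary group of dimension five over four elements has the shape. -/
theorem exists_shape_U5 {F : Type*} [Field F] [Fintype F] (hF : Fintype.card F = 4) :
    ∃ P : Sylow 2 (PSU 5 F 2), Nonempty (Shape (P : Subgroup (PSU 5 F 2))) := by
  have : Fact (Nat.Prime 2) := ⟨Nat.prime_two⟩
  have hK : Fintype.card K4 = 4 := rfl
  obtain ⟨e⟩ := psuFive_congr
    (FiniteField.ringEquivOfCardEq (hK.trans hF.symm) : K4 ≃+* F)
  have hcard : Nat.card (PSU 5 F 2) = 13685760 := by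
    have hc := Cfsg.Agent.S0280.result (show Fintype.card F = 2 ^ 2 by rw [hF]; norm_num) 5 (by norm_num)
    norm_num [Finset.prod_range_succ, Nat.even_iff] at hc
    omega
  have : Finite (PSU 5 F 2) := Nat.finite_of_card_ne_zero (by rw [hcard]; norm_num)
  set f := fun n => e (psuOf n) with hf
  have hmul : ∀ n m, f n * f m = f (mulS n m) := fun n m => by rw [hf]; simp only [← map_mul, psuOf_mul]
  have hinj : Function.Injective f := e.injective.comp psuOf_inj
  have h0 : f 0 = 1 := by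
    have h := hmul 0 0
    rw [(inv_spec 0).2.2.1] at h
    exact mul_eq_left.1 h
  let S0 : Subgroup (PSU 5 F 2) :=
    { carrier := Set.range f
      one_mem' := ⟨0, h0⟩
      mul_mem' := by rintro _ _ ⟨n, rfl⟩ ⟨m, rfl⟩; exact ⟨mulS n m, (hmul n m).symm⟩
      inv_mem' := by
        rintro _ ⟨n, rfl⟩
        exact ⟨invS n, (inv_eq_of_mul_eq_one_right (by rw [hmul, (inv_spec n).1]; exact h0)).symm⟩ }
  let s0 : Shape S0 := { φ := f, mem := fun n => ⟨n, rfl⟩, inj := hinj, surj := fun _ hg => hg, mul := hmul }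
  have hp : IsPGroup 2 ↥S0 := IsPGroup.of_card (n := 10) (by rw [s0.card]; norm_num)
  obtain ⟨P, hP⟩ := hp.exists_le_sylow
  have hP0 : S0 = (P : Subgroup (PSU 5 F 2)) := by
    refine Subgroup.eq_of_le_of_card_ge hP ?_
    rw [P.card_eq_multiplicity, hcard, s0.card,
      show (13685760 : ℕ).factorization 2 = 10 by
        rw [show (13685760 : ℕ) = 2 ^ 10 * 13365 by norm_num,
          Nat.factorization_mul (by norm_num) (by norm_num), Finsupp.add_apply,
          Nat.factorization_pow, Nat.factorization_eq_zero_of_not_dvd (show ¬ 2 ∣ 13365 by norm_num)]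
        simp [Nat.prime_two.factorization_self]]
    norm_num
  exact ⟨P, ⟨s0.ofEquiv (MulEquiv.subgroupCongr hP0)⟩⟩

end Cfsg.Agent.Spor.U52Type
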