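import Cfsg.Agent.Lib.Spor.U52Type.Weakly
import Cfsg.Agent.S0215

/-!
# The five transvections of the elementary subgroup and the conjugates of the central involution
-/

set_option autoImplicit false
set_option linter.unusedSectionVars false
set_option maxRecDepth 100000

namespace Cfsg.Agent.Spor.U52Type

open Subgroup
open Cfsg.Agent.Spor.JTwoType (cI mem_cI card_cI)

universe u

theorem one_not_P : isP 0 = false := by decide +kernel

variable {G : Type u} [Group G] [Finite G]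

namespace Setting

variable (d : Setting G)

/-- The five points. -/
def pt (i : Fin 5) : G := d.s.φ (pts i)

theorem pt_mem (i : Fin 5) : d.pt i ∈ d.subE := d.mem_E.2 (pts_facts.2 i).2

theorem pt_inj : Function.Injective d.pt := fun i j h => pts_facts.1 i j (d.s.inj h)

theorem pt_zero : d.pt 0 = d.z := rfl

theorem exists_pt {g : G} (hg : g ∈ normalizer (d.subE : Set G)) (i : Fin 5) :
    ∃ j, g * d.pt i * g⁻¹ = d.pt j := by
  obtain ⟨k, hk, hW⟩ := d.normalise_W hg
  obtain ⟨n, hnW, hn⟩ := pts_sq i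
  have hmem : g * d.pt i * g⁻¹ ∈ d.subE := (mem_normalizer_iff.1 hg _).1 (d.pt_mem i)
  have heq : k * g * d.pt i * (k * g)⁻¹ = g * d.pt i * g⁻¹ := by
    rw [show k * g * d.pt i * (k * g)⁻¹ = k * (g * d.pt i * g⁻¹) * k⁻¹ by group,
      ← mem_centralizer_iff.1 hk _ hmem, mul_inv_cancel_right]
  obtain ⟨m, hm, hme⟩ := hW _ (d.mem_W.2 hnW)
  have hsq : d.s.φ (mulS m m) = g * d.pt i * g⁻¹ := by
    rw [← heq, ← d.s.mul, hme, Setting.pt, ← hn, ← d.s.mul]
    group
  rcases eq_or_ne (mulS m m) 0 with h0 | h0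
  · exfalso
    rw [h0, d.s.one, eq_comm, ← MulAut.conj_apply, MulEquiv.map_eq_one_iff, Setting.pt, d.s.eq_one] at hsq
    have hi := (pts_facts.2 i).1
    rw [hsq] at hi
    exact absurd hi (by decide +kernel)
  · obtain ⟨j, hj⟩ := (isP_iff _).1 ((inW_sq m hm).2 h0)
    exact ⟨j, by rw [← hsq, ← hj]; rfl⟩

/-- The action on the points, as a function. -/
noncomputable def actF (g : ↥(normalizer (d.subE : Set G))) (i : Fin 5) : Fin 5 := (d.exists_pt g.2 i).choose

theorem actF_spec (g : ↥(normalizer (d.subE : Set G))) (i : Fin 5) :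
    (g : G) * d.pt i * (g : G)⁻¹ = d.pt (d.actF g i) := (d.exists_pt g.2 i).choose_spec

theorem actF_inv (g : ↥(normalizer (d.subE : Set G))) (i : Fin 5) : d.actF g⁻¹ (d.actF g i) = i :=
  d.pt_inj (by rw [← d.actF_spec, ← d.actF_spec, Subgroup.coe_inv]; group)

/-- The action on the points. -/
noncomputable def act : ↥(normalizer (d.subE : Set G)) →* Equiv.Perm (Fin 5) :=
  MonoidHom.mk' (fun g =>
    { toFun := d.actF g
      invFun := d.actF g⁻¹
      left_inv := d.actF_inv g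
      right_inv := fun i => by
        have := d.actF_inv g⁻¹ i
        rwa [inv_inv] at this })
    fun g h => Equiv.ext fun i => d.pt_inj (by
      show d.pt (d.actF (g * h) i) = d.pt (d.actF g (d.actF h i))
      rw [← d.actF_spec, ← d.actF_spec g, ← d.actF_spec h, Subgroup.coe_mul]
      group)

theorem act_spec (g : ↥(normalizer (d.subE : Set G))) (i : Fin 5) :
    (g : G) * d.pt i * (g : G)⁻¹ = d.pt (d.act g i) := d.actF_spec g i

theorem act_eq {g : ↥(normalizer (d.subE : Set G))} {i j : Fin 5}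
    (h : (g : G) * d.pt i * (g : G)⁻¹ = d.pt j) : d.act g i = j :=
  d.pt_inj ((d.act_spec g i).symm.trans h)

/-- A code of the Sylow group as an element of the normaliser. -/
def sN (n : Fin 1024) : ↥(normalizer (d.subE : Set G)) := ⟨d.s.φ n, d.S_le_normalizer_E (d.s.mem n)⟩

theorem act_sN (n : Fin 1024) (i : Fin 5) : d.act (d.sN n) i = vF (res4 n) i :=
  d.act_eq (by
    show d.s.φ n * d.s.φ (pts i) * (d.s.φ n)⁻¹ = d.s.φ (pts (vF (res4 n) i))
    rw [d.s.mul, vF_spec n i, ← d.s.mul, mul_inv_cancel_right])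

theorem conj_rep {n : Fin 1024} (hF : isF n = true) : IsConj (d.s.φ n) (d.s.φ (rF (res4 n))) := by
  obtain ⟨-, g, -, hg⟩ := isF_rep n hF
  exact isConj_iff.2 ⟨d.s.φ g, by rw [d.s.mul, hg, ← d.s.mul, mul_inv_cancel_right]⟩

/-- Conjugates of the centre in the elementary subgroup are points. -/
theorem conj_z_E {x : G} (hx : x ∈ d.subE) (h : IsConj d.z x) : ∃ i, x = d.pt i := by
  obtain ⟨g, rfl⟩ := isConj_iff.1 h
  obtain ⟨n, hn, he⟩ := d.control d.z_mem_E hx
  obtain ⟨j, hj⟩ := d.exists_pt hn 0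
  exact ⟨j, by rw [← he, ← hj]; rfl⟩

/-- A conjugation carrying `x` to `z` and its centraliser in the Sylow group into that group. -/
theorem to_z {x : G} (h : IsConj x d.z) : ∃ k : G, k * x * k⁻¹ = d.z ∧
    ∀ b ∈ (d.S : Subgroup G), b * x = x * b → k * b * k⁻¹ ∈ (d.S : Subgroup G) := by
  obtain ⟨g, hg⟩ := isConj_iff.1 h
  set B := (d.S : Subgroup G) ⊓ centralizer ({x} : Set G)
  have hB : IsPGroup 2 ↥B := d.S.isPGroup'.to_le inf_le_left
  obtain ⟨c, hc, P, hP, -, hSP, hBP⟩ := JTwoType.align (centralizer ({d.z} : Set G)) (cI g B) (d.S : Subgroup G)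
    (hB.map _) (by
      rintro _ ⟨b, hb, rfl⟩
      refine mem_centralizer_singleton_iff.2 ?_
      rw [← hg]
      show g * b * g⁻¹ * (g * x * g⁻¹) = g * x * g⁻¹ * (g * b * g⁻¹)
      calc _ = g * (b * x) * g⁻¹ := by group
        _ = g * (x * b) * g⁻¹ := by rw [mem_centralizer_singleton_iff.1 hb.2]
        _ = _ := by group) d.S.isPGroup'
    (fun s hs => mem_centralizer_singleton_iff.2 (d.comm_z hs))
  rw [d.S.3 hP hSP] at hBP
  refine ⟨c * g, ?_, fun b hb hbx => ?_⟩
  · rw [show c * g * x * (c * g)⁻¹ = c * (g * x * g⁻¹) * c⁻¹ by group, hg,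
      mem_centralizer_singleton_iff.1 hc, mul_inv_cancel_right]
  · have := hBP (mem_cI (g := c) (mem_cI (g := g) (B := B) ⟨hb, mem_centralizer_singleton_iff.2 hbx⟩))
    simpa [mul_assoc] using this

theorem rF_not_z (r : Fin 4) (hr : r ≠ 0) : ¬ IsConj (d.s.φ (rF r)) d.z := by
  intro h
  obtain ⟨k, hk, hS⟩ := d.to_z h
  obtain ⟨a, -, b, -, ha, hb, hca, hcb, hab, hz⟩ := witness_cR r hr
  have hin : ∀ {n}, cR r n = true → k * d.s.φ n * k⁻¹ ∈ (d.S : Subgroup G) := fun {n} hn =>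
    hS _ (d.s.mem n) (d.s.commute.2 (show commS (rF r) n = true by rw [cR_spec r hr]; exact hn)).symm
  obtain ⟨A, hA⟩ := d.s.surj _ (hin hca)
  obtain ⟨B, hB⟩ := d.s.surj _ (hin hcb)
  obtain ⟨X, hX⟩ := d.s.surj _ (hS d.z (d.subE_le d.z_mem_E) (d.comm_z (d.s.mem (rF r))).symm)
  have hab2 : mulS A B = mulS X (mulS B A) := d.s.inj (by
    simp only [← d.s.mul, hA, hB, hX]
    calc k * d.s.φ a * k⁻¹ * (k * d.s.φ b * k⁻¹) = k * (d.s.φ a * d.s.φ b) * k⁻¹ := by group
      _ = k * (d.z * (d.s.φ b * d.s.φ a)) * k⁻¹ := by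
        rw [d.s.mul, hz, ← d.s.mul, ← d.s.mul]; rfl
      _ = _ := by group)
  have hnc : commS A B = false := by
    rw [← Bool.not_eq_true, ← d.s.commute, hA, hB]
    intro e
    have e' : d.s.φ a * d.s.φ b = d.s.φ b * d.s.φ a := by
      have := congrArg (fun t => k⁻¹ * t * k) e
      simpa [mul_assoc] using this
    rw [d.s.commute, hab] at e'
    exact Bool.noConfusion e'
  have hA2 : mulS A A = 0 := d.s.sq.1 (by
    rw [hA, show k * d.s.φ a * k⁻¹ * (k * d.s.φ a * k⁻¹) = k * (d.s.φ a * d.s.φ a) * k⁻¹ by group,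
      d.s.sq.2 (by simp only [isInv, Bool.and_eq_true, beq_iff_eq] at ha; exact ha.2), mul_one, mul_inv_cancel])
  have hB2 : mulS B B = 0 := d.s.sq.1 (by
    rw [hB, show k * d.s.φ b * k⁻¹ * (k * d.s.φ b * k⁻¹) = k * (d.s.φ b * d.s.φ b) * k⁻¹ by group,
      d.s.sq.2 (by simp only [isInv, Bool.and_eq_true, beq_iff_eq] at hb; exact hb.2), mul_one, mul_inv_cancel])
  have hXz : IsConj d.z (d.s.φ X) := isConj_iff.2 ⟨k, hX.symm⟩
  have hXi : isInv X = true := by
    rw [← d.s.orderOf_two, hX, show k * d.z * k⁻¹ = MulAut.conj k d.z from rfl, (MulAut.conj k).orderOf_eq,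
      d.orderOf_z]
  have hX512 : X ≠ 512 := by
    intro e
    rw [e] at hX
    have := d.s.inj ((MulAut.conj k).injective (show MulAut.conj k (d.s.φ (rF r)) = MulAut.conj k (d.s.φ 512) from
      hk.trans hX))
    have h4 : ∀ r : Fin 4, rF r ≠ 512 := by decide
    exact h4 r this
  have hcomm : ∀ {n}, cR r n = true → ∀ N, d.s.φ N = k * d.s.φ n * k⁻¹ → commS X N = true := by
    intro n _ N hN
    refine d.s.commute.1 ?_
    rw [hN, hX]
    calc k * d.z * k⁻¹ * (k * d.s.φ n * k⁻¹) = k * (d.z * d.s.φ n) * k⁻¹ := by group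
      _ = k * (d.s.φ n * d.z) * k⁻¹ := by rw [d.comm_z (d.s.mem n)]
      _ = _ := by group
  by_cases hXE : inE X = true
  · obtain ⟨i, hi⟩ := d.conj_z_E (d.mem_E.2 hXE) hXz
    have hi' : X = pts i := d.s.inj hi
    have hi0 : i ≠ 0 := fun e => hX512 (by rw [hi', e]; rfl)
    have hAE := (inW_sq A (isA_cent i hi0 A (hi' ▸ hcomm hca A hA))).1 hA2
    have hBE := (inW_sq B (isA_cent i hi0 B (hi' ▸ hcomm hcb B hB))).1 hB2
    rw [d.s.commute.1 (d.comm_E_E (d.mem_E.2 hAE) (d.mem_E.2 hBE))] at hnc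
    exact Bool.noConfusion hnc
  · have hF : isF X = true := by simp [isF, hXi, Bool.not_eq_true _ ▸ hXE]
    obtain ⟨hr', g, -, hg⟩ := isF_rep X hF
    set c := d.s.φ g with hc
    have hcX : c * d.s.φ X * c⁻¹ = d.s.φ (rF (res4 X)) := by
      rw [hc, d.s.mul, hg, ← d.s.mul, mul_inv_cancel_right]
    have hmem : ∀ {N}, commS X N = true → ∃ l, d.s.φ (ck (res4 X) l) = c * d.s.φ N * c⁻¹ := by
      intro N hN
      obtain ⟨M, hM⟩ := d.s.surj (c * d.s.φ N * c⁻¹) (mul_mem (mul_mem (d.s.mem g) (d.s.mem N)) (inv_mem (d.s.mem g)))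
      have hcm : commS (rF (res4 X)) M = true := d.s.commute.1 (by
        rw [hM, ← hcX]
        calc c * d.s.φ X * c⁻¹ * (c * d.s.φ N * c⁻¹) = c * (d.s.φ X * d.s.φ N) * c⁻¹ := by group
          _ = c * (d.s.φ N * d.s.φ X) * c⁻¹ := by rw [d.s.commute.2 hN]
          _ = _ := by group)
      rw [cR_spec _ hr'] at hcm
      obtain ⟨l, rfl⟩ := cR_ck _ hr' M hcm
      exact ⟨l, hM⟩
    obtain ⟨la, hla⟩ := hmem (hcomm hca A hA)
    obtain ⟨lb, hlb⟩ := hmem (hcomm hcb B hB)
    rcases comm_cR _ hr' la lb with e | e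
    · have e' := congrArg d.s.φ e
      rw [← d.s.mul, ← d.s.mul, hla, hlb] at e'
      have e'' : d.s.φ A * d.s.φ B = d.s.φ B * d.s.φ A := by
        have := congrArg (fun t => c⁻¹ * t * c) e'
        simpa [mul_assoc] using this
      rw [d.s.commute, hnc] at e''
      exact Bool.noConfusion e''
    · have e' := congrArg d.s.φ e
      rw [← d.s.mul, ← d.s.mul, ← d.s.mul, hla, hlb, show d.s.φ 512 = d.z from rfl] at e'
      refine hX512 (d.s.inj ?_)
      have e2 : d.s.φ A * d.s.φ B = d.z * (d.s.φ B * d.s.φ A) := by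
        have hzc : c⁻¹ * d.z = d.z * c⁻¹ := d.comm_z (inv_mem (d.s.mem g))
        calc d.s.φ A * d.s.φ B = c⁻¹ * (c * d.s.φ A * c⁻¹ * (c * d.s.φ B * c⁻¹)) * c := by group
          _ = c⁻¹ * d.z * (c * d.s.φ B * c⁻¹ * (c * d.s.φ A * c⁻¹)) * c := by rw [e']; group
          _ = _ := by rw [hzc]; group
      rw [d.s.mul, d.s.mul, hab2, ← d.s.mul] at e2
      exact mul_right_cancel e2

/-- An involution of the Sylow group conjugate to the centre is one of the points. -/
theorem isP_of_conj {n : Fin 1024} (hn : isInv n = true) (h : IsConj d.z (d.s.φ n)) : isP n = true := by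
  by_cases hE : inE n = true
  · obtain ⟨i, hi⟩ := d.conj_z_E (d.mem_E.2 hE) h
    exact (isP_iff n).2 ⟨i, (d.s.inj hi).symm⟩
  · have hF : isF n = true := by simp [isF, hn, Bool.not_eq_true _ ▸ hE]
    exact absurd ((d.conj_rep hF).symm.trans h.symm) (d.rF_not_z _ (isF_rep n hF).1)

/-- The centre is moved in the normaliser of the elementary subgroup. -/
theorem moves_z : ∃ g : ↥(normalizer (d.subE : Set G)), d.act g 0 ≠ 0 := by
  by_contra hno
  push Not at hno
  have hiso : ∀ g : G, g * d.z * g⁻¹ ∈ (d.S : Subgroup G) → g * d.z * g⁻¹ = d.z := by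
    intro g hg
    obtain ⟨m, hm⟩ := d.s.surj _ hg
    have hc : IsConj d.z (d.s.φ m) := isConj_iff.2 ⟨g, hm.symm⟩
    have hmi : isInv m = true := by
      rw [← d.s.orderOf_two, hm, show g * d.z * g⁻¹ = MulAut.conj g d.z from rfl, (MulAut.conj g).orderOf_eq,
        d.orderOf_z]
    obtain ⟨i, rfl⟩ := (isP_iff m).1 (d.isP_of_conj hmi hc)
    obtain ⟨n, hn, he⟩ := d.control (g := g) d.z_mem_E (hm ▸ d.pt_mem i)
    have h0 : d.act ⟨n, hn⟩ 0 = i := d.act_eq (by
      show n * d.z * n⁻¹ = d.s.φ (pts i)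
      rw [he, hm])
    rw [hno] at h0
    rw [← hm, ← h0]
    rfl
  obtain ⟨N, hN, hodd, hcomm⟩ := S0215.result d.S d.z d.orderOf_z (d.s.mem 512) hiso
  have := d.simple
  rcases IsSimpleGroup.eq_bot_or_eq_top_of_normal N hN with e | e
  · have hz : d.z ∈ center G := mem_center_iff.2 fun g => by
      have := hcomm g
      rw [e, mem_bot] at this
      calc g * d.z = 1 * g * d.z := by rw [one_mul]
        _ = d.z * g * d.z⁻¹ * g⁻¹ * g * d.z := by rw [this]
        _ = _ := by group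
    rcases IsSimpleGroup.eq_bot_or_eq_top_of_normal (center G) inferInstance with e' | e'
    · rw [e', mem_bot] at hz
      have := d.orderOf_z
      rw [hz, orderOf_one] at this
      norm_num at this
    · exact d.nc ⟨⟨fun a b => (mem_center_iff.1 (e'.symm ▸ mem_top b : b ∈ center G) a)⟩⟩
  · rw [e, Subgroup.card_top] at hodd
    have := orderOf_dvd_natCard d.z
    rw [d.orderOf_z] at this
    exact (Nat.not_even_iff_odd.2 hodd) (even_iff_two_dvd.2 this)

end Setting

end Cfsg.Agent.Spor.U52Type
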