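import Cfsg.Agent.Lib.Spor.U52Type.Code

/-!
# Groups of order 1024 with the shape of the Sylow 2-subgroup of the unitary group of dimension five
-/

set_option autoImplicit false
set_option linter.unusedSectionVars false
set_option maxRecDepth 100000

namespace Cfsg.Agent.Spor.U52Type

open Subgroup

variable {G : Type*} [Group G]

/-- A coordinatisation of a subgroup by the codes. -/
structure Shape (S : Subgroup G) where
  φ : Fin 1024 → G
  mem : ∀ n, φ n ∈ S
  inj : Function.Injective φ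
  surj : ∀ g ∈ S, ∃ n, φ n = g
  mul : ∀ n m, φ n * φ m = φ (mulS n m)

namespace Shape

variable {S : Subgroup G} (s : Shape S)

theorem one : s.φ 0 = 1 := by
  have h : s.φ 0 * s.φ 0 = s.φ 0 := by rw [s.mul, (inv_spec 0).2.2.1]
  exact mul_eq_left.1 h

theorem inv (n : Fin 1024) : (s.φ n)⁻¹ = s.φ (invS n) :=
  inv_eq_of_mul_eq_one_right (by rw [s.mul, (inv_spec n).1, s.one])

theorem conj (g n : Fin 1024) : s.φ g * s.φ n * (s.φ g)⁻¹ = s.φ (conjS g n) := by
  rw [s.inv, s.mul, s.mul]; rfl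

theorem eq_one {n : Fin 1024} : s.φ n = 1 ↔ n = 0 := by rw [← s.one, s.inj.eq_iff]

theorem commute {n m : Fin 1024} : s.φ n * s.φ m = s.φ m * s.φ n ↔ commS n m = true := by
  rw [s.mul, s.mul, s.inj.eq_iff, commS, beq_iff_eq]

theorem sq {n : Fin 1024} : s.φ n * s.φ n = 1 ↔ mulS n n = 0 := by rw [s.mul, s.eq_one]

theorem orderOf_two {n : Fin 1024} : orderOf (s.φ n) = 2 ↔ isInv n = true := by
  rw [orderOf_eq_prime_iff, pow_two, s.sq, Ne, s.eq_one, isInv, Bool.and_eq_true, beq_iff_eq, bne_iff_ne, and_comm]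

/-- A set of codes closed under products as a subgroup. -/
def sub (p : Fin 1024 → Bool) (h1 : p 0 = true) (hm : ∀ n m, p n = true → p m = true → p (mulS n m) = true)
    (hi : ∀ n, p n = true → p (invS n) = true) : Subgroup G where
  carrier := s.φ '' {n | p n = true}
  one_mem' := ⟨0, h1, s.one⟩
  mul_mem' := by
    rintro _ _ ⟨n, hn, rfl⟩ ⟨m, hm', rfl⟩
    exact ⟨mulS n m, hm n m hn hm', (s.mul n m).symm⟩
  inv_mem' := by
    rintro _ ⟨n, hn, rfl⟩
    exact ⟨invS n, hi n hn, (s.inv n).symm⟩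

theorem mem_sub {p : Fin 1024 → Bool} {h1} {hm} {hi} {n : Fin 1024} : s.φ n ∈ s.sub p h1 hm hi ↔ p n = true :=
  ⟨fun ⟨_, hm', e⟩ => s.inj e ▸ hm', fun h => ⟨n, h, rfl⟩⟩

theorem sub_le {p : Fin 1024 → Bool} {h1} {hm} {hi} : s.sub p h1 hm hi ≤ S := by
  rintro _ ⟨n, -, rfl⟩; exact s.mem n

theorem card_sub {p : Fin 1024 → Bool} {h1} {hm} {hi} :
    Nat.card ↥(s.sub p h1 hm hi) = (Finset.univ.filter fun n => p n = true).card := by
  rw [show Nat.card ↥(s.sub p h1 hm hi) = (s.φ '' {n | p n = true}).ncard from Nat.card_coe_set_eq _,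
    Set.ncard_image_of_injective _ s.inj, ← Set.ncard_coe_finset, Finset.coe_filter]
  simp

include s in
theorem card : Nat.card ↥S = 1024 := by
  have h := Nat.card_eq_of_bijective (fun n : Fin 1024 => (⟨s.φ n, s.mem n⟩ : S))
    ⟨fun _ _ h => s.inj (congrArg Subtype.val h), fun ⟨g, hg⟩ => by
      obtain ⟨n, hn⟩ := s.surj g hg
      exact ⟨n, Subtype.ext hn⟩⟩
  rw [← h, Nat.card_eq_fintype_card, Fintype.card_fin]

/-- Transport along an isomorphism of the subgroups. -/
def ofEquiv {H : Type*} [Group H] {T : Subgroup H} (e : ↥S ≃* ↥T) : Shape T where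
  φ n := e ⟨s.φ n, s.mem n⟩
  mem n := (e _).2
  inj _ _ h := s.inj (congrArg Subtype.val (e.injective (Subtype.ext h)))
  surj g hg := by
    obtain ⟨n, hn⟩ := s.surj _ (e.symm ⟨g, hg⟩).2
    refine ⟨n, ?_⟩
    rw [show (⟨s.φ n, s.mem n⟩ : ↥S) = e.symm ⟨g, hg⟩ from Subtype.ext hn, e.apply_symm_apply]
  mul n m := by
    rw [← Subgroup.coe_mul, ← map_mul]
    exact congrArg (fun x : ↥S => ((e x : ↥T) : H)) (Subtype.ext (s.mul n m))

/-- The image under a homomorphism injective on the subgroup. -/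
def map {H : Type*} [Group H] (f : G →* H) (hf : ∀ x ∈ S, f x = 1 → x = 1) : Shape (S.map f) where
  φ n := f (s.φ n)
  mem n := ⟨_, s.mem n, rfl⟩
  inj n m h := s.inj (mul_inv_eq_one.1 (hf _ (S.mul_mem (s.mem n) (S.inv_mem (s.mem m))) (by
    rw [_root_.map_mul, _root_.map_inv, show f (s.φ n) = f (s.φ m) from h, mul_inv_cancel])))
  surj g hg := by
    obtain ⟨x, hx, rfl⟩ := hg
    obtain ⟨n, rfl⟩ := s.surj x hx
    exact ⟨n, rfl⟩
  mul n m := by rw [← _root_.map_mul, s.mul]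

end Shape

end Cfsg.Agent.Spor.U52Type
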