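import Cfsg.Agent.Lib.Spor.U52Type.Local
import Cfsg.Agent.Lib.Spor.U52Type.FusionFacts
import Cfsg.Agent.Lib.Spor.JTwoType.Fusion

/-!
# The elementary subgroup of order sixteen is weakly closed
-/

set_option autoImplicit false
set_option linter.unusedSectionVars false
set_option maxRecDepth 100000

namespace Cfsg.Agent.Spor.U52Type

open Subgroup
open Cfsg.Agent.Spor.JTwoType (cI mem_cI card_cI align conj_into)

universe u

variable {G : Type u} [Group G] [Finite G]

namespace Setting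

variable (d : Setting G)

theorem subE_le : d.subE ≤ (d.S : Subgroup G) := d.s.sub_le

theorem subW_le : d.subW ≤ (d.S : Subgroup G) := d.s.sub_le

theorem mem_E {n : Fin 1024} : d.s.φ n ∈ d.subE ↔ inE n = true := d.s.mem_sub

theorem mem_W {n : Fin 1024} : d.s.φ n ∈ d.subW ↔ inW n = true := d.s.mem_sub

theorem card_E : Nat.card ↥d.subE = 16 := by
  rw [Setting.subE, Shape.card_sub]
  decide +kernel

theorem card_W : Nat.card ↥d.subW = 256 := by
  rw [Setting.subW, Shape.card_sub]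
  decide +kernel

theorem sq_E {x : G} (hx : x ∈ d.subE) : x * x = 1 := by
  obtain ⟨n, hn, rfl⟩ := hx
  exact d.s.sq.2 (E_sq n hn).1

theorem subE_le_subW : d.subE ≤ d.subW := by
  rintro _ ⟨n, hn, rfl⟩
  exact d.mem_W.2 (E_sq n hn).2

theorem comm_W_E {w x : G} (hw : w ∈ d.subW) (hx : x ∈ d.subE) : w * x = x * w := by
  obtain ⟨n, hn, rfl⟩ := hw
  obtain ⟨m, hm, rfl⟩ := hx
  simp only [Set.mem_ofPred_eq, inE, beq_iff_eq] at hm
  refine d.s.commute.2 ?_
  have h := comm_E n ⟨(m : ℕ) / 64, by omega⟩ hn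
  rwa [show (⟨64 * ((m : ℕ) / 64), by omega⟩ : Fin 1024) = m from Fin.ext (by simp only; omega)] at h

theorem comm_E_E {x y : G} (hx : x ∈ d.subE) (hy : y ∈ d.subE) : x * y = y * x :=
  d.comm_W_E (d.subE_le_subW hx) hy

/-- The centraliser of the elementary subgroup in the Sylow group. -/
theorem mem_W_of_comm {x : G} (hx : x ∈ (d.S : Subgroup G)) (h : ∀ y ∈ d.subE, x * y = y * x) : x ∈ d.subW := by
  obtain ⟨n, rfl⟩ := d.s.surj x hx
  refine d.mem_W.2 ((inW_iff n).2 ?_)
  refine ⟨?_, ?_, ?_, ?_⟩ <;> exact d.s.commute.1 (h _ (d.mem_E.2 (by decide +kernel)))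

theorem S_le_normalizer_E : (d.S : Subgroup G) ≤ normalizer (d.subE : Set G) := fun g hg => by
  obtain ⟨k, rfl⟩ := d.s.surj g hg
  refine mem_normalizer_fintype ?_
  rintro _ ⟨n, hn, rfl⟩
  rcases E_cases n hn with rfl | hP | ⟨i, j, -, rfl⟩
  · rw [d.s.one, mul_one, mul_inv_cancel]
    exact one_mem _
  · obtain ⟨i, rfl⟩ := (isP_iff n).1 hP
    rw [d.s.mul, vF_spec k i, ← d.s.mul, mul_inv_cancel_right]
    exact d.mem_E.2 (pts_facts.2 _).2
  · rw [← d.s.mul, show ∀ a b c : G, c * (a * b) * c⁻¹ = c * a * c⁻¹ * (c * b * c⁻¹) from fun a b c => by group,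
      d.s.mul k, d.s.mul k, vF_spec k i, vF_spec k j, ← d.s.mul _ k, ← d.s.mul _ k, mul_inv_cancel_right,
      mul_inv_cancel_right]
    exact mul_mem (d.mem_E.2 (pts_facts.2 _).2) (d.mem_E.2 (pts_facts.2 _).2)

/-- It is the only elementary abelian subgroup of its order. -/
theorem eq_subE {X : Subgroup G} (hX : X ≤ (d.S : Subgroup G)) (hc : ∀ x ∈ X, ∀ y ∈ X, x * y = y * x)
    (hsq : ∀ x ∈ X, x * x = 1) (h16 : Nat.card ↥X = 16) : X = d.subE := by
  refine Subgroup.eq_of_le_of_card_ge ?_ (by rw [d.card_E, h16])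
  intro x hx
  by_contra hxE
  obtain ⟨n, rfl⟩ := d.s.surj x (hX hx)
  have hn : inE n = false := by
    rw [← Bool.not_eq_true]
    exact fun h => hxE (d.mem_E.2 h)
  have hn0 : n ≠ 0 := fun h => by rw [h] at hn; exact absurd hn (by decide)
  have hF : isF n = true := by
    simp only [isF, isInv, hn, Bool.and_eq_true, bne_iff_ne, beq_iff_eq, Bool.not_false, and_true]
    exact ⟨hn0, d.s.sq.1 (hsq _ hx)⟩
  obtain ⟨hr, g, -, hg⟩ := isF_rep n hF
  set r := res4 n
  have hgr : d.s.φ g * d.s.φ n * (d.s.φ g)⁻¹ = d.s.φ (rF r) := by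
    rw [d.s.mul, hg, ← d.s.mul, mul_inv_cancel_right]
  set X' := cI (d.s.φ g) X with hX'
  have hX'S : X' ≤ (d.S : Subgroup G) := by
    rintro _ ⟨y, hy, rfl⟩
    exact mul_mem (mul_mem (d.s.mem g) (hX hy)) (inv_mem (d.s.mem g))
  have hc' : ∀ x ∈ X', ∀ y ∈ X', x * y = y * x := by
    rintro _ ⟨a, ha, rfl⟩ _ ⟨b, hb, rfl⟩
    rw [← map_mul, ← map_mul, hc a ha b hb]
  have hsq' : ∀ x ∈ X', x * x = 1 := by
    rintro _ ⟨a, ha, rfl⟩
    rw [← map_mul, hsq a ha, map_one]
  have hrX : d.s.φ (rF r) ∈ X' := hgr ▸ mem_cI hx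
  have h16' : Nat.card ↥X' = 16 := by rw [hX', card_cI, h16]
  have hcode : ∀ y ∈ X', ∃ k, d.s.φ (ck r k) = y ∧ mulS (ck r k) (ck r k) = 0 := by
    intro y hy
    obtain ⟨m, rfl⟩ := d.s.surj y (hX'S hy)
    have hm : commS (rF r) m = true := d.s.commute.1 (hc' _ hrX _ hy)
    rw [cR_spec r hr] at hm
    obtain ⟨k, rfl⟩ := cR_ck r hr m hm
    exact ⟨k, rfl, d.s.sq.1 (hsq' _ hy)⟩
  have hex : ∃ y ∈ X', ∀ m ∈ ([0, rF r, 512, mulS (rF r) 512] : List (Fin 1024)), y ≠ d.s.φ m := by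
    by_contra hno
    push Not at hno
    have hsub : (X' : Set G) ⊆ d.s.φ '' {m | m ∈ ([0, rF r, 512, mulS (rF r) 512] : List (Fin 1024))} :=
      fun y hy => by
        obtain ⟨m, hm, he⟩ := hno y hy
        exact ⟨m, hm, he.symm⟩
    have h := Set.ncard_le_ncard hsub (Set.toFinite _)
    rw [← Nat.card_coe_set_eq, SetLike.coe_sort_coe, h16', Set.ncard_image_of_injective _ d.s.inj] at h
    have h4 : {m : Fin 1024 | m ∈ ([0, rF r, 512, mulS (rF r) 512] : List (Fin 1024))}.ncard ≤ 4 := by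
      rw [show {m : Fin 1024 | m ∈ ([0, rF r, 512, mulS (rF r) 512] : List (Fin 1024))} =
        (([0, rF r, 512, mulS (rF r) 512] : List (Fin 1024)).toFinset : Set (Fin 1024)) by ext; simp,
        Set.ncard_coe_finset]
      exact (List.toFinset_card_le _).trans (le_of_eq rfl)
    omega
  obtain ⟨y, hy, hne⟩ := hex
  obtain ⟨k, rfl, hk⟩ := hcode y hy
  rcases elem_bound r hr k hk with h | h
  · exact hne _ h rfl
  have hsub : (X' : Set G) ⊆ (fun l => d.s.φ (ck r l)) ''
      {l | l ∈ (List.finRange 64).filter fun l => mulS (ck r l) (ck r l) == 0 && commS (ck r k) (ck r l)} := by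
    intro v hv
    obtain ⟨l, rfl, hl⟩ := hcode v hv
    refine ⟨l, ?_, rfl⟩
    simp only [Set.mem_setOf_eq, List.mem_filter, List.mem_finRange, true_and, Bool.and_eq_true, beq_iff_eq]
    exact ⟨hl, d.s.commute.1 (hc' _ hy _ hv)⟩
  have hb := (Set.ncard_le_ncard hsub (Set.toFinite _)).trans (Set.ncard_image_le (Set.toFinite _))
  rw [← Nat.card_coe_set_eq, SetLike.coe_sort_coe, h16'] at hb
  have h8 : {l : Fin 64 | l ∈ (List.finRange 64).filter fun l =>
      mulS (ck r l) (ck r l) == 0 && commS (ck r k) (ck r l)}.ncard ≤ 8 := by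
    rw [show {l : Fin 64 | l ∈ (List.finRange 64).filter fun l =>
        mulS (ck r l) (ck r l) == 0 && commS (ck r k) (ck r l)} =
      ((((List.finRange 64).filter fun l =>
        mulS (ck r l) (ck r l) == 0 && commS (ck r k) (ck r l)).toFinset : Finset (Fin 64)) : Set (Fin 64)) by
        ext; simp, Set.ncard_coe_finset]
    exact (List.toFinset_card_le _).trans h
  omega

/-- Conjugates inside the Sylow group are equal to it. -/
theorem E_weakly {g : G} (h : ∀ e ∈ d.subE, g * e * g⁻¹ ∈ (d.S : Subgroup G)) :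
    g ∈ normalizer (d.subE : Set G) := by
  have e : cI g d.subE = d.subE := by
    refine d.eq_subE ?_ ?_ ?_ (by rw [card_cI, d.card_E])
    · rintro _ ⟨a, ha, rfl⟩
      exact h a ha
    · rintro _ ⟨a, ha, rfl⟩ _ ⟨b, hb, rfl⟩
      rw [← map_mul, ← map_mul, d.comm_E_E ha hb]
    · rintro _ ⟨a, ha, rfl⟩
      rw [← map_mul, d.sq_E ha, map_one]
  refine mem_normalizer_fintype fun x hx => ?_
  rw [SetLike.mem_coe, ← e]
  exact mem_cI hx

/-- The normaliser of the elementary subgroup controls the fusion of its elements. -/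
theorem control {x g : G} (hx : x ∈ d.subE) (hy : g * x * g⁻¹ ∈ d.subE) :
    ∃ n ∈ normalizer (d.subE : Set G), n * x * n⁻¹ = g * x * g⁻¹ := by
  have hp : IsPGroup 2 ↥d.subE := d.S.isPGroup'.to_le d.subE_le
  obtain ⟨k, hk, P, hP, -, hEP, hgP⟩ := align (centralizer ({g * x * g⁻¹} : Set G)) (cI g d.subE) d.subE
    (hp.map _) (by
      rintro _ ⟨a, ha, rfl⟩
      refine mem_centralizer_singleton_iff.2 ?_
      show g * a * g⁻¹ * (g * x * g⁻¹) = g * x * g⁻¹ * (g * a * g⁻¹)
      calc _ = g * (a * x) * g⁻¹ := by group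
        _ = g * (x * a) * g⁻¹ := by rw [d.comm_E_E ha hx]
        _ = _ := by group) hp
    (fun a ha => mem_centralizer_singleton_iff.2 (d.comm_E_E ha hy))
  obtain ⟨h, hh⟩ := conj_into d.S hP
  have h1 : h ∈ normalizer (d.subE : Set G) := d.E_weakly fun e he => hh (mem_cI (hEP he))
  have h2 : h * k * g ∈ normalizer (d.subE : Set G) := d.E_weakly fun a ha => by
    have := hh (mem_cI (g := h) (hgP (mem_cI (g := k) (mem_cI (g := g) ha))))
    simpa [mul_assoc] using this
  refine ⟨k * g, by simpa [mul_assoc] using mul_mem (inv_mem h1) h2, ?_⟩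
  rw [show k * g * x * (k * g)⁻¹ = k * (g * x * g⁻¹) * k⁻¹ by group, mem_centralizer_singleton_iff.1 hk,
    mul_inv_cancel_right]

/-- An element of the normaliser can be moved to one normalising the centraliser, keeping the action. -/
theorem normalise_W {g : G} (hg : g ∈ normalizer (d.subE : Set G)) :
    ∃ k ∈ centralizer (d.subE : Set G), ∀ w ∈ d.subW, k * g * w * (k * g)⁻¹ ∈ d.subW := by
  have hWC : d.subW ≤ centralizer (d.subE : Set G) := fun w hw =>
    mem_centralizer_iff.2 fun e he => (d.comm_W_E hw he).symm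
  have hp : IsPGroup 2 ↥d.subW := d.S.isPGroup'.to_le d.subW_le
  obtain ⟨k, hk, P, hP, hPC, hWP, hgP⟩ := align (centralizer (d.subE : Set G)) (cI g d.subW) d.subW
    (hp.map _) (by
      rintro _ ⟨a, ha, rfl⟩
      refine mem_centralizer_iff.2 fun e he => ?_
      show e * (g * a * g⁻¹) = g * a * g⁻¹ * e
      have he' : g⁻¹ * e * g ∈ d.subE := (mem_normalizer_iff''.1 hg e).1 he
      calc e * (g * a * g⁻¹) = g * (g⁻¹ * e * g * a) * g⁻¹ := by group
        _ = g * (a * (g⁻¹ * e * g)) * g⁻¹ := by rw [d.comm_W_E ha he']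
        _ = _ := by group) hp hWC
  obtain ⟨h, hh⟩ := conj_into d.S hP
  have h1 : h ∈ normalizer (d.subE : Set G) :=
    d.E_weakly fun e he => hh (mem_cI (hWP (d.subE_le_subW he)))
  have hsub : cI h P ≤ d.subW := by
    rintro _ ⟨a, ha, rfl⟩
    refine d.mem_W_of_comm (hh (mem_cI ha)) fun e he => ?_
    have he' : h⁻¹ * e * h ∈ d.subE := (mem_normalizer_iff''.1 h1 e).1 he
    show h * a * h⁻¹ * e = e * (h * a * h⁻¹)
    calc h * a * h⁻¹ * e = h * (a * (h⁻¹ * e * h)) * h⁻¹ := by group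
      _ = h * (h⁻¹ * e * h * a) * h⁻¹ := by rw [← mem_centralizer_iff.1 (hPC ha) _ he']
      _ = _ := by group
  have hPW : d.subW = P := by
    refine Subgroup.eq_of_le_of_card_ge hWP ?_
    rw [← card_cI h P]
    exact Subgroup.card_le_of_le hsub
  refine ⟨k, hk, fun w hw => ?_⟩
  rw [hPW]
  have := hgP (mem_cI (g := k) (mem_cI (g := g) hw))
  simpa [mul_assoc] using this

end Setting

end Cfsg.Agent.Spor.U52Type
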